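import Cfsg.Agent.Lib.BrouePuig.Product
import Cfsg.Agent.Lib.Blocks.ContribBound
import Cfsg.Agent.Lib.BrauerPairs.Stabilizer

/-!
# Contributions at major Brauer elements
-/

set_option autoImplicit false

namespace CfsgLib.BrouePuig

open Cfsg CfsgLib.Blocks CfsgLib.Blocks.ResidueAlgebra CfsgLib.BrauerPairs
open scoped Classical ComplexConjugate

universe u

variable {p : ℕ} {M : Ideal AlgInt} {G : Type u} [Group G] [Fintype G] {K : Subgroup G}

/-- The contribution to two characters of height zero, divided by the least degree, is a unit. -/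
theorem contrib_unit_of_min (hM : IsPModular p M) {B : Set (IrrCharacter G)}
    {b : Set (IrrCharacter K)} (hind : IsInducedBlock M K b B) {x : G} {z : K}
    (hzx : (z : G) = x) (hz : z ∈ Subgroup.center K) {k : ℕ} (hzk : z ^ p ^ k = 1)
    {χ φ : IrrCharacter G} (hχ : χ ∈ B) (hφ : φ ∈ B) (hχ0 : degVal p χ = minDegVal p B)
    (hφ0 : degVal p φ = minDegVal p B) : ∃ ψ₀ ∈ b, degVal p ψ₀ = minDegVal p b ∧
      ¬ MemLocalIdeal M (contrib p x K b χ φ / (ψ₀ : K → ℂ) 1) := by
  obtain ⟨ψ₀, hψ₀, hψ₀m⟩ := exists_degVal_eq_min (p := p) (IsPBlock.nonempty hM hind.1)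
  set ρ := omega (ψ₀ : K → ℂ) (regClassFun p (ψ₀ : K → ℂ))
  set d₀ : ℂ := (ψ₀ : K → ℂ) 1 with hd₀
  let g : IrrCharacter K → ℂ := fun ψ => (ψ : K → ℂ) 1 / d₀
  let r : IrrCharacter K → IrrCharacter K → ℂ := fun ψ η =>
    omega (η : K → ℂ) (regClassFun p (ψ : K → ℂ))
  have hg : ∀ ψ ∈ b, MemLocalRing M (g ψ) := fun ψ hψ => by
    simp only [g, d₀, irr_one_eq]
    refine natCast_div_LR hM (charDegree_pos ψ₀).ne' (dvd_trans (pow_dvd_pow p ?_)
      (Nat.ordProj_dvd _ _))
    exact (show degVal p ψ₀ ≤ degVal p ψ by rw [hψ₀m]; exact minDegVal_le hψ)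
  have hr : ∀ ψ η : IrrCharacter K, MemLocalRing M (r ψ η) := fun ψ η =>
    omega_LR hM η (regClassFun_isClassFunction (CfsgLib.Char.IsIrrCharacter.isClassFunction ψ.2))
      (regClassFun_LR hM ψ)
  have hρ : MemLocalRing M ρ := hr ψ₀ ψ₀
  have hsame : ∀ ψ ∈ b, ∀ η ∈ b, SameBlock M (ψ : K → ℂ) (η : K → ℂ) := fun ψ hψ η hη =>
    IsPBlock.sameBlock hM hind.1 hψ hη
  have hfst : ∀ ψ ∈ b, MemLocalIdeal M (r ψ ψ₀ - g ψ * ρ) := fun ψ hψ => by
    have e : r ψ ψ₀ = g ψ * r ψ₀ ψ := by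
      simp only [r, g, d₀, omega_regClassFun]
      rw [regInner_comm (ψ : K → ℂ)]
      have := irr_one_ne_zero ψ
      field_simp
    rw [e, ← mul_sub]
    exact LI.mul_left hM (hg ψ hψ) (omega_regClassFun_congr hM ψ₀ (hsame ψ hψ ψ₀ hψ₀))
  have hpair : ∀ ψ η : IrrCharacter K,
      regInner p (ψ : K → ℂ) (η : K → ℂ) / d₀ = g η * r ψ η := fun ψ η => by
    simp only [r, g, omega_regClassFun]
    have := irr_one_ne_zero η
    field_simp
  have hsnd : ∀ ψ ∈ b, ∀ η ∈ b,
      MemLocalIdeal M (g η * r ψ η - g ψ * g η * ρ) := fun ψ hψ η hη => by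
    rw [show g η * r ψ η - g ψ * g η * ρ
      = g η * ((r ψ η - r ψ ψ₀) + (r ψ ψ₀ - g ψ * ρ)) by ring]
    exact LI.mul_left hM (hg η hη)
      (LI.add hM (omega_regClassFun_congr hM ψ (hsame η hη ψ₀ hψ₀)) (hfst ψ hψ))
  let S : IrrCharacter G → ℂ := fun θ => ∑ ψ : IrrCharacter K, blockInd b ψ * resMult θ ψ * g ψ
  have hSLR : ∀ θ, MemLocalRing M (S θ) := fun θ => LR.sum hM fun ψ _ => by
    obtain ⟨n, hn⟩ := resMult_nat θ ψ
    by_cases h : ψ ∈ b
    · rw [hn, blockInd_of_mem h, one_mul]; exact LR.mul hM (LR.natCast hM n) (hg ψ h)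
    · rw [blockInd_of_notMem h, zero_mul, zero_mul]; exact LR.zero hM
  have hS : ∀ θ ∈ B, degVal p θ = minDegVal p B → ¬ MemLocalIdeal M (ρ * S θ) := by
    intro θ hθ hθ0 hI
    refine resRegRatio_not_LI hM hind hθ hθ0 hψ₀ ?_
    have hexp : resRegRatio p K (θ : G → ℂ) (ψ₀ : K → ℂ)
        = ∑ ψ : IrrCharacter K, resMult θ ψ * r ψ ψ₀ := by
      have h := CfsgLib.Char.IsClassFunction.eq_sum_irr
        (CfsgLib.Char.IsCharacter.isClassFunction
          (CfsgLib.Char.IsCharacter.restrict (CfsgLib.Char.isCharacter_irr θ) K))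
      simp only [resRegRatio, r, omega_regClassFun, mul_div, ← Finset.sum_div]
      congr 1
      conv_lhs => rw [h]
      simp only [regInner, resMult, Finset.sum_apply, Pi.smul_apply, smul_eq_mul, Finset.mul_sum,
        Finset.sum_mul]
      rw [Finset.sum_comm]
      exact Finset.sum_congr rfl fun φ _ => Finset.sum_congr rfl fun k _ => by ring
    rw [hexp, show ∑ ψ : IrrCharacter K, resMult θ ψ * r ψ ψ₀
      = ρ * S θ + ∑ ψ : IrrCharacter K, resMult θ ψ * (r ψ ψ₀ - blockInd b ψ * (g ψ * ρ)) by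
        simp only [S, Finset.mul_sum, ← Finset.sum_add_distrib]
        exact Finset.sum_congr rfl fun ψ _ => by ring]
    refine LI.add hM hI (LI.sum hM fun ψ _ => ?_)
    obtain ⟨n, hn⟩ := resMult_nat θ ψ
    rw [hn]
    refine LI.mul_left hM (LR.natCast hM n) ?_
    by_cases h : ψ ∈ b
    · rw [blockInd_of_mem h, one_mul]; exact hfst ψ h
    · rw [blockInd_of_notMem h, zero_mul, sub_zero]
      simp only [r, omega_regClassFun]
      rw [regInner_comm, IsPBlock.regInner_eq_zero hM hind.1 hψ₀ h, zero_div]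
      exact LI.zero hM
  have hcong : MemLocalIdeal M (contrib p x K b χ φ / d₀ - ρ * S χ * S φ) := by
    have e : contrib p x K b χ φ / d₀ - ρ * S χ * S φ
        = ∑ ψ : IrrCharacter K, ∑ η : IrrCharacter K,
            blockInd b ψ * blockInd b η * (resMult χ ψ * resMult φ η) *
              ((centScalar ψ z * centScalar η z⁻¹ - 1) * (g η * r ψ η)
                + (g η * r ψ η - g ψ * g η * ρ)) := by
      rw [contrib_eq_sum hzx hz]
      simp only [S, Finset.mul_sum, Finset.sum_mul, Finset.sum_div, mul_div_assoc, hpair]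
      rw [Finset.sum_comm (f := fun η ψ => ρ * (blockInd b ψ * resMult χ ψ * g ψ) *
        (blockInd b η * resMult φ η * g η)), ← Finset.sum_sub_distrib]
      refine Finset.sum_congr rfl fun ψ _ => ?_
      rw [← Finset.sum_sub_distrib]
      exact Finset.sum_congr rfl fun η _ => by ring
    rw [e]
    refine LI.sum hM fun ψ _ => LI.sum hM fun η _ => ?_
    obtain ⟨a, ha⟩ := resMult_nat χ ψ
    obtain ⟨c, hc⟩ := resMult_nat φ η
    by_cases hψ : ψ ∈ b
    · by_cases hη : η ∈ b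
      · rw [ha, hc, blockInd_of_mem hψ, blockInd_of_mem hη, one_mul, one_mul]
        refine LI.mul_left hM (LR.mul hM (LR.natCast hM a) (LR.natCast hM c))
          (LI.add hM (LI.mul_right hM (LI.root_sub_one hM (k := k) ?_)
            (LR.mul hM (hg η hη) (hr ψ η))) (hsnd ψ hψ η hη))
        rw [mul_pow, centScalar_pow_eq_one ψ hz hzk,
          centScalar_pow_eq_one η (inv_mem hz) (by rw [inv_pow, hzk, inv_one]), one_mul]
      · simp [blockInd_of_notMem hη, LI.zero hM]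
    · simp [blockInd_of_notMem hψ, LI.zero hM]
  refine ⟨ψ₀, hψ₀, hψ₀m, fun hI0 => ?_⟩
  have hI := LI.sub hM hI0 hcong
  rw [sub_sub_cancel] at hI
  refine not_LI_mul hM (LR.mul hM hρ (hSLR χ)) (hSLR φ) (hS χ hχ hχ0) ?_ hI
  exact fun h => hS φ hφ hφ0 (LI.mul_left hM hρ h)

theorem conj_secPart (hM : IsPModular p M) {b : Set (IrrCharacter K)} (hb : IsPBlock M b) {x : G}
    (hK : K = Subgroup.centralizer ({x} : Set G)) (χ : IrrCharacter G) {s : K}
    (hs : ¬ p ∣ orderOf s) :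
    conj (secPart x K b χ s) = secPart x⁻¹ K b χ s⁻¹ := by
  have hx : x ∈ K := by rw [hK, Subgroup.mem_centralizer_singleton_iff]
  have hz : (⟨x, hx⟩ : K) ∈ Subgroup.center K := by
    rw [Subgroup.mem_center_iff]
    intro c
    exact Subtype.ext (Subgroup.mem_centralizer_singleton_iff.1 (hK ▸ c.2))
  have hs' : ¬ p ∣ orderOf s⁻¹ := by rwa [orderOf_inv]
  rw [secPart_eq_sum_mult (z := ⟨x, hx⟩) rfl hz, secPart_eq_sum_mult (z := (⟨x, hx⟩ : K)⁻¹)
    (Subgroup.coe_inv _ _) (inv_mem hz), map_sum]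
  refine Finset.sum_congr rfl fun ψ _ => ?_
  obtain ⟨n, hn⟩ := resMult_nat χ ψ
  have hbi : conj (blockInd b ψ) = blockInd b ψ := by
    by_cases h : ψ ∈ b <;> simp [blockInd, h]
  simp only [map_mul, hn, hbi, map_natCast, conj_centScalar, conj_irr]

theorem secInner_eq_contrib (hM : IsPModular p M) (χ φ : IrrCharacter G) {a : BElem G}
    (hb : IsPBlock M a.2) :
    secInner p χ φ a * (pPartCard p (cenZ a.1) : ℂ)
      = (Nat.card (cenZ a.1) : ℂ) * contrib p a.1 (cenZ a.1) a.2 χ φ := by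
  rw [contrib, secInner, ← mul_assoc, ← mul_assoc, mul_comm (Nat.card (cenZ a.1) : ℂ),
    mul_assoc (pPartCard p (cenZ a.1) : ℂ), mul_inv_cancel₀ Char.card_ne_zero, mul_one, mul_comm]
  congr 1
  exact Finset.sum_congr rfl fun s hs => by
    rw [conj_secPart hM hb (cenZ_eq a.1) φ (Finset.mem_filter.1 hs).2]

theorem center_zpowers_mem (u : G) :
    ∃ z : cenZ u, (z : G) = u ∧ z ∈ Subgroup.center (cenZ u) := by
  have hx : u ∈ cenZ u := by rw [cenZ_eq, Subgroup.mem_centralizer_singleton_iff]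
  refine ⟨⟨u, hx⟩, rfl, ?_⟩
  rw [Subgroup.mem_center_iff]
  intro c
  exact Subtype.ext (Subgroup.mem_centralizer_singleton_iff.1 (cenZ_eq u ▸ c.2))

/-- A character of height zero has a nonzero contribution at every Brauer element of its block. -/
theorem exists_secPart_ne_zero_of_min (hM : IsPModular p M) {B : Set (IrrCharacter G)}
    {a : BElem G} (ha : IsElemOf p M B a) {χ : IrrCharacter G} (hχ : χ ∈ B)
    (h0 : degVal p χ = minDegVal p B) :
    ∃ c : cenZ a.1, ¬ p ∣ orderOf c ∧ secPart a.1 (cenZ a.1) a.2 χ c ≠ 0 := by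
  by_contra hcon
  push Not at hcon
  obtain ⟨z, hzx, hz⟩ := center_zpowers_mem a.1
  obtain ⟨k, hk⟩ := ha.1.1 ⟨a.1, Subgroup.mem_zpowers a.1⟩
  have hzk : z ^ p ^ k = 1 := Subtype.ext (by
    rw [SubgroupClass.coe_pow, hzx]; exact congrArg Subtype.val hk)
  refine contrib_ne_zero_of_min hM
    ((isBrauerPairOf_iff_induced hM ha.1.1 ha.1.2).1 ha) hzx hz hzk hχ hχ h0 h0 ?_
  rw [contrib, Finset.sum_eq_zero fun s hs => ?_, mul_zero]
  rw [hcon s (Finset.mem_filter.1 hs).2, zero_mul]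

/-- At a major Brauer element every character of the block has a nonzero contribution. -/
theorem exists_secPart_ne_zero_of_major (hM : IsPModular p M) {B : Set (IrrCharacter G)}
    {a : BElem G} (ha : IsElemOf p M B a) (hmaj : blockDefect p B ≤ blockDefect p a.2)
    {χ : IrrCharacter G} (hχ : χ ∈ B) :
    ∃ c : cenZ a.1, ¬ p ∣ orderOf c ∧ secPart a.1 (cenZ a.1) a.2 χ c ≠ 0 := by
  by_contra hcon
  push Not at hcon
  haveI := Fact.mk hM.1
  have hB : IsPBlock M B := ha.2.1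
  obtain ⟨χ₀, hχ₀, h0⟩ := exists_degVal_eq_min (p := p) (IsPBlock.nonempty hM hB)
  obtain ⟨z, hzx, hz⟩ := center_zpowers_mem a.1
  obtain ⟨k, hk⟩ := ha.1.1 ⟨a.1, Subgroup.mem_zpowers a.1⟩
  have hzk : z ^ p ^ k = 1 := Subtype.ext (by
    rw [SubgroupClass.coe_pow, hzx]; exact congrArg Subtype.val hk)
  obtain ⟨ψ₀, hψ₀, hψ₀m, hunit⟩ := contrib_unit_of_min hM
    ((isBrauerPairOf_iff_induced hM ha.1.1 ha.1.2).1 ha) hzx hz hzk hχ₀ hχ₀ h0 h0
  -- the indicator of the orbit of `a`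
  set δ : BElem G → ℂ := fun b => if ∃ y, act y a = b then 1 else 0
  have hδ : ∀ y b, δ (act y b) = δ b := by
    intro y b
    refine if_congr ⟨?_, ?_⟩ rfl rfl
    · rintro ⟨x, hx⟩
      exact ⟨y⁻¹ * x, by rw [act_mul, hx, act_inv_act]⟩
    · rintro ⟨x, hx⟩
      exact ⟨y * x, by rw [act_mul, hx]⟩
  set F : G → ℂ := fun g => conj (star hM δ χ₀ g)
  have hFcl : IsClassFunction G F := fun g t =>
    congrArg conj (star_isClassFunction hδ χ₀ g t)
  have hFR : ∀ g, MemLocalRing M (F g) := by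
    intro g
    obtain ⟨y, hgy, huy, hu, hy⟩ := pPart_spec hM.1 g
    have hyK : y ∈ cenZ (pPart p g) := by
      rw [cenZ_eq, Subgroup.mem_centralizer_singleton_iff]; exact huy.eq.symm
    have hyr : ¬ p ∣ orderOf (⟨y, hyK⟩ : cenZ (pPart p g)) := by rwa [← Subgroup.orderOf_coe]
    have e1 := star_eq (hM := hM) δ χ₀ hu ⟨y, hyK⟩ hyr
    simp only [hgy] at e1
    show MemLocalRing M (conj (star hM δ χ₀ g))
    rw [e1, map_sum]
    refine LR.sum hM fun e he => ?_
    rw [map_mul]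
    refine LR.mul hM ?_ ?_
    · simp only [δ]
      split
      · rw [map_one]; exact LR.one hM
      · rw [map_zero]; exact LR.zero hM
    · rw [conj_secPart hM (mem_blockSet.1 he) (cenZ_eq _) χ₀ hyr]
      obtain ⟨z', hz', hz'c⟩ := center_zpowers_mem (pPart p g)
      rw [secPart_eq_sum_mult (z := z'⁻¹) (by rw [Subgroup.coe_inv, hz']) (inv_mem hz'c)]
      refine LR.sum hM fun ψ _ => ?_
      obtain ⟨n, hn⟩ := resMult_nat χ₀ ψ
      rw [hn]
      refine LR.mul hM (LR.mul hM ?_ (LR.mul hM (LR.natCast hM n) ?_))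
        (LR.of_isIntegral hM (irr_isIntegral ψ _))
      · by_cases h : ψ ∈ e
        · rw [blockInd_of_mem h]; exact LR.one hM
        · rw [blockInd_of_notMem h]; exact LR.zero hM
      · refine LR.of_isIntegral hM (CfsgLib.Char.isIntegral_of_pow_eq_one
          (orderOf_pos z'⁻¹).ne' (centScalar_pow_eq_one ψ (inv_mem hz'c) (pow_orderOf_eq_one _)))
  -- the inner product with `F`
  have hkey : ∀ θ : IrrCharacter G,
      (pPartCard p (cenZ a.1) : ℂ) * ((θ : G → ℂ) 1 * omega (θ : G → ℂ) F)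
        = (Nat.card G : ℂ) * contrib p a.1 (cenZ a.1) a.2 θ χ₀ := by
    intro θ
    set T := Finset.univ.filter fun b : BElem G => ∃ y, act y a = b
    have hT : ∀ y ∈ (Finset.univ : Finset G), act y a ∈ T := fun y _ =>
      Finset.mem_filter.2 ⟨Finset.mem_univ _, y, rfl⟩
    have hfib : ∀ b ∈ T, ((Finset.univ : Finset G).filter fun y => act y a = b).card
        = Nat.card (cenZ a.1) := by
      intro b hb
      obtain ⟨y0, hy0⟩ := (Finset.mem_filter.1 hb).2
      rw [Nat.card_eq_fintype_card, ← Finset.card_univ]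
      symm
      refine Finset.card_bij (fun c _ => y0 * (c : G)) ?_ ?_ ?_
      · intro c _
        refine Finset.mem_filter.2 ⟨Finset.mem_univ _, ?_⟩
        rw [act_mul, act_of_mem_centralizer c.2, hy0]
      · intro c _ d _ h
        exact Subtype.ext (mul_left_cancel h)
      · intro y hy
        refine ⟨⟨y0⁻¹ * y, ?_⟩, Finset.mem_univ _, mul_inv_cancel_left _ _⟩
        have h1 : act (y0⁻¹ * y) a = a := by
          rw [act_mul, (Finset.mem_filter.1 hy).2, ← hy0, act_inv_act]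
        have h2 : y0⁻¹ * y * a.1 * (y0⁻¹ * y)⁻¹ = a.1 := congrArg Sigma.fst h1
        rw [cenZ_eq, Subgroup.mem_centralizer_singleton_iff]
        exact mul_inv_eq_iff_eq_mul.1 h2
    have hcard := Finset.card_eq_sum_card_fiberwise hT
    rw [Finset.sum_congr rfl hfib, Finset.sum_const, smul_eq_mul, Finset.card_univ,
      Fintype.card_eq_nat_card] at hcard
    have h1 := classInner_star (hM := hM) (fun _ => (1 : ℂ)) δ θ χ₀
    rw [show star hM (fun _ => (1 : ℂ)) θ = (θ : G → ℂ) from funext (star_one θ), Cfsg.classInner]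
      at h1
    have h2 := mul_left_cancel₀ (inv_ne_zero (Char.card_ne_zero (G := G))) h1
    have h3 : ∑ b ∈ elems p M G, (1 : ℂ) * conj (δ b) * secInner p θ χ₀ b
        = (T.card : ℂ) * secInner p θ χ₀ a := by
      have hsub : T ⊆ elems p M G := fun b hb => by
        obtain ⟨y, rfl⟩ := (Finset.mem_filter.1 hb).2
        exact IsElemOf.mem hM.1 (isElemOf_act y ha)
      rw [← Finset.sum_subset hsub (fun b _ hb => by
          simp only [δ]
          rw [if_neg fun h => hb (Finset.mem_filter.2 ⟨Finset.mem_univ _, h⟩)]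
          simp),
        Finset.sum_congr rfl (g := fun _ => secInner p θ χ₀ a) fun b hb => by
          obtain ⟨y, rfl⟩ := (Finset.mem_filter.1 hb).2
          simp only [δ]
          rw [if_pos ⟨y, rfl⟩, map_one, one_mul, one_mul, secInner_act hM θ χ₀ y ha.1.2],
        Finset.sum_const, nsmul_eq_mul]
    have h4 : (θ : G → ℂ) 1 * omega (θ : G → ℂ) F = (T.card : ℂ) * secInner p θ χ₀ a := by
      rw [omega, mul_div_cancel₀ _ (irr_one_ne_zero θ), ← h3, ← h2]
      exact Finset.sum_congr rfl fun g _ => mul_comm _ _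
    rw [h4, mul_left_comm, mul_comm (pPartCard p (cenZ a.1) : ℂ),
      secInner_eq_contrib hM θ χ₀ ha.1.2, ← mul_assoc, hcard, Nat.cast_mul]
  have hω : omega (χ : G → ℂ) F = 0 := by
    have h := hkey χ
    rw [show contrib p a.1 (cenZ a.1) a.2 χ χ₀ = 0 by
      rw [contrib, Finset.sum_eq_zero fun s hs => ?_, mul_zero]
      rw [hcon s (Finset.mem_filter.1 hs).2, zero_mul], mul_zero, mul_eq_zero, mul_eq_zero] at h
    exact (h.resolve_left (pPartCard_ne_zero hM.1)).resolve_left (irr_one_ne_zero χ)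
  have hω₀ : MemLocalIdeal M (omega (χ₀ : G → ℂ) F) := by
    have h := omega_congr hM (IsPBlock.sameBlock hM hB hχ₀ hχ) hFcl hFR
    rwa [hω, sub_zero] at h
  set q := pPartCard p (cenZ a.1) * charDegree (χ₀ : G → ℂ) with hq
  set r := Nat.card G * charDegree (ψ₀ : cenZ a.1 → ℂ) with hr
  have hr0 : r ≠ 0 := Nat.mul_ne_zero Nat.card_pos.ne' (charDegree_pos ψ₀).ne'
  have hdvd : p ^ r.factorization p ∣ q := by
    have hd1 := blockDefect_add_min (p := p) (IsPBlock.nonempty hM hB)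
    have hd2 : blockDefect p a.2 + minDegVal p a.2 = (Nat.card (cenZ a.1)).factorization p :=
      blockDefect_add_min (IsPBlock.nonempty hM ha.1.2)
    simp only [degVal] at h0 hψ₀m
    rw [hr, Nat.factorization_mul Nat.card_pos.ne' (charDegree_pos ψ₀).ne', Finsupp.add_apply,
      hψ₀m]
    refine dvd_trans (pow_dvd_pow p ?_) (show p ^ ((Nat.card (cenZ a.1)).factorization p +
      (charDegree (χ₀ : G → ℂ)).factorization p) ∣ q from ?_)
    · omega
    · rw [pow_add, hq, pPartCard]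
      exact mul_dvd_mul_left _ (Nat.ordProj_dvd _ _)
  refine hunit ?_
  have h := hkey χ₀
  have e : contrib p a.1 (cenZ a.1) a.2 χ₀ χ₀ / (ψ₀ : cenZ a.1 → ℂ) 1
      = ((q : ℂ) / (r : ℂ)) * omega (χ₀ : G → ℂ) F := by
    rw [irr_one_eq] at h ⊢
    rw [hq, hr, Nat.cast_mul, Nat.cast_mul]
    have hG : (Nat.card G : ℂ) ≠ 0 := Char.card_ne_zero
    have hψ : (charDegree (ψ₀ : cenZ a.1 → ℂ) : ℂ) ≠ 0 :=
      Nat.cast_ne_zero.2 (charDegree_pos ψ₀).ne'
    field_simp
    linear_combination -h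
  rw [e]
  exact LI.mul_left hM (natCast_div_LR hM hr0 hdvd) hω₀

end CfsgLib.BrouePuig
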