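import Cfsg.Agent.Lib.BrouePuig.Fusion
import Cfsg.Agent.Lib.CharDeep.GenChar

/-!
# The product with a fusion-stable character of a maximal pair
-/

set_option autoImplicit false

namespace CfsgLib.BrouePuig

open Cfsg CfsgLib.Blocks CfsgLib.Blocks.ResidueAlgebra CfsgLib.BrauerPairs
open scoped Classical ComplexConjugate

universe u

variable {p : ℕ} [Fact p.Prime] {M : Ideal AlgInt} {G : Type u} [Group G] [Fintype G]
  {B : Set (IrrCharacter G)} {P : Subgroup G}
  {e : Set (IrrCharacter (Subgroup.centralizer (P : Set G)))} {hM : IsPModular p M}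

theorem stable_const (c : ℂ) : Stable p M P e (fun _ : P => c) := fun _ _ _ _ _ => rfl

theorem etaOf_one (hM : IsPModular p M) (hmax : IsMaximalBrauerPair p M B P e) {a : BElem G} (ha : IsElemOf p M B a) :
    etaOf p M P e (fun _ : P => (1 : ℂ)) a = 1 := by
  obtain ⟨y, hy⟩ := (exists_below_iff hM hmax a).2 ha
  rw [etaOf_eq (stable_const 1) hy]

theorem star_etaOf_one (hmax : IsMaximalBrauerPair p M B P e) {χ : IrrCharacter G} (hχ : χ ∈ B) :
    star hM (etaOf p M P e fun _ : P => (1 : ℂ)) χ = (χ : G → ℂ) := by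
  rw [star_congr _ (fun _ => (1 : ℂ)) hmax.1.2.1 hχ fun a ha => etaOf_one hM hmax ha]
  exact funext (star_one χ)

/-- At regular elements the product is a multiple of `χ`. -/
theorem star_etaOf_regular (hmax : IsMaximalBrauerPair p M B P e) {ζ : P → ℂ}
    (hζ : Stable p M P e ζ) {χ : IrrCharacter G} (hχ : χ ∈ B) {x : G} (hx : ¬ p ∣ orderOf x) :
    star hM (etaOf p M P e ζ) χ x = ζ 1 * (χ : G → ℂ) x := by
  have hxK : x ∈ cenZ (1 : G) := by
    rw [cenZ_eq, Subgroup.mem_centralizer_singleton_iff, mul_one, one_mul]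
  have hx' : ¬ p ∣ orderOf (⟨x, hxK⟩ : cenZ (1 : G)) := by rwa [← Subgroup.orderOf_coe]
  have h1 : ∃ k : ℕ, orderOf (1 : G) = p ^ k := ⟨0, by simp⟩
  have e1 := star_eq (hM := hM) (etaOf p M P e ζ) χ h1 ⟨x, hxK⟩ hx'
  have e2 := star_eq (hM := hM) (fun _ => (1 : ℂ)) χ h1 ⟨x, hxK⟩ hx'
  simp only [one_mul, star_one] at e1 e2
  rw [e1, e2, Finset.mul_sum]
  refine Finset.sum_congr rfl fun b hb => ?_
  by_cases hel : IsElemOf p M B ⟨1, b⟩
  · obtain ⟨y, hy⟩ := (exists_below_iff hM hmax _).2 hel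
    rw [etaOf_eq hζ hy]
    congr 2
    exact Subtype.ext (by simp)
  · rw [secPart_eq_zero_of_not_elem hM hχ hmax.1.2.1 (a := ⟨1, b⟩)
      (mem_elems.2 ⟨h1, mem_blockSet.1 hb⟩) hel hx', mul_zero, mul_zero]

/-- The inner product of two products runs over the Brauer elements of `B`. -/
theorem classInner_etaOf (hmax : IsMaximalBrauerPair p M B P e) (ζ : P → ℂ) (η' : BElem G → ℂ)
    (χ ψ : IrrCharacter G) :
    classInner (star hM (etaOf p M P e ζ) χ) (star hM η' ψ) = (Nat.card G : ℂ)⁻¹ *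
      ∑ a : BElem G with IsElemOf p M B a,
        etaOf p M P e ζ a * conj (η' a) * secInner p χ ψ a := by
  rw [classInner_star]
  congr 1
  refine (Finset.sum_subset ?_ ?_).symm
  · intro a ha
    exact IsElemOf.mem hM.1 (Finset.mem_filter.1 ha).2
  · intro a _ ha
    rw [etaOf_eq_zero hM hmax ζ fun h => ha (Finset.mem_filter.2 ⟨Finset.mem_univ _, h⟩),
      zero_mul, zero_mul]

/-- An irreducible product lies in the block. -/
theorem mem_of_eq_star (hmax : IsMaximalBrauerPair p M B P e) {ζ : P → ℂ}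
    {χ φ : IrrCharacter G} (hφ : (φ : G → ℂ) = star hM (etaOf p M P e ζ) χ) : φ ∈ B := by
  by_contra hn
  refine irr_one_ne_zero φ ?_
  have hK : (1 : G) ∈ cenZ (1 : G) := Subgroup.one_mem _
  have h1 : ∃ k : ℕ, orderOf (1 : G) = p ^ k := ⟨0, by simp⟩
  have hr : ¬ p ∣ orderOf (⟨1, hK⟩ : cenZ (1 : G)) := by
    rw [← Subgroup.orderOf_coe, orderOf_one]; exact hM.1.not_dvd_one
  have e1 := star_eq (hM := hM) (etaOf p M P e ζ) χ h1 ⟨1, hK⟩ hr
  simp only [mul_one] at e1
  rw [hφ, e1]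
  refine Finset.sum_eq_zero fun b hb => ?_
  have hb' := mem_blockSet.1 hb
  by_cases hel : IsElemOf p M B ⟨1, b⟩
  · rw [← secPart_star (etaOf p M P e ζ) χ φ hφ h1 hb' hr]
    exact secPart_eq_zero_of_notMem hM (cenZ_eq 1) h1
      ((isBrauerPairOf_iff_induced hM hel.1.1 hb').1 hel) hn hr
  · rw [etaOf_eq_zero hM hmax ζ hel, zero_mul]

end CfsgLib.BrouePuig
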