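import Cfsg.Agent.Lib.BrouePuig.Inertial
import Cfsg.Agent.Lib.BrouePuig.Product
import Cfsg.Agent.Lib.BrouePuig.Major

/-!
# Counting Brauer elements for an abelian defect group

The fusion of an abelian defect group is controlled by the stabilizer `T` of the maximal pair, so
sums over the Brauer elements of the block are sums over `P`.
-/

set_option autoImplicit false

namespace CfsgLib.BrouePuig

open Cfsg CfsgLib.Blocks CfsgLib.BrauerPairs
open scoped Classical ComplexConjugate

universe u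

variable {p : ℕ} [Fact p.Prime] {M : Ideal AlgInt} {G : Type u} [Group G] [Fintype G]
  {B : Set (IrrCharacter G)} {P : Subgroup G}
  {e : Set (IrrCharacter (Subgroup.centralizer (P : Set G)))}

theorem conjPair_of_mem_stab {Q : Subgroup G}
    {f : Set (IrrCharacter (Subgroup.centralizer (Q : Set G)))} {t : G}
    (ht : t ∈ pairStab Q f) : conjPair t ⟨Q, f⟩ = ⟨Q, f⟩ :=
  pair_ext (map_conj_of_mem_normalizer ht.1) fun c => by
    show subgroupBlockCoeff _ (conjBlock Q t f) c = _
    rw [bc_conjBlock', ← ht.2]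
    simp [mul_assoc]

/-- For an abelian maximal subgroup every fusion comes from the stabilizer of the pair. -/
theorem exists_stab_of_moves (hM : IsPModular p M) (hmax : IsMaximalBrauerPair p M B P e)
    (hab : ∀ x ∈ P, ∀ y ∈ P, x * y = y * x) {Q : Subgroup G} {k : G}
    (h : Moves p M P e Q k) :
    ∃ t ∈ pairStab P e, ∀ q ∈ Q, t * q * t⁻¹ = k * q * k⁻¹ := by
  obtain ⟨f, hle, hle'⟩ := h
  have hP := hmax.1.1
  have hQP : Q ≤ P := subgroup_le_of_subpairLE hle
  set Q' : Subgroup G := Q.map (MulAut.conj k).toMonoidHom with hQ'def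
  set f' := conjBlock Q k f
  have hle₂ : SubpairLE p M Q' f' P e := hle'
  have hQ'P : Q' ≤ P := subgroup_le_of_subpairLE hle₂
  have hPC := le_centralizer_of_abelian hab hQP
  have hPC' := le_centralizer_of_abelian hab hQ'P
  have hh : StabHyp p M Q' (Subgroup.centralizer (Q' : Set G)) f' :=
    ⟨isBrauerPair_of_subpairLE hle₂ hP, hQ'P.trans hPC', le_rfl,
      Subgroup.centralizer_le_normalizer _, fun t ht => bc_fixes_of_mem ht f'⟩
  have hcard : Nat.card (P ⊓ Subgroup.centralizer (Q' : Set G) : Subgroup G)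
      = p ^ blockDefect p f' := by
    have hF := isBlockFusionSystemOn_blockFusion hM hmax
    refine (isFullyCentralized_iff hM hF hle₂).1 ⟨hQ'P, fun R _ => ?_⟩
    exact Subgroup.card_le_of_le (le_inf inf_le_left (inf_le_left.trans hPC'))
  have hbd : ∀ (F' : Set (IrrCharacter ↥(Subgroup.centralizer (Q' : Set G))))
      (D : Subgroup ↥(Subgroup.centralizer (Q' : Set G))), IsPBlock M F' →
      (∀ t : ↥(Subgroup.centralizer (Q' : Set G)),
        blockCoeff F' t = subgroupBlockCoeff (Subgroup.centralizer (Q' : Set G)) f' (t : G)) →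
      IsDefectGroup p M F' D → Nat.card D ≤ Nat.card ↥(P ⊓ Subgroup.centralizer (Q' : Set G)) := by
    intro F' D hF' hFc' hD
    refine (card_defect_le_of_aut hM hh hF' hFc' hD (R₀ := ⊥) fun α hα => ?_).trans ?_
    · rw [CfsgLib.Fsys.mem_autInducedBy] at hα ⊢
      obtain ⟨c, hc, hα⟩ := hα
      refine ⟨1, Subgroup.one_mem _, fun q => ?_⟩
      rw [hα, ← Subgroup.mem_centralizer_iff.1 hc q q.2]
      simp
    · have h1 := card_autInducedBy (K := (⊥ : Subgroup G)) (Q := Q') bot_le
      rw [bot_inf_eq, Subgroup.card_bot, mul_one] at h1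
      rw [h1, one_mul, hcard]
  have hnorm : IsNormalSubpair p M Q f P e :=
    normal_of_subpairLE hM hP hle (hPC.trans (Subgroup.centralizer_le_normalizer _))
  have hn : IsNormalSubpair p M Q' f' (P.map (MulAut.conj k).toMonoidHom) (conjBlock P k e) :=
    isNormalSubpair_conj k hnorm
  have hS : P.map (MulAut.conj k).toMonoidHom ≤ Subgroup.centralizer (Q' : Set G) := by
    rintro _ ⟨a, ha, rfl⟩
    exact (conj_mem_centralizer_map_iff Q k a).2 (hPC ha)
  obtain ⟨u, hu, hub⟩ := exists_conj_below_in hM hh hP hle₂ hbd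
    (S := P.map (MulAut.conj k).toMonoidHom) (g := conjBlock P k e) hn hS
  have hub' : Below p M P e (conjPair (u * k) ⟨P, e⟩) := by rw [conjPair_mul]; exact hub
  have hmap : P.map (MulAut.conj (u * k)).toMonoidHom = P :=
    Subgroup.eq_of_le_of_card_ge (Below.le hub')
      (Subgroup.card_map_of_injective (MulAut.conj (u * k)).injective).ge
  have heq := Below.eq hM hP hub' (Relation.ReflTransGen.refl : Below p M P e ⟨P, e⟩) hmap
  refine ⟨u * k, ⟨?_, fun z => ?_⟩, fun q hq => ?_⟩
  · exact CfsgLib.Fsys.mem_normalizer_of_map_le fun a ha => hmap.le ⟨a, ha, rfl⟩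
  · have h1 := congrFun (congrArg (fun a : BrauerPairIdx G =>
      subgroupBlockCoeff (Subgroup.centralizer (a.1 : Set G)) a.2) heq) (u * k * z * (u * k)⁻¹)
    simp only [conjPair] at h1
    rw [bc_conjBlock] at h1
    exact h1.symm
  · have hkq : k * q * k⁻¹ ∈ Q' := ⟨q, hq, rfl⟩
    have h1 := Subgroup.mem_centralizer_iff.1 hu _ hkq
    rw [show u * k * q * (u * k)⁻¹ = u * (k * q * k⁻¹) * u⁻¹ by simp [mul_assoc], ← h1,
      mul_inv_cancel_right]

/-- The stabilizer of the pair acts on the Brauer elements below it. -/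
theorem act_bel_stab (hM : IsPModular p M) (hP : IsBrauerPair p M P e) {t : G}
    (ht : t ∈ pairStab P e) (w : P) :
    act t (bel hM hP w)
      = bel hM hP ⟨t * (w : G) * t⁻¹, (Subgroup.mem_normalizer_iff.1 ht.1 _).1 w.2⟩ := by
  refine eq_bel hM hP ?_ _ rfl
  rw [pair_act]
  have h := conjPair_subpair (p := p) (M := M) t (bel_below hM hP w)
  rwa [conjPair_of_mem_stab ht] at h

theorem stable_of_invariant (hM : IsPModular p M) (hmax : IsMaximalBrauerPair p M B P e)
    (hab : ∀ x ∈ P, ∀ y ∈ P, x * y = y * x) {ζ : P → ℂ}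
    (hζ : ∀ t ∈ pairStab P e, ∀ w w' : P, (w' : G) = t * (w : G) * t⁻¹ → ζ w' = ζ w) :
    Stable p M P e ζ := by
  intro w w' k hk hw
  obtain ⟨t, ht, htk⟩ := exists_stab_of_moves hM hmax hab hk
  exact hζ t ht w w' (by rw [htk _ (Subgroup.mem_zpowers _), hw])

/-- The weight of an element of an abelian defect group. -/
noncomputable def wt (P : Subgroup G) (e : Set (IrrCharacter (Subgroup.centralizer (P : Set G))))
    (w : P) : ℂ :=
  (Nat.card (pairStab P e ⊓ Subgroup.centralizer ({(w : G)} : Set G) : Subgroup G) : ℂ)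
    * ((Nat.card (pairStab P e) : ℂ) *
        (Nat.card (Subgroup.centralizer ({(w : G)} : Set G)) : ℂ))⁻¹

theorem centralizer_conj_mem {w t c : G} :
    t * c * t⁻¹ ∈ Subgroup.centralizer ({t * w * t⁻¹} : Set G)
      ↔ c ∈ Subgroup.centralizer ({w} : Set G) := by
  simp only [Subgroup.mem_centralizer_singleton_iff]
  constructor <;> intro h
  · have := congrArg (fun z => t⁻¹ * z * t) h
    simpa [mul_assoc] using this
  · simp only [mul_assoc, inv_mul_cancel_left]
    rw [← mul_assoc c, h, mul_assoc]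

theorem card_centralizer_conj' (t w : G) :
    Nat.card (Subgroup.centralizer ({t * w * t⁻¹} : Set G))
      = Nat.card (Subgroup.centralizer ({w} : Set G)) := by
  refine (Nat.card_congr (Equiv.subtypeEquiv (MulAut.conj t).toEquiv fun c => ?_)).symm
  exact centralizer_conj_mem.symm

theorem card_inf_centralizer_conj {T : Subgroup G} {t : G} (ht : t ∈ T) (w : G) :
    Nat.card (T ⊓ Subgroup.centralizer ({t * w * t⁻¹} : Set G) : Subgroup G)
      = Nat.card (T ⊓ Subgroup.centralizer ({w} : Set G) : Subgroup G) := by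
  refine (Nat.card_congr (Equiv.subtypeEquiv (MulAut.conj t).toEquiv fun c => ?_)).symm
  refine and_congr ⟨fun h => T.mul_mem (T.mul_mem ht h) (T.inv_mem ht), fun h => ?_⟩
    centralizer_conj_mem.symm
  have := T.mul_mem (T.mul_mem (T.inv_mem ht) h) ht
  simpa [mul_assoc] using this

theorem wt_conj {t : G} (ht : t ∈ pairStab P e) (w w' : P) (h : (w' : G) = t * (w : G) * t⁻¹) :
    wt P e w' = wt P e w := by
  rw [wt, wt, h, card_centralizer_conj', card_inf_centralizer_conj ht]

/-- A sum over the Brauer elements of `B` is a sum over `P`. -/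
theorem sum_elems_abelian (hM : IsPModular p M) (hmax : IsMaximalBrauerPair p M B P e)
    (hab : ∀ x ∈ P, ∀ y ∈ P, x * y = y * x)
    (F : BElem G → ℂ) (hF : ∀ y a, IsElemOf p M B a → F (act y a) = F a) :
    ∑ a : BElem G with IsElemOf p M B a, F a
      = (Nat.card G : ℂ) * ∑ w : P, wt P e w * F (bel hM hmax.1.1 w) := by
  set hP := hmax.1.1
  set S := Finset.univ.filter fun a : BElem G => IsElemOf p M B a
  set T := pairStab P e
  let Φ : G × P → BElem G := fun yw => act yw.1 (bel hM hP yw.2)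
  have hmem : ∀ w, IsElemOf p M B (bel hM hP w) := fun w =>
    isElemOf_of_below hM hmax (bel_below hM hP w)
  have hΦ : ∀ yw ∈ (Finset.univ : Finset (G × P)), Φ yw ∈ S := fun yw _ =>
    Finset.mem_filter.2 ⟨Finset.mem_univ _, isElemOf_act _ (hmem _)⟩
  have h1 : ∑ yw : G × P, wt P e yw.2 * F (Φ yw)
      = (Nat.card G : ℂ) * ∑ w : P, wt P e w * F (bel hM hP w) := by
    rw [Fintype.sum_prod_type]
    simp only [Φ, hF _ _ (hmem _), Finset.sum_const, nsmul_eq_mul, Finset.card_univ,
      Fintype.card_eq_nat_card]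
  rw [← h1, ← Finset.sum_fiberwise_of_maps_to hΦ]
  refine Finset.sum_congr rfl fun a ha => ?_
  obtain ⟨x, hx⟩ := (exists_below_iff hM hmax a).2 (Finset.mem_filter.1 ha).2
  set w0 : P := ⟨x * a.1 * x⁻¹, mem_of_below_act hx⟩
  have hb0 : act x a = bel hM hP w0 := eq_bel hM hP hx w0 rfl
  have ha0 : act x⁻¹ (bel hM hP w0) = a := by rw [← hb0, act_inv_act]
  set Fib := Finset.univ.filter fun yw : G × P => Φ yw = a
  set C := Subgroup.centralizer ({(w0 : G)} : Set G)
  have htN : ∀ t : T, (t : G) ∈ Subgroup.normalizer (P : Set G) := fun t => t.2.1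
  let Ψ : C × T → G × P := fun ct => (x⁻¹ * (ct.1 : G) * (ct.2 : G),
    ⟨(ct.2 : G)⁻¹ * (w0 : G) * (ct.2 : G), by
      have := (Subgroup.mem_normalizer_iff.1 ((Subgroup.normalizer (P : Set G)).inv_mem (htN ct.2))
        (w0 : G)).1 w0.2
      rwa [inv_inv] at this⟩)
  have hΨ : ∀ ct : C × T, Ψ ct ∈ Fib := by
    rintro ⟨c, t⟩
    refine Finset.mem_filter.2 ⟨Finset.mem_univ _, ?_⟩
    show act (x⁻¹ * (c : G) * (t : G)) (bel hM hP _) = a
    rw [act_mul, act_bel_stab hM hP t.2, act_mul]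
    rw [show (⟨(t : G) * ((Ψ (c, t)).2 : G) * (t : G)⁻¹, _⟩ : P) = w0 from
      Subtype.ext (by simp [Ψ, mul_assoc]),
      act_bel_of_centralizer hM hP w0 (Subgroup.mem_centralizer_singleton_iff.1 c.2), ha0]
  have hfib : ∀ yw ∈ Fib, ((Finset.univ : Finset (C × T)).filter fun ct => Ψ ct = yw).card
      = Nat.card (T ⊓ C : Subgroup G) := by
    intro yw hyw
    have hyw' : act yw.1 (bel hM hP yw.2) = a := (Finset.mem_filter.1 hyw).2
    have hk : act (x * yw.1) (bel hM hP yw.2) = bel hM hP w0 := by rw [act_mul, hyw', hb0]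
    have hmv : Moves p M P e (Subgroup.zpowers (yw.2 : G)) (x * yw.1) := by
      refine ⟨(bel hM hP yw.2).2, bel_below hM hP yw.2, ?_⟩
      show Below p M P e (conjPair (x * yw.1) (bel hM hP yw.2).pair)
      rw [← pair_act, hk]
      exact bel_below hM hP w0
    obtain ⟨t, ht, htk⟩ := exists_stab_of_moves hM hmax hab hmv
    have htw : t * (yw.2 : G) * t⁻¹ = (w0 : G) :=
      (htk _ (Subgroup.mem_zpowers _)).trans (congrArg Sigma.fst hk)
    have hcC : x * yw.1 * t⁻¹ ∈ C := by
      refine Subgroup.mem_centralizer_singleton_iff.2 ?_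
      have e1 : x * yw.1 * (yw.2 : G) * (x * yw.1)⁻¹ = (w0 : G) := congrArg Sigma.fst hk
      have e2 : t⁻¹ * (w0 : G) = (yw.2 : G) * t⁻¹ := by rw [← htw]; simp [mul_assoc]
      rw [mul_assoc (x * yw.1), e2, ← mul_assoc, ← mul_assoc (w0 : G), ← e1]
      simp [mul_assoc]
    rw [Nat.card_eq_fintype_card, ← Finset.card_univ]
    symm
    refine Finset.card_bij
      (fun d _ => (⟨x * yw.1 * t⁻¹ * (d : G)⁻¹, C.mul_mem hcC (C.inv_mem (Subgroup.mem_inf.1 d.2).2)⟩,
        ⟨(d : G) * t, T.mul_mem (Subgroup.mem_inf.1 d.2).1 ht⟩)) ?_ ?_ ?_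
    · intro d _
      refine Finset.mem_filter.2 ⟨Finset.mem_univ _, Prod.ext ?_ (Subtype.ext ?_)⟩
      · simp [Ψ, mul_assoc]
      · show ((d : G) * t)⁻¹ * (w0 : G) * ((d : G) * t) = (yw.2 : G)
        have hd := Subgroup.mem_centralizer_singleton_iff.1 (Subgroup.mem_inf.1 d.2).2
        rw [mul_inv_rev, show t⁻¹ * (d : G)⁻¹ * (w0 : G) * ((d : G) * t)
          = t⁻¹ * ((d : G)⁻¹ * ((w0 : G) * (d : G))) * t by simp [mul_assoc], ← hd,
          inv_mul_cancel_left, ← htw]
        simp [mul_assoc]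
    · intro d _ d' _ h
      exact Subtype.ext (mul_right_cancel (congrArg (fun z : C × T => (z.2 : G)) h))
    · rintro ⟨c, u⟩ hcu
      have he := (Finset.mem_filter.1 hcu).2
      have h1' : x⁻¹ * (c : G) * (u : G) = yw.1 := congrArg Prod.fst he
      have h2' : (u : G)⁻¹ * (w0 : G) * (u : G) = (yw.2 : G) :=
        congrArg (fun z : G × P => (z.2 : G)) he
      refine ⟨⟨(u : G) * t⁻¹, Subgroup.mem_inf.2 ⟨T.mul_mem u.2 (T.inv_mem ht),
        Subgroup.mem_centralizer_singleton_iff.2 ?_⟩⟩, Finset.mem_univ _, ?_⟩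
      · have e2 : t⁻¹ * (w0 : G) = (yw.2 : G) * t⁻¹ := by rw [← htw]; simp [mul_assoc]
        rw [mul_assoc, e2, ← h2']
        simp [mul_assoc]
      · refine Prod.ext (Subtype.ext ?_) (Subtype.ext ?_)
        · show x * yw.1 * t⁻¹ * ((u : G) * t⁻¹)⁻¹ = (c : G)
          rw [← h1']
          simp [mul_assoc]
        · simp
  have hcard : (Fintype.card (C × T) : ℂ) = (Fib.card : ℂ) * (Nat.card (T ⊓ C : Subgroup G) : ℂ) := by
    rw [← Finset.card_univ, Finset.card_eq_sum_card_fiberwise fun ct _ => hΨ ct,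
      Finset.sum_congr rfl hfib, Finset.sum_const, smul_eq_mul, Nat.cast_mul]
  rw [Fintype.card_prod, Fintype.card_eq_nat_card, Fintype.card_eq_nat_card] at hcard
  have hconst : ∀ yw ∈ Fib, wt P e yw.2 * F (Φ yw) = wt P e w0 * F a := by
    intro yw hyw
    rw [(Finset.mem_filter.1 hyw).2]
    congr 1
    obtain ⟨⟨c, t⟩, hct⟩ : ∃ ct, Ψ ct = yw := by
      have h := hfib yw hyw
      have hpos : 0 < ((Finset.univ : Finset (C × T)).filter fun ct => Ψ ct = yw).card := by
        rw [h]; exact Nat.card_pos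
      obtain ⟨ct, hct⟩ := Finset.card_pos.1 hpos
      exact ⟨ct, (Finset.mem_filter.1 hct).2⟩
    refine wt_conj (T.inv_mem t.2) w0 yw.2 ?_
    rw [← hct, inv_inv]
  rw [Finset.sum_congr rfl hconst, Finset.sum_const, nsmul_eq_mul, wt]
  have hne : (Nat.card T : ℂ) * (Nat.card C : ℂ) ≠ 0 :=
    mul_ne_zero (Nat.cast_ne_zero.2 Nat.card_pos.ne') (Nat.cast_ne_zero.2 Nat.card_pos.ne')
  rw [← mul_assoc (Fib.card : ℂ), ← mul_assoc (Fib.card : ℂ), ← hcard, Nat.cast_mul,
    mul_comm (Nat.card C : ℂ), mul_inv_cancel₀ hne, one_mul]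

/-- The inner product of two products over an abelian defect group. -/
theorem classInner_star_abelian (hM : IsPModular p M) (hmax : IsMaximalBrauerPair p M B P e)
    (hab : ∀ x ∈ P, ∀ y ∈ P, x * y = y * x) {ζ ζ' : P → ℂ} (hζ : Stable p M P e ζ)
    (hζ' : Stable p M P e ζ') (χ ψ : IrrCharacter G) :
    classInner (star hM (etaOf p M P e ζ) χ) (star hM (etaOf p M P e ζ') ψ)
      = ∑ w : P, wt P e w * (ζ w * conj (ζ' w) * secInner p χ ψ (bel hM hmax.1.1 w)) := by
  rw [classInner_etaOf hmax,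
    sum_elems_abelian hM hmax hab _ fun y a ha => by
      rw [etaOf_act hζ, etaOf_act hζ', secInner_act hM χ ψ y ha.1.2],
    ← mul_assoc, inv_mul_cancel₀ Char.card_ne_zero, one_mul]
  refine Finset.sum_congr rfl fun w _ => ?_
  rw [etaOf_bel hM hmax.1.1 hζ, etaOf_bel hM hmax.1.1 hζ']

/-- The norms of a Brauer element sum to the order of the centralizer times the rank. -/
theorem sum_secInner (hM : IsPModular p M) {a : BElem G} (ha : IsElemOf p M B a) :
    ∑ χ ∈ B.toFinset, secInner p χ χ a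
      = (Nat.card (cenZ a.1) : ℂ) * (blockRank p a.2 : ℂ) := by
  have hu : ∃ k : ℕ, orderOf a.1 = p ^ k := (mem_elems.1 (IsElemOf.mem hM.1 ha)).1
  have hK := centralizer_zpowers a.1
  have hind := (isBrauerPairOf_iff_induced hM ha.1.1 ha.1.2).1 ha
  rw [← sum_sum_secPart_mul hM hK hu ha.1.2]
  refine (Finset.sum_congr rfl fun χ _ => ?_).trans
    (Finset.sum_subset (Finset.subset_univ _) fun χ _ hχ => Finset.sum_eq_zero fun s hs => ?_)
  · rw [secInner]
    refine Finset.sum_congr rfl fun c hc => ?_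
    rw [conj_secPart hM ha.1.2 hK χ (Finset.mem_filter.1 hc).2]
  · rw [secPart_eq_zero_of_notMem hM hK hu hind (by simpa using hχ) (Finset.mem_filter.1 hs).2,
      zero_mul]

/-- The number of irreducible characters as a sum over the defect group. -/
theorem sum_fixed_eq (hM : IsPModular p M) (hmax : IsMaximalBrauerPair p M B P e)
    (hab : ∀ x ∈ P, ∀ y ∈ P, x * y = y * x) {ζ : P → ℂ} (hζ : Stable p M P e ζ) :
    ∑ χ ∈ B.toFinset, classInner (star hM (etaOf p M P e ζ) χ) (χ : G → ℂ)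
      = (Nat.card (pairStab P e) : ℂ)⁻¹ * ∑ w : P,
          (Nat.card (pairStab P e ⊓ Subgroup.centralizer ({(w : G)} : Set G) : Subgroup G) : ℂ)
            * ζ w * (blockRank p (bel hM hmax.1.1 w).2 : ℂ) := by
  have h1 : ∀ χ ∈ B.toFinset, classInner (star hM (etaOf p M P e ζ) χ) (χ : G → ℂ)
      = ∑ w : P, wt P e w * (ζ w * secInner p χ χ (bel hM hmax.1.1 w)) := by
    intro χ hχ
    have h := classInner_star_abelian hM hmax hab hζ (stable_const 1) χ χ
    rw [star_etaOf_one hmax (Set.mem_toFinset.1 hχ)] at h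
    simpa only [map_one, mul_one] using h
  rw [Finset.sum_congr rfl h1, Finset.sum_comm, Finset.mul_sum]
  refine Finset.sum_congr rfl fun w _ => ?_
  rw [← Finset.mul_sum, ← Finset.mul_sum,
    sum_secInner hM (isElemOf_of_below hM hmax (bel_below hM hmax.1.1 w)), wt,
    show Nat.card (cenZ (bel hM hmax.1.1 w).1)
      = Nat.card (Subgroup.centralizer ({(w : G)} : Set G)) from by rw [cenZ_eq]; rfl]
  have hC : (Nat.card (Subgroup.centralizer ({(w : G)} : Set G)) : ℂ) ≠ 0 :=
    Nat.cast_ne_zero.2 Nat.card_pos.ne'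
  field_simp

/-- `k(B)` as a sum over the defect group of the ranks of the blocks below. -/
theorem card_block_eq (hM : IsPModular p M) (hmax : IsMaximalBrauerPair p M B P e)
    (hab : ∀ x ∈ P, ∀ y ∈ P, x * y = y * x) :
    (Nat.card B : ℂ) * (Nat.card (pairStab P e) : ℂ)
      = ∑ w : P,
          (Nat.card (pairStab P e ⊓ Subgroup.centralizer ({(w : G)} : Set G) : Subgroup G) : ℂ)
            * (blockRank p (bel hM hmax.1.1 w).2 : ℂ) := by
  have h := sum_fixed_eq hM hmax hab (ζ := fun _ => 1) (stable_const 1)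
  simp only [mul_one] at h
  rw [Finset.sum_congr rfl (g := fun _ => (1 : ℂ)) fun χ hχ => by
    rw [star_etaOf_one hmax (Set.mem_toFinset.1 hχ), Char.classInner_irr_self χ.2],
    Finset.sum_const, nsmul_eq_mul, mul_one,
    show (B.toFinset.card : ℂ) = (Nat.card B : ℂ) by
      rw [Nat.card_eq_fintype_card, Set.toFinset_card]] at h
  rw [h, mul_comm, mul_inv_cancel_left₀ (Nat.cast_ne_zero.2 Nat.card_pos.ne')]

end CfsgLib.BrouePuig
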