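import Cfsg.Agent.Lib.BrouePuig.InertialNested
import Cfsg.Agent.Lib.BrouePuig.AbelianCount

/-!
# The rank of the block induced inside an intermediate subgroup
-/

set_option autoImplicit false
set_option maxHeartbeats 800000

namespace CfsgLib.BrouePuig

open Cfsg CfsgLib.Blocks CfsgLib.BrauerPairs
open scoped Classical ComplexConjugate

universe u

variable {p : ℕ} {M : Ideal AlgInt} {G : Type u} [Group G] [Fintype G] {P : Subgroup G}
  {c : Set (IrrCharacter (Subgroup.centralizer (P : Set G)))}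

theorem blockRank_image {K K' : Type*} [Group K] [Group K'] [Fintype K] [Fintype K'] (φ : K ≃* K')
    (e : Set (IrrCharacter K')) : blockRank p (irrEquiv φ '' e) = blockRank p e := by
  rw [blockRank, blockRank]
  let L : (K' → ℂ) ≃ₗ[ℂ] (K → ℂ) := LinearEquiv.funCongrLeft ℂ ℂ φ.toEquiv
  have h : (fun χ : IrrCharacter K => pRegularPart p (χ : K → ℂ)) '' (irrEquiv φ '' e)
      = L '' ((fun χ : IrrCharacter K' => pRegularPart p (χ : K' → ℂ)) '' e) := by
    rw [Set.image_image, Set.image_image]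
    refine Set.image_congr fun χ _ => funext fun k => ?_
    show pRegularPart p ((irrEquiv φ χ : IrrCharacter K) : K → ℂ) k
      = pRegularPart p (χ : K' → ℂ) (φ k)
    rw [pRegularPart_apply, pRegularPart_apply, irrEquiv_apply, IsPRegular, IsPRegular,
      MulEquiv.orderOf_eq]
  rw [h, show L '' ((fun χ : IrrCharacter K' => pRegularPart p (χ : K' → ℂ)) '' e)
      = (L : (K' → ℂ) →ₗ[ℂ] (K → ℂ)) '' ((fun χ : IrrCharacter K' => pRegularPart p (χ : K' → ℂ)) '' e)
      from rfl, Submodule.span_image]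
  exact LinearEquiv.finrank_map_eq L _

/-- Induction inside an intermediate subgroup gives a unique block. -/
theorem inducedIn_unique (hM : IsPModular p M) {H K : Subgroup G} (hle : K ≤ H)
    {d : Set (IrrCharacter K)} {f f' : Set (IrrCharacter H)}
    (h : IsInducedBlockIn M H K d f) (h' : IsInducedBlockIn M H K d f') : f = f' := by
  have hiff : ∀ x : H, (x : G) ∈ K ↔ x ∈ K.subgroupOf H := fun x => Subgroup.mem_subgroupOf.symm
  exact IsInducedBlock.unique hM ((isInducedBlockIn_iff hle hiff d f h.1).2 h)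
    ((isInducedBlockIn_iff hle hiff d f' h.1).2 h')

/-- The rank of the block of `K` induced by `c`. -/
noncomputable def lrank (p : ℕ) (M : Ideal AlgInt) (P : Subgroup G)
    (c : Set (IrrCharacter (Subgroup.centralizer (P : Set G)))) (K : Subgroup G) : ℕ :=
  if h : ∃ g : Set (IrrCharacter K), IsInducedBlockIn M K (Subgroup.centralizer (P : Set G)) c g
  then blockRank p h.choose else 0

theorem lrank_eq (hM : IsPModular p M) {K : Subgroup G}
    (hCK : Subgroup.centralizer (P : Set G) ≤ K) {g : Set (IrrCharacter K)}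
    (hg : IsInducedBlockIn M K (Subgroup.centralizer (P : Set G)) c g) :
    lrank p M P c K = blockRank p g := by
  have h : ∃ g : Set (IrrCharacter K),
      IsInducedBlockIn M K (Subgroup.centralizer (P : Set G)) c g := ⟨g, hg⟩
  rw [lrank, dif_pos h, inducedIn_unique hM hCK h.choose_spec hg]

theorem lrank_top (hM : IsPModular p M) {B : Set (IrrCharacter G)}
    (hB : IsInducedBlock M (Subgroup.centralizer (P : Set G)) c B) :
    lrank p M P c ⊤ = blockRank p B := by
  let φ : (⊤ : Subgroup G) ≃* G := Subgroup.topEquiv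
  have hg : IsInducedBlockIn M ⊤ (Subgroup.centralizer (P : Set G)) c (irrEquiv φ '' B) := by
    refine ⟨hB.1, isPBlock_image φ hB.2.1, ?_⟩
    rintro ξ hξ _ ⟨χ, hχ, rfl⟩ h
    have h1 := hB.2.2 ξ hξ χ hχ (h : G)
    have e1 : centralChar ((irrEquiv φ χ : IrrCharacter (⊤ : Subgroup G)) : (⊤ : Subgroup G) → ℂ) h
        = centralChar (χ : G → ℂ) (h : G) := centralChar_irrEquiv φ (χ : G → ℂ) h
    have e2 : inducedCentralCharIn ⊤ (Subgroup.centralizer (P : Set G))
          (ξ : Subgroup.centralizer (P : Set G) → ℂ) (h : G)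
        = inducedCentralChar (Subgroup.centralizer (P : Set G))
          (ξ : Subgroup.centralizer (P : Set G) → ℂ) (h : G) := by
      rw [inducedCentralCharIn, inducedCentralChar]
      refine finsum_congr fun k => finsum_congr_Prop ?_ fun _ => rfl
      refine propext ⟨fun ⟨x, hx⟩ => ?_, fun hk => ?_⟩
      · exact (isConj_iff.2 ⟨(x : G), hx⟩ : IsConj (k : G) (h : G)).symm
      · obtain ⟨x, hx⟩ := isConj_iff.1 (hk : IsConj (h : G) (k : G)).symm
        exact ⟨⟨x, Subgroup.mem_top x⟩, hx⟩
    rw [e1, e2]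
    exact h1
  rw [lrank_eq hM le_top hg, blockRank_image]

theorem exists_lrank (hM : IsPModular p M) {K : Subgroup G} (hPK : P ≤ K) (hPp : IsPGroup p P)
    (hCK : Subgroup.centralizer (P : Set G) ≤ K) (hc : IsPBlock M c) :
    ∃ g, IsInducedBlockIn M K (Subgroup.centralizer (P : Set G)) c g
      ∧ lrank p M P c K = blockRank p g := by
  obtain ⟨g, hg⟩ := exists_inducedIn hM hPK hPp hCK hc
  exact ⟨g, hg, lrank_eq hM hCK hg⟩

/-- The rank seen inside an intermediate group. -/
theorem lrank_nested (hM : IsPModular p M) {H K : Subgroup G} (hKH : K ≤ H) (hPK : P ≤ K)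
    (hPp : IsPGroup p P) (hCK : Subgroup.centralizer (P : Set G) ≤ K) (hc : IsPBlock M c)
    (hCH : Subgroup.centralizer (P : Set G) ≤ H)
    (hiff : ∀ x : H, (x : G) ∈ Subgroup.centralizer (P : Set G)
      ↔ x ∈ Subgroup.centralizer (P.subgroupOf H : Set H)) :
    lrank p M (P.subgroupOf H) (irrEquiv (nestIso hCH hiff) '' c) (K.subgroupOf H)
      = lrank p M P c K := by
  obtain ⟨g, hg, hgr⟩ := exists_lrank hM hPK hPp hCK hc
  have hiffK : ∀ x : H, (x : G) ∈ K ↔ x ∈ K.subgroupOf H := fun x => Subgroup.mem_subgroupOf.symm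
  set φ := nestIso hKH hiffK
  set ψ := nestIso hCH hiff
  have hin : IsInducedBlockIn M (K.subgroupOf H) (Subgroup.centralizer (P.subgroupOf H : Set H))
      (irrEquiv ψ '' c) (irrEquiv φ '' g) := by
    refine ⟨isPBlock_image _ hc, isPBlock_image _ hg.2.1, ?_⟩
    rintro _ ⟨ξ, hξ, rfl⟩ _ ⟨χ, hχ, rfl⟩ n
    rw [show centralChar ((irrEquiv φ χ : IrrCharacter (K.subgroupOf H)) : (K.subgroupOf H) → ℂ) n
      = centralChar (χ : K → ℂ) (φ n) from centralChar_irrEquiv φ (χ : K → ℂ) n]
    have e : inducedCentralCharIn (K.subgroupOf H) (Subgroup.centralizer (P.subgroupOf H : Set H))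
          ((irrEquiv ψ ξ : IrrCharacter _) : _ → ℂ) (n : H)
        = inducedCentralCharIn K (Subgroup.centralizer (P : Set G))
            (ξ : Subgroup.centralizer (P : Set G) → ℂ) (φ n : G) := by
      rw [inducedCentralCharIn, inducedCentralCharIn]
      refine finsum_mem_eq_of_bijOn ψ ⟨?_, ψ.injective.injOn, ?_⟩ fun k _ => ?_
      · rintro k ⟨x, hx⟩
        exact ⟨φ x, congrArg Subtype.val hx⟩
      · rintro k ⟨x, hx⟩
        refine ⟨ψ.symm k, ⟨φ.symm x, Subtype.ext ?_⟩, ψ.apply_symm_apply k⟩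
        exact hx
      · rw [irrEquiv_apply, irrEquiv_apply, map_one]
    rw [e]
    exact hg.2.2 ξ hξ χ hχ _
  rw [lrank_eq hM (fun x hx => Subgroup.mem_subgroupOf.2 (hCK ((hiff x).2 hx))) hin, hgr,
    blockRank_image]

/-- The Brauer element over `w` is the block induced inside the centralizer of `w`. -/
theorem bel_inducedIn [Fact p.Prime] (hM : IsPModular p M) (hP : IsBrauerPair p M P c)
    (hab : ∀ x ∈ P, ∀ y ∈ P, x * y = y * x) (w : P) :
    IsInducedBlockIn M (cenZ (w : G)) (Subgroup.centralizer (P : Set G)) c (bel hM hP w).2 := by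
  have hQP : Subgroup.zpowers (w : G) ≤ P := Subgroup.zpowers_le.2 w.2
  obtain ⟨f, hf⟩ := exists_inducedIn hM (H := cenZ (w : G)) (le_centralizer_of_abelian hab hQP) hP.1
    (centralizer_le_centralizer hQP) hP.2
  have hle : SubpairLE p M (Subgroup.zpowers (w : G)) f P c :=
    Relation.ReflTransGen.single (normalSubpair_of_inducedIn hM hQP hab hP.1 hf)
  have e := (existsUnique_below hM hP hQP).unique hle (bel_below hM hP w)
  rw [e] at hf
  exact hf

theorem blockRank_bel [Fact p.Prime] (hM : IsPModular p M) (hP : IsBrauerPair p M P c)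
    (hab : ∀ x ∈ P, ∀ y ∈ P, x * y = y * x) (w : P) :
    blockRank p (bel hM hP w).2 = lrank p M P c (cenZ (w : G)) :=
  (lrank_eq hM (centralizer_le_centralizer (Subgroup.zpowers_le.2 w.2))
    (bel_inducedIn hM hP hab w)).symm

theorem pairStab_subgroupOf {H : Subgroup G} (hPH : P ≤ H)
    (hCH : Subgroup.centralizer (P : Set G) ≤ H)
    (hiff : ∀ x : H, (x : G) ∈ Subgroup.centralizer (P : Set G)
      ↔ x ∈ Subgroup.centralizer (P.subgroupOf H : Set H))
    (c : Set (IrrCharacter (Subgroup.centralizer (P : Set G)))) :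
    pairStab (P.subgroupOf H) (irrEquiv (nestIso hCH hiff) '' c) = (pairStab P c).subgroupOf H := by
  ext x
  constructor
  · intro hx
    refine ⟨Subgroup.mem_normalizer_iff.2 fun a => ⟨fun ha => ?_, fun ha => ?_⟩, fun g => ?_⟩
    · exact (Subgroup.mem_normalizer_iff.1 hx.1 ⟨a, hPH ha⟩).1 ha
    · have ha' : a ∈ H := by
        simpa [mul_assoc] using Subgroup.mul_mem _ (Subgroup.mul_mem _
          (Subgroup.inv_mem _ x.2) (hPH ha)) x.2
      exact (Subgroup.mem_normalizer_iff.1 hx.1 ⟨a, ha'⟩).2 ha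
    · by_cases hg : g ∈ H
      · have h1 := hx.2 ⟨g, hg⟩
        rw [bc_image_nestIso, bc_image_nestIso] at h1
        exact h1
      · rw [bc_of_notMem fun hc => hg ?_, bc_of_notMem fun hc => hg (hCH hc)]
        have := Subgroup.mul_mem _ (Subgroup.mul_mem _ (Subgroup.inv_mem _ x.2) (hCH hc)) x.2
        simpa [mul_assoc] using this
  · intro hx
    refine ⟨Subgroup.mem_normalizer_iff.2 fun a => Subgroup.mem_normalizer_iff.1 hx.1 (a : G),
      fun g => ?_⟩
    rw [bc_image_nestIso, bc_image_nestIso]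
    exact hx.2 (g : G)

end CfsgLib.BrouePuig
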