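import Cfsg.Agent.Lib.BrouePuig.InertialNested
import Mathlib.Algebra.Group.Subgroup.Basic

/-!
# The inertial quotient of a cyclic defect group
-/

set_option autoImplicit false

namespace CfsgLib.BrouePuig

open Cfsg CfsgLib.Blocks CfsgLib.BrauerPairs
open scoped Classical ComplexConjugate

variable {G : Type*} [Group G] [Fintype G] {p : ℕ}

omit [Fintype G] in
theorem mem_centralizer_iff_conj {P : Subgroup G} {g : G} :
    g ∈ Subgroup.centralizer (P : Set G) ↔ ∀ x ∈ P, g * x * g⁻¹ = x :=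
  Subgroup.mem_centralizer_iff.trans (forall₂_congr fun x _ =>
    ⟨fun h => by rw [← h, mul_inv_cancel_right], fun h => (mul_inv_eq_iff_eq_mul.1 h).symm⟩)

/-- An element acting on a cyclic group acts by a power. -/
theorem exists_exp {P : Subgroup G} (hcyc : IsCyclic P) {g : G}
    (hg : g ∈ Subgroup.normalizer (P : Set G)) : ∃ m : ℤ, ∀ x ∈ P, g * x * g⁻¹ = x ^ m := by
  obtain ⟨m, hm⟩ := MonoidHom.map_cyclic
    ((MulAut.conjNormal (H := P.subgroupOf (Subgroup.normalizer (P : Set G))) ⟨g, hg⟩).toMonoidHom.comp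
      (MonoidHom.id _) |> fun φ => ((Subgroup.subgroupOfEquivOfLe (Subgroup.le_normalizer (H := P))).toMonoidHom.comp φ).comp
        (Subgroup.subgroupOfEquivOfLe (Subgroup.le_normalizer (H := P))).symm.toMonoidHom)
  exact ⟨m, fun x hx => congrArg Subtype.val (hm ⟨x, hx⟩)⟩

theorem conj_pow_iterate {P : Subgroup G} {g : G} {m : ℤ} (h : ∀ x ∈ P, g * x * g⁻¹ = x ^ m) :
    ∀ (n : ℕ), ∀ x ∈ P, g ^ n * x * (g ^ n)⁻¹ = x ^ (m ^ n) := by
  intro n
  induction n with
  | zero => intro x _; simp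
  | succ n ih =>
    intro x hx
    rw [pow_succ, show g ^ n * g * x * (g ^ n * g)⁻¹ = g ^ n * (g * x * g⁻¹) * (g ^ n)⁻¹ by group,
      h x hx, ih _ (Subgroup.zpow_mem _ hx m), pow_succ', zpow_mul]

variable [Fact p.Prime] {M : Ideal AlgInt} {B : Set (IrrCharacter G)} {P : Subgroup G}
  {c : Set (IrrCharacter (Subgroup.centralizer (P : Set G)))}

/-- The inertial quotient has order prime to `p` (abelian defect group). -/
theorem not_dvd_relIndex (hM : IsPModular p M) (hmax : IsMaximalBrauerPair p M B P c)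
    (hab : ∀ x ∈ P, ∀ y ∈ P, x * y = y * x) :
    ¬ p ∣ (Subgroup.centralizer (P : Set G)).relIndex (pairStab P c) := by
  intro hdvd
  obtain ⟨-, hst⟩ := of_isMaximal hM hmax
  have hPC : P ⊔ Subgroup.centralizer (P : Set G) = Subgroup.centralizer (P : Set G) :=
    sup_eq_right.2 (le_centralizer_of_abelian hab le_rfl)
  haveI : ((Subgroup.centralizer (P : Set G)).subgroupOf (pairStab P c)).Normal :=
    Subgroup.normal_subgroupOf_iff_le_normalizer (centralizer_le_pairStab c) |>.2
      ((pairStab_le_normalizer c).trans (normalizer_le_normalizer_centralizer P))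
  set N := (Subgroup.centralizer (P : Set G)).subgroupOf (pairStab P c)
  obtain ⟨q, hq⟩ := exists_prime_orderOf_dvd_card' (G := pairStab P c ⧸ N) p
    (by rw [← Subgroup.index_eq_card]; exact hdvd)
  obtain ⟨t, rfl⟩ := QuotientGroup.mk'_surjective N q
  obtain ⟨z, y, -, hzy, -, hreg, ⟨k, hk⟩, -, -⟩ :=
    exists_isPPart (G := pairStab P c) (Fact.out : p.Prime) t
  have hzN : z ∈ N := by
    have h := hst (z : G) (pairStab_le_normalizer c z.2) ((mem_pairStab _).1 z.2).2
      ⟨k, by rw [Subgroup.orderOf_coe]; exact hk⟩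
    rw [hPC] at h
    exact h
  have h1 : (QuotientGroup.mk' N) (z⁻¹ * t) = QuotientGroup.mk' N t := by
    rw [map_mul, map_inv, show (QuotientGroup.mk' N) z = 1 from
      (QuotientGroup.eq_one_iff z).2 hzN, inv_one, one_mul]
  have h3 : z⁻¹ * t = y := by rw [← hzy, inv_mul_cancel_left]
  have h2 : p ∣ orderOf (z⁻¹ * t) := by
    have := orderOf_map_dvd (QuotientGroup.mk' N) (z⁻¹ * t)
    rwa [h1, hq] at this
  exact hreg (h3 ▸ h2)

/-- An element of the stabilizer fixing a nontrivial element of cyclic `P` centralizes `P`. -/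
theorem free_of_cyclic (hM : IsPModular p M) (hmax : IsMaximalBrauerPair p M B P c)
    (hcyc : IsCyclic P) {g : G} (hg : g ∈ pairStab P c) {x : G} (hx : x ∈ P) (hx1 : x ≠ 1)
    (hfix : g * x * g⁻¹ = x) : g ∈ Subgroup.centralizer (P : Set G) := by
  have hp : p.Prime := Fact.out
  obtain ⟨m, hm⟩ := exists_exp hcyc (pairStab_le_normalizer c hg)
  obtain ⟨a, ha⟩ := hmax.1.1.1.exists_card_eq
  -- `m ≡ 1` modulo `p`
  have h1 : x ^ (m - 1) = 1 := by rw [zpow_sub, zpow_one, ← hm x hx, hfix, mul_inv_cancel]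
  have hord : p ∣ orderOf x := by
    obtain ⟨k, hk⟩ := (hmax.1.1.1 ⟨x, hx⟩)
    have h2 : x ^ p ^ k = 1 := congrArg Subtype.val hk
    obtain ⟨j, -, hj⟩ := (Nat.dvd_prime_pow hp).1 (orderOf_dvd_of_pow_eq_one h2)
    rw [hj]
    refine dvd_pow_self p fun h0 => hx1 ?_
    rw [h0, pow_zero] at hj
    exact orderOf_eq_one_iff.1 hj
  have hdiv : (p : ℤ) ∣ m - 1 :=
    (Int.natCast_dvd_natCast.2 hord).trans (orderOf_dvd_iff_zpow_eq_one.2 h1)
  have h2 := dvd_sub_pow_of_dvd_sub hdiv a
  rw [one_pow] at h2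
  have hpow : g ^ p ^ a ∈ Subgroup.centralizer (P : Set G) := by
    refine mem_centralizer_iff_conj.2 fun y hy => ?_
    rw [conj_pow_iterate hm _ y hy]
    have h3 : (orderOf y : ℤ) ∣ m ^ p ^ a - 1 := by
      refine (Int.natCast_dvd_natCast.2 (?_ : orderOf y ∣ p ^ (a + 1))).trans (by
        push_cast; exact h2)
      rw [pow_succ, ← ha]
      exact (Subgroup.orderOf_dvd_natCard P hy).trans (dvd_mul_right _ _)
    have h4 := orderOf_dvd_iff_zpow_eq_one.1 h3
    rw [zpow_sub, zpow_one, mul_inv_eq_one] at h4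
    exact h4
  haveI : ((Subgroup.centralizer (P : Set G)).subgroupOf (pairStab P c)).Normal :=
    Subgroup.normal_subgroupOf_iff_le_normalizer (centralizer_le_pairStab c) |>.2
      ((pairStab_le_normalizer c).trans (normalizer_le_normalizer_centralizer P))
  set N := (Subgroup.centralizer (P : Set G)).subgroupOf (pairStab P c)
  set q : pairStab P c ⧸ N := QuotientGroup.mk' N ⟨g, hg⟩
  have hq1 : q ^ p ^ a = 1 := by
    rw [← map_pow]
    exact (QuotientGroup.eq_one_iff _).2 hpow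
  have hcop : Nat.Coprime (p ^ a) (Nat.card (pairStab P c ⧸ N)) := by
    refine Nat.Coprime.pow_left _ ((Nat.Prime.coprime_iff_not_dvd hp).2 ?_)
    rw [← Subgroup.index_eq_card]
    exact not_dvd_relIndex hM hmax (abelian_of_isCyclic hcyc)
  have hq : q = 1 := orderOf_eq_one_iff.1 (Nat.eq_one_of_dvd_coprimes hcop
    (orderOf_dvd_of_pow_eq_one hq1) (orderOf_dvd_natCard q))
  exact (QuotientGroup.eq_one_iff (⟨g, hg⟩ : pairStab P c)).1 hq

/-- The inertial quotient embeds in the automorphisms of the subgroup of order `p`. -/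
theorem cyclic_inertial (hM : IsPModular p M) (hmax : IsMaximalBrauerPair p M B P c)
    (hcyc : IsCyclic P) (hP1 : P ≠ ⊥) {T : Subgroup G} (hT : T = pairStab P c)
    [((Subgroup.centralizer (P : Set G)).subgroupOf T).Normal] :
    IsCyclic (T ⧸ (Subgroup.centralizer (P : Set G)).subgroupOf T)
      ∧ (Subgroup.centralizer (P : Set G)).relIndex T ∣ p - 1 := by
  have hp : p.Prime := Fact.out
  obtain ⟨n, hn⟩ := hmax.1.1.1.exists_card_eq
  have hn0 : n ≠ 0 := fun h0 => hP1 (Subgroup.eq_bot_of_card_eq P (by rw [hn, h0, pow_zero]))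
  obtain ⟨z, hz⟩ := exists_prime_orderOf_dvd_card' (G := P) p (by rw [hn]; exact dvd_pow_self p hn0)
  have hzo : orderOf (z : G) = p := by rw [Subgroup.orderOf_coe, hz]
  set Q : Subgroup G := Subgroup.zpowers (z : G)
  have hQ : Nat.card Q = p := by rw [Nat.card_zpowers, hzo]
  have hQN : ∀ g : T, (g : G) ∈ Subgroup.normalizer (Q : Set G) := by
    intro g
    have hgN : (g : G) ∈ Subgroup.normalizer (P : Set G) :=
      pairStab_le_normalizer c (hT ▸ g.2)
    obtain ⟨m, hm⟩ := exists_exp hcyc hgN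
    refine CfsgLib.Fsys.mem_normalizer_of_map_le fun u hu => ?_
    obtain ⟨j, rfl⟩ := Subgroup.mem_zpowers_iff.1 hu
    show (g : G) * (z : G) ^ j * (g : G)⁻¹ ∈ Q
    rw [hm _ (Subgroup.zpow_mem _ z.2 j)]
    exact Subgroup.zpow_mem _ (Subgroup.zpow_mem _ (Subgroup.mem_zpowers _) _) _
  haveI : IsCyclic Q := Subgroup.isCyclic_zpowers _
  let θ : T →* MulAut Q := (Subgroup.normalizerMonoidHom Q).comp
    { toFun := fun g => ⟨(g : G), hQN g⟩
      map_one' := rfl
      map_mul' := fun _ _ => rfl }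
  have hker : θ.ker = (Subgroup.centralizer (P : Set G)).subgroupOf T := by
    ext g
    constructor
    · intro hg
      have h1 := congrArg (fun φ : MulAut Q => ((φ ⟨(z : G), Subgroup.mem_zpowers _⟩ : Q) : G))
        (MonoidHom.mem_ker.1 hg)
      exact free_of_cyclic hM hmax hcyc (hT ▸ g.2) z.2
        (fun h => hp.ne_one (by rw [← hzo, h, orderOf_one])) h1
    · intro hg
      refine MonoidHom.mem_ker.2 (MulEquiv.ext fun u => Subtype.ext ?_)
      exact mem_centralizer_iff_conj.1 hg _ ((Subgroup.zpowers_le.2 z.2 : Q ≤ P) u.2)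
  let e := IsCyclic.mulAutMulEquiv Q
  haveI : Fact (Nat.card Q).Prime := ⟨hQ ▸ hp⟩
  haveI hA : IsCyclic (MulAut Q) := e.isCyclic.2 inferInstance
  let i := (QuotientGroup.quotientMulEquivOfEq hker).symm.trans
    (QuotientGroup.quotientKerEquivRange θ)
  refine ⟨i.isCyclic.2 inferInstance, ?_⟩
  rw [Subgroup.relIndex, Subgroup.index_eq_card, Nat.card_congr i.toEquiv]
  refine (Subgroup.card_subgroup_dvd_card _).trans (dvd_of_eq ?_)
  rw [Nat.card_congr e.toEquiv, Nat.card_eq_fintype_card, ZMod.card_units, hQ]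

end CfsgLib.BrouePuig
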