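import Cfsg.Agent.Lib.BrouePuig.AbelianCount
import Cfsg.Agent.Lib.BrouePuig.CyclicInertial
import Cfsg.Agent.Lib.BrouePuig.LocalRank

/-!
# Abelian defect groups with a free inertial action
-/

set_option autoImplicit false
set_option maxHeartbeats 800000

namespace CfsgLib.BrouePuig

open Cfsg CfsgLib.Blocks CfsgLib.BrauerPairs
open scoped Classical ComplexConjugate

universe u

variable {p : ℕ} [Fact p.Prime] {M : Ideal AlgInt} {G : Type u} [Group G] [Fintype G]
  {B : Set (IrrCharacter G)} {P : Subgroup G}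
  {e : Set (IrrCharacter (Subgroup.centralizer (P : Set G)))}

/-- The inertial quotient acts freely on the nonidentity elements of `P`. -/
def FreeAct (P : Subgroup G) (e : Set (IrrCharacter (Subgroup.centralizer (P : Set G)))) : Prop :=
  ∀ g ∈ pairStab P e, ∀ x ∈ P, x ≠ 1 → g * x * g⁻¹ = x → g ∈ Subgroup.centralizer (P : Set G)

/-- A nilpotent block with abelian defect group has one character at the regular elements. -/
theorem nilpotent_regular (hM : IsPModular p M) (hnil : IsNilpotentBlock p M B)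
    (hmax : IsMaximalBrauerPair p M B P e) (hab : ∀ x ∈ P, ∀ y ∈ P, x * y = y * x) :
    ∃ χ₀ : IrrCharacter G, (∀ ψ ∈ B, ∀ x : G, ¬ p ∣ orderOf x → (ψ : G → ℂ) x = (χ₀ : G → ℂ) x)
      ∧ (Nat.card P : ℂ) * ∑ x : G with IsPRegular p x, (χ₀ : G → ℂ) x * conj ((χ₀ : G → ℂ) x)
        = (Nat.card G : ℂ) := by
  obtain ⟨χ, hχ, h0, Φ, hΦ⟩ := exists_param hM hnil hmax
  refine ⟨χ, fun ψ hψ x hx => ?_, ?_⟩
  · have h := hΦ (Φ.symm ⟨ψ, hψ⟩) x hx
    rw [Equiv.apply_symm_apply,
      Char.apply_one_eq_one_of_comm (fun a b => Subtype.ext (hab a a.2 b b.2))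
        (Φ.symm ⟨ψ, hψ⟩).2, one_mul] at h
    exact h
  · have h := ratio_mul_secInner_eq_one hM hnil hmax hχ h0 1
    rw [ratio_one, secInner_bel_one hM hmax hχ hχ] at h
    have hG : (Nat.card G : ℂ) ≠ 0 := Nat.cast_ne_zero.2 Nat.card_pos.ne'
    field_simp at h
    exact h

theorem inf_centralizer_eq (hfree : FreeAct P e) {w : P} (hw : w ≠ 1) :
    pairStab P e ⊓ Subgroup.centralizer ({(w : G)} : Set G) = Subgroup.centralizer (P : Set G) := by
  refine le_antisymm (fun g hg => hfree g hg.1 _ w.2 (fun h => hw (Subtype.ext h)) ?_)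
    (le_inf (centralizer_le_pairStab e) fun g hg => ?_)
  · exact mul_inv_eq_iff_eq_mul.2 (Subgroup.mem_centralizer_singleton_iff.1 hg.2)
  · exact Subgroup.mem_centralizer_singleton_iff.2
      (Subgroup.mem_centralizer_iff.1 hg _ w.2).symm

theorem nilpotent_bel (hM : IsPModular p M) (hmax : IsMaximalBrauerPair p M B P e)
    (hab : ∀ x ∈ P, ∀ y ∈ P, x * y = y * x) (hfree : FreeAct P e) {w : P} (hw : w ≠ 1) :
    IsNilpotentBlock p M (bel hM hmax.1.1 w).2 := by
  refine (nilpotent_nested_iff hM hmax hab (Subgroup.zpowers_le.2 w.2)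
    (bel_inducedIn hM hmax.1.1 hab w)).2 fun g hg hgQ => ?_
  rw [centralizer_zpowers] at hgQ
  exact inf_centralizer_eq hfree hw ▸ Subgroup.mem_inf.2 ⟨hg, hgQ⟩

/-- `(k(B) - l(B)) e = |P| - 1`. -/
theorem card_block_free (hM : IsPModular p M) (hmax : IsMaximalBrauerPair p M B P e)
    (hab : ∀ x ∈ P, ∀ y ∈ P, x * y = y * x) (hfree : FreeAct P e) :
    Nat.card B * (Subgroup.centralizer (P : Set G)).relIndex (pairStab P e) + 1
      = blockRank p B * (Subgroup.centralizer (P : Set G)).relIndex (pairStab P e)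
        + Nat.card P := by
  have hidx : (Subgroup.centralizer (P : Set G)).relIndex (pairStab P e) * Nat.card (Subgroup.centralizer (P : Set G)) = Nat.card (pairStab P e) := by
    rw [Subgroup.relIndex, mul_comm,
      ← Nat.card_congr (Subgroup.subgroupOfEquivOfLe (centralizer_le_pairStab e)).toEquiv,
      Subgroup.card_mul_index]
  have h := card_block_eq hM hmax hab
  rw [← Finset.sum_erase_add _ _ (Finset.mem_univ (1 : P))] at h
  have h1 : Subgroup.centralizer ({((1 : P) : G)} : Set G) = ⊤ := eq_top_iff.2 fun x _ => by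
    rw [Subgroup.mem_centralizer_singleton_iff, OneMemClass.coe_one, mul_one, one_mul]
  have hone : blockRank p (bel hM hmax.1.1 (1 : P)).2 = blockRank p B := by
    rw [blockRank_bel hM hmax.1.1 hab, show cenZ ((1 : P) : G) = ⊤ by rw [cenZ_eq, h1],
      lrank_top hM ((isBrauerPairOf_iff_induced hM hmax.1.1.1 hmax.1.1.2).1 hmax.1)]
  rw [hone, h1, inf_top_eq] at h
  rw [Finset.sum_congr rfl (g := fun _ => (Nat.card (Subgroup.centralizer (P : Set G)) : ℂ)) fun w hw => by
    have hw1 : w ≠ 1 := (Finset.mem_erase.1 hw).1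
    rw [inf_centralizer_eq hfree hw1, blockRank_eq_one_of_nilpotent hM
      (nilpotent_bel hM hmax hab hfree hw1)
      (maximal_nested hM hmax hab (Subgroup.zpowers_le.2 w.2) (bel_inducedIn hM hmax.1.1 hab w)),
      Nat.cast_one, mul_one], Finset.sum_const, nsmul_eq_mul,
    Finset.card_erase_of_mem (Finset.mem_univ _), Finset.card_univ,
    Fintype.card_eq_nat_card] at h
  have hN : Nat.card B * Nat.card (pairStab P e)
      = (Nat.card P - 1) * Nat.card (Subgroup.centralizer (P : Set G)) + Nat.card (pairStab P e) * blockRank p B := by exact_mod_cast h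
  obtain ⟨m, hm⟩ := Nat.exists_eq_succ_of_ne_zero (Nat.card_pos (α := P)).ne'
  rw [← hidx, hm, Nat.succ_sub_one] at hN
  have hkey : Nat.card B * (Subgroup.centralizer (P : Set G)).relIndex (pairStab P e) = m + blockRank p B * (Subgroup.centralizer (P : Set G)).relIndex (pairStab P e) := by
    apply Nat.eq_of_mul_eq_mul_right (Nat.card_pos (α := (Subgroup.centralizer (P : Set G))))
    rw [mul_assoc, hN]
    ring
  omega

/-- The block below a nonidentity element is major. -/
theorem major_bel (hM : IsPModular p M) (hmax : IsMaximalBrauerPair p M B P e)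
    (hab : ∀ x ∈ P, ∀ y ∈ P, x * y = y * x) (w : P) :
    blockDefect p B ≤ blockDefect p (bel hM hmax.1.1 w).2 := by
  have hQP : Subgroup.zpowers (w : G) ≤ P := Subgroup.zpowers_le.2 w.2
  have hnest := maximal_nested hM hmax hab hQP (bel_inducedIn hM hmax.1.1 hab w)
  have h1 := card_defectGroup hM hnest.1.2.1 (isDefectGroup_of_isMaximal hM hnest)
  have h2 := card_defectGroup hM hmax.1.2.1 (isDefectGroup_of_isMaximal hM hmax)
  have h3 := ((Nat.card_congr (Subgroup.subgroupOfEquivOfLe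
    (le_centralizer_of_abelian hab hQP)).toEquiv).symm.trans h1)
  rw [h2] at h3
  exact (Nat.pow_right_injective hM.1.two_le h3).le

/-- The generalized decomposition numbers at a nonidentity element. -/
theorem exists_delta (hM : IsPModular p M) (hmax : IsMaximalBrauerPair p M B P e)
    (hab : ∀ x ∈ P, ∀ y ∈ P, x * y = y * x) (hfree : FreeAct P e) {w : P} (hw : w ≠ 1) :
    ∃ δ : IrrCharacter G → ℂ, (∀ χ ∈ B, δ χ ≠ 0)
      ∧ ∑ χ ∈ B.toFinset, δ χ * conj (δ χ) = (Nat.card P : ℂ)
      ∧ ((w : G) ^ 2 = 1 → ∀ χ, ∃ m : ℤ, δ χ = (m : ℂ)) := by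
  have hQP : Subgroup.zpowers (w : G) ≤ P := Subgroup.zpowers_le.2 w.2
  set a := bel hM hmax.1.1 w with ha_def
  have ha : IsElemOf p M B a := isElemOf_of_below hM hmax (bel_below hM hmax.1.1 w)
  have hnest : IsMaximalBrauerPair p M a.2 _ _ :=
    maximal_nested hM hmax hab hQP (bel_inducedIn hM hmax.1.1 hab w)
  have hnil : IsNilpotentBlock p M a.2 := nilpotent_bel hM hmax hab hfree hw
  obtain ⟨χ₀, hreg, hnorm⟩ := nilpotent_regular hM hnil hnest
    (fun x hx y hy => Subtype.ext (hab _ hx _ hy))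
  obtain ⟨z, hzx, hz⟩ := center_zpowers_mem a.1
  let δ : IrrCharacter G → ℂ := fun χ => ∑ ψ : IrrCharacter (cenZ a.1),
    blockInd a.2 ψ * (resMult χ ψ * centScalar ψ z)
  have hsec : ∀ χ, ∀ c : cenZ a.1, ¬ p ∣ orderOf c →
      secPart a.1 (cenZ a.1) a.2 χ c = δ χ * (χ₀ : cenZ a.1 → ℂ) c := by
    intro χ c hc
    rw [secPart_eq_sum_mult hzx hz, Finset.sum_mul]
    refine Finset.sum_congr rfl fun ψ _ => ?_
    by_cases hψ : ψ ∈ a.2
    · exact congrArg _ (hreg ψ hψ c hc)
    · rw [blockInd_of_notMem hψ]; ring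
  set S : ℂ := ∑ c : cenZ a.1 with IsPRegular p c,
    (χ₀ : cenZ a.1 → ℂ) c * conj ((χ₀ : cenZ a.1 → ℂ) c)
  have hinner : ∀ χ, secInner p χ χ a = δ χ * conj (δ χ) * S := fun χ => by
    rw [secInner, Finset.mul_sum]
    refine Finset.sum_congr rfl fun c hc => ?_
    rw [hsec χ c (Finset.mem_filter.1 hc).2, map_mul]
    ring
  refine ⟨δ, fun χ hχ h0 => ?_, ?_, fun h2 χ => ?_⟩
  · obtain ⟨c, hc, hne⟩ :=
      exists_secPart_ne_zero_of_major hM ha (major_bel hM hmax hab w) hχ
    exact hne (by rw [hsec χ c hc, h0, zero_mul])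
  · have h1 := sum_secInner hM ha
    rw [Finset.sum_congr rfl fun χ _ => hinner χ, ← Finset.sum_mul,
      blockRank_eq_one_of_nilpotent hM hnil hnest, Nat.cast_one, mul_one] at h1
    have hP : (Nat.card (P.subgroupOf (Subgroup.centralizer
        (Subgroup.zpowers (w : G) : Set G))) : ℂ) = (Nat.card P : ℂ) :=
      congrArg _ (Nat.card_congr (Subgroup.subgroupOfEquivOfLe
        (le_centralizer_of_abelian hab hQP)).toEquiv)
    have hne : (Nat.card (cenZ a.1) : ℂ) ≠ 0 := Nat.cast_ne_zero.2 Nat.card_pos.ne'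
    have hnorm' : (Nat.card P : ℂ) * S = (Nat.card (cenZ a.1) : ℂ) := by rw [← hP]; exact hnorm
    have hS : S ≠ 0 := fun h => hne (by rw [← hnorm', h, mul_zero])
    apply mul_right_cancel₀ hS
    rw [h1, hnorm']
  · have hz2 : z ^ 2 = 1 := Subtype.ext (by
      rw [SubgroupClass.coe_pow, hzx]; exact h2)
    have hint : ∀ ψ : IrrCharacter (cenZ a.1), ∃ m : ℤ,
        blockInd a.2 ψ * (resMult χ ψ * centScalar ψ z) = (m : ℂ) := by
      intro ψ
      obtain ⟨n, hn⟩ := resMult_nat χ ψ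
      by_cases hψ : ψ ∈ a.2
      · rw [blockInd_of_mem hψ, one_mul, hn]
        rcases sq_eq_one_iff.1 (centScalar_pow_eq_one ψ hz hz2) with h | h
        · exact ⟨n, by rw [h]; simp⟩
        · exact ⟨-n, by rw [h]; simp⟩
      · exact ⟨0, by rw [blockInd_of_notMem hψ]; simp⟩
    choose m hm using hint
    exact ⟨∑ ψ, m ψ, by simp only [δ, hm, Int.cast_sum]⟩

end CfsgLib.BrouePuig
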