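import Cfsg.Agent.Lib.BrouePuig.Major
import Cfsg.Agent.Lib.Char.Linear
import Cfsg.Agent.Lib.BrauerPairs.Maximal
import Mathlib.GroupTheory.FiniteAbelian.Duality
import Mathlib.GroupTheory.GroupAction.Quotient

/-!
# Linear characters trivial on the focal subgroup act on the characters of a block
-/

set_option autoImplicit false

namespace CfsgLib.BrouePuig

open Cfsg CfsgLib.Blocks CfsgLib.Blocks.ResidueAlgebra CfsgLib.BrauerPairs
open scoped Classical ComplexConjugate

universe u

/-! ### Linear characters over a subgroup containing the commutators -/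

/-- The linear characters trivial on `N`. -/
def linTriv {H : Type*} [Group H] (N : Subgroup H) : Subgroup (H →* ℂˣ) where
  carrier := {l | ∀ n ∈ N, l n = 1}
  one_mem' := fun _ _ => rfl
  mul_mem' := fun {a b} ha hb n hn => by rw [MonoidHom.mul_apply, ha n hn, hb n hn, one_mul]
  inv_mem' := fun {a} ha n hn => by rw [MonoidHom.inv_apply, ha n hn, inv_one]

theorem card_linTriv {H : Type*} [Group H] [Finite H] (N : Subgroup H)
    (hN : ∀ a b : H, a * b * a⁻¹ * b⁻¹ ∈ N) : Nat.card (linTriv N) = N.index := by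
  haveI : N.Normal := ⟨fun n hn g => by
    have h := N.mul_mem (hN g n) hn
    simpa [mul_assoc] using h⟩
  letI : CommGroup (H ⧸ N) :=
    { (inferInstance : Group (H ⧸ N)) with
      mul_comm := fun a b => by
        obtain ⟨a, rfl⟩ := QuotientGroup.mk_surjective a
        obtain ⟨b, rfl⟩ := QuotientGroup.mk_surjective b
        rw [← QuotientGroup.mk_mul, ← QuotientGroup.mk_mul, QuotientGroup.eq]
        simpa [mul_assoc] using hN b⁻¹ a⁻¹ }
  let E : linTriv N ≃ (H ⧸ N →* ℂˣ) :=
    { toFun := fun l => QuotientGroup.lift N l.1 fun n hn => l.2 n hn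
      invFun := fun m => ⟨m.comp (QuotientGroup.mk' N), fun n hn => by
        rw [MonoidHom.comp_apply, QuotientGroup.mk'_apply, (QuotientGroup.eq_one_iff n).2 hn,
          map_one]⟩
      left_inv := fun l => Subtype.ext (MonoidHom.ext fun h => rfl)
      right_inv := fun m => MonoidHom.ext fun q => by
        obtain ⟨h, rfl⟩ := QuotientGroup.mk_surjective q; rfl }
  have : NeZero (Monoid.exponent (H ⧸ N) : ℂ) :=
    ⟨by exact_mod_cast Monoid.exponent_ne_zero_of_finite⟩
  rw [Nat.card_congr E, CommGroup.card_monoidHom_of_hasEnoughRootsOfUnity (H ⧸ N) ℂ]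
  rfl

/-- An orbit counting principle for the linear characters trivial on `N`. -/
theorem index_dvd_card {H : Type*} [Group H] [Finite H] (N : Subgroup H)
    (hN : ∀ a b : H, a * b * a⁻¹ * b⁻¹ ∈ N) (Z : Subgroup H) {X : Type*} [Finite X]
    [MulAction (linTriv N) X]
    (hstab : ∀ (x : X) (l : linTriv N), l • x = x → ∀ z ∈ Z, (l : H →* ℂˣ) z = 1) :
    N.relIndex Z ∣ Nat.card X := by
  haveI : N.Normal := ⟨fun n hn g => by
    have h := N.mul_mem (hN g n) hn
    simpa [mul_assoc] using h⟩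
  set K : Subgroup (linTriv N) := (linTriv (Z ⊔ N)).subgroupOf (linTriv N)
  have hle : linTriv (Z ⊔ N) ≤ linTriv N := fun l hl n hn => hl n (Subgroup.mem_sup_right hn)
  have hN' : ∀ a b : H, a * b * a⁻¹ * b⁻¹ ∈ Z ⊔ N := fun a b => Subgroup.mem_sup_right (hN a b)
  have hidx : K.index = N.relIndex Z := by
    have h1 := K.card_mul_index
    rw [Nat.card_congr (Subgroup.subgroupOfEquivOfLe hle).toEquiv, card_linTriv _ hN',
      card_linTriv _ hN] at h1
    have h2 := Subgroup.relIndex_mul_index (le_sup_right : N ≤ Z ⊔ N)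
    rw [Subgroup.relIndex_sup_right] at h2
    have h3 : (Z ⊔ N).index ≠ 0 := Subgroup.index_ne_zero_of_finite
    rw [mul_comm (N.relIndex Z)] at h2
    exact Nat.eq_of_mul_eq_mul_left (Nat.pos_of_ne_zero h3) (h1.trans h2.symm)
  haveI : Fintype (MulAction.orbitRel.Quotient (linTriv N) X) := Fintype.ofFinite _
  rw [Nat.card_congr (MulAction.selfEquivSigmaOrbits (linTriv N) X), Nat.card_sigma, ← hidx]
  refine Finset.dvd_sum fun ω _ => ?_
  have hst : MulAction.stabilizer (linTriv N) ω.out ≤ K := by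
    intro l hl
    refine Subgroup.mem_subgroupOf.2 ?_
    have h1 : Z ⊔ N ≤ (l : H →* ℂˣ).ker := sup_le
      (fun z hz => hstab _ l (MulAction.mem_stabilizer_iff.1 hl) z hz) (fun n hn => l.2 n hn)
    exact fun n hn => h1 hn
  have h := Subgroup.index_dvd_of_le hst
  rw [MulAction.index_stabilizer] at h
  rw [Nat.card_coe_set_eq]
  exact h

/-! ### The action -/

variable {p : ℕ} [Fact p.Prime] {M : Ideal AlgInt} {G : Type u} [Group G] [Fintype G]
  {B : Set (IrrCharacter G)} {P : Subgroup G}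
  {e : Set (IrrCharacter (Subgroup.centralizer (P : Set G)))} {F : FusionSystem P}

/-- A linear character as a function. -/
def linFun (l : P →* ℂˣ) : P → ℂ := fun w => ((l w : ℂˣ) : ℂ)

omit [Fintype G] in
theorem focal_comm [Finite G] (a b : P) :
    a * b * a⁻¹ * b⁻¹ ∈ F.focalSubgroup.subgroupOf P := by
  refine Subgroup.mem_subgroupOf.2 ?_
  have hm : ((b⁻¹ : P) : G)⁻¹ * conjHom P (a : G) (b⁻¹ : P) ∈ F.focalSubgroup :=
    Subgroup.subset_closure ⟨P, conjHom P (a : G), b⁻¹, F.conj_mem le_rfl a.2, rfl⟩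
  have e1 : ((a * b * a⁻¹ * b⁻¹ : P) : G)
      = (((b⁻¹ : P) : G)⁻¹ * conjHom P (a : G) (b⁻¹ : P))⁻¹ := by
    show _ = (((b⁻¹ : P) : G)⁻¹ * ((a : G) * ((b⁻¹ : P) : G) * (a : G)⁻¹))⁻¹
    simp [mul_assoc]
  rw [e1]
  exact Subgroup.inv_mem _ hm

theorem stable_lin (hF : IsBlockFusionSystemOn p M B P e F) {l : P →* ℂˣ}
    (hl : l ∈ linTriv (F.focalSubgroup.subgroupOf P)) : Stable p M P e (linFun l) := by
  intro w w' k hk hw
  have hmem : conjHom (Subgroup.zpowers (w : G)) k ∈ F.Hom (Subgroup.zpowers (w : G)) :=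
    (mem_hom_iff hF).2 ⟨Subgroup.zpowers_le.2 w.2, k, fun u => rfl, hk⟩
  have hy : w⁻¹ * w' ∈ F.focalSubgroup.subgroupOf P := by
    refine Subgroup.mem_subgroupOf.2 (Subgroup.subset_closure
      ⟨_, _, ⟨(w : G), Subgroup.mem_zpowers _⟩, hmem, ?_⟩)
    show ((w⁻¹ * w' : P) : G) = (w : G)⁻¹ * (k * (w : G) * k⁻¹)
    rw [hw]; rfl
  have h := hl _ hy
  rw [map_mul, map_inv, inv_mul_eq_one] at h
  exact (congrArg (fun z : ℂˣ => (z : ℂ)) h).symm

omit [Fact p.Prime] [Fintype G] in
theorem conj_lin_mul [Finite G] (l : P →* ℂˣ) (w : P) : linFun l w * conj (linFun l w) = 1 := by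
  haveI := Fintype.ofFinite P
  have h : conj (linFun l w) = linFun l w⁻¹ :=
    (CfsgLib.Char.IsCharacter.apply_inv (CfsgLib.Char.isCharacter_hom l) w).symm
  rw [h]
  show ((l w : ℂˣ) : ℂ) * ((l w⁻¹ : ℂˣ) : ℂ) = 1
  rw [map_inv, ← Units.val_mul, mul_inv_cancel, Units.val_one]

theorem isIrr_star_lin (hM : IsPModular p M) (hmax : IsMaximalBrauerPair p M B P e)
    {l : P →* ℂˣ} (hl : Stable p M P e (linFun l)) {χ : IrrCharacter G} (hχ : χ ∈ B) :
    IsIrrCharacter G (star hM (etaOf p M P e (linFun l)) χ) := by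
  have hgen := etaOf_compatible hM hmax hl
    (CfsgLib.Char.IsCharacter.isGeneralizedCharacter (CfsgLib.Char.isCharacter_hom l))
  refine CharDeep.GenChar.isIrrCharacter_of_norm_one (star_isGen hgen χ) ?_ ?_
  · have h1 := classInner_etaOf (hM := hM) hmax (fun _ : P => (1 : ℂ))
      (etaOf p M P e fun _ : P => (1 : ℂ)) χ χ
    rw [star_etaOf_one hmax hχ, CfsgLib.Char.classInner_irr_self χ.2] at h1
    rw [classInner_etaOf hmax, h1]
    congr 1
    refine Finset.sum_congr rfl fun a ha => ?_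
    obtain ⟨y, hy⟩ := (exists_below_iff hM hmax a).2 (Finset.mem_filter.1 ha).2
    rw [etaOf_eq hl hy, etaOf_eq (stable_const 1) hy, conj_lin_mul, map_one, mul_one]
  · have h1 := star_etaOf_regular (hM := hM) hmax hl hχ (x := 1)
      (by rw [orderOf_one]; exact hM.1.not_dvd_one)
    rw [h1, linFun, map_one, Units.val_one, one_mul, irr_one_eq, Complex.natCast_re]
    exact_mod_cast charDegree_pos χ

/-- The characters of height `h`. -/
abbrev HeightSet (p : ℕ) (B : Set (IrrCharacter G)) (h : ℕ) : Type u :=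
  {χ : IrrCharacter G // χ ∈ B ∧ blockHeight p B (χ : G → ℂ) = h}

/-- The product with a linear character. -/
noncomputable def linSmul (hM : IsPModular p M) (hF : IsBlockFusionSystemOn p M B P e F) {h : ℕ}
    (l : linTriv (F.focalSubgroup.subgroupOf P)) (χ : HeightSet p B h) : HeightSet p B h :=
  ⟨⟨_, isIrr_star_lin hM hF.1 (stable_lin hF l.2) χ.2.1⟩, mem_of_eq_star (hM := hM) hF.1 rfl, by
    refine Eq.trans ?_ χ.2.2
    have hd : charDegree (star hM (etaOf p M P e (linFun (l : P →* ℂˣ))) χ.1)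
        = charDegree (χ.1 : G → ℂ) := by
      unfold charDegree
      rw [star_etaOf_regular hF.1 (stable_lin hF l.2) χ.2.1
        (by rw [orderOf_one]; exact hM.1.not_dvd_one), linFun, map_one, Units.val_one, one_mul]
    exact congrArg (fun d : ℕ => d.factorization p -
      sInf ((fun ψ : IrrCharacter G => (charDegree (ψ : G → ℂ)).factorization p) '' B)) hd⟩

/-- The action of the linear characters trivial on the focal subgroup. -/
@[reducible] noncomputable def linAction (hM : IsPModular p M)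
    (hF : IsBlockFusionSystemOn p M B P e F) (h : ℕ) :
    MulAction (linTriv (F.focalSubgroup.subgroupOf P)) (HeightSet p B h) where
  smul := linSmul hM hF
  one_smul χ := Subtype.ext (Subtype.ext (star_etaOf_one hF.1 χ.2.1))
  mul_smul l l' χ := by
    refine Subtype.ext (Subtype.ext ?_)
    show star hM (etaOf p M P e (linFun ((l * l' : linTriv _) : P →* ℂˣ))) χ.1
      = star hM (etaOf p M P e (linFun (l : P →* ℂˣ))) (linSmul hM hF l' χ).1
    funext g
    obtain ⟨y, hgy, huy, hu, hy⟩ := pPart_spec hM.1 g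
    have hyK : y ∈ cenZ (pPart p g) := by
      rw [cenZ_eq, Subgroup.mem_centralizer_singleton_iff]; exact huy.eq.symm
    have hyr : ¬ p ∣ orderOf (⟨y, hyK⟩ : cenZ (pPart p g)) := by rwa [← Subgroup.orderOf_coe]
    have e1 := star_eq (hM := hM) (etaOf p M P e (linFun ((l * l' : linTriv _) : P →* ℂˣ))) χ.1
      hu ⟨y, hyK⟩ hyr
    have e2 := star_eq (hM := hM) (etaOf p M P e (linFun (l : P →* ℂˣ))) (linSmul hM hF l' χ).1
      hu ⟨y, hyK⟩ hyr
    simp only [hgy] at e1 e2
    rw [e1, e2]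
    refine Finset.sum_congr rfl fun b hb => ?_
    rw [secPart_star (etaOf p M P e (linFun (l' : P →* ℂˣ))) χ.1 (linSmul hM hF l' χ).1 rfl hu
      (mem_blockSet.1 hb) hyr, ← mul_assoc]
    congr 1
    by_cases hel : IsElemOf p M B ⟨pPart p g, b⟩
    · obtain ⟨x, hx⟩ := (exists_below_iff hM hF.1 _).2 hel
      rw [etaOf_eq (stable_lin hF (l * l').2) hx, etaOf_eq (stable_lin hF l.2) hx,
        etaOf_eq (stable_lin hF l'.2) hx]
      simp [linFun]
    · rw [etaOf_eq_zero hM hF.1 _ hel, etaOf_eq_zero hM hF.1 _ hel, zero_mul]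

theorem eq_one_of_fixed (hM : IsPModular p M) (hF : IsBlockFusionSystemOn p M B P e F) {h : ℕ}
    (l : linTriv (F.focalSubgroup.subgroupOf P)) (χ : HeightSet p B h)
    (hfix : linSmul hM hF l χ = χ) (w : P)
    (hne : ∃ c : cenZ (bel hM hF.1.1.1 w).1, ¬ p ∣ orderOf c ∧
      secPart (bel hM hF.1.1.1 w).1 (cenZ (bel hM hF.1.1.1 w).1) (bel hM hF.1.1.1 w).2 χ.1 c ≠ 0) :
    (l : P →* ℂˣ) w = 1 := by
  obtain ⟨c, hc, hne⟩ := hne
  have hel : IsElemOf p M B (bel hM hF.1.1.1 w) :=
    isElemOf_of_below hM hF.1 (bel_below hM hF.1.1.1 w)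
  have hu : ∃ k : ℕ, orderOf (bel hM hF.1.1.1 w).1 = p ^ k := (mem_elems.1 (hel.mem hM.1)).1
  have h1 := secPart_star (hM := hM) (etaOf p M P e (linFun (l : P →* ℂˣ))) χ.1
    (linSmul hM hF l χ).1 rfl hu hel.1.2 hc
  rw [hfix] at h1
  have h2 : etaOf p M P e (linFun (l : P →* ℂˣ)) (bel hM hF.1.1.1 w) = linFun (l : P →* ℂˣ) w :=
    etaOf_bel hM hF.1.1.1 (stable_lin hF l.2) w
  rw [show (⟨(bel hM hF.1.1.1 w).1, (bel hM hF.1.1.1 w).2⟩ : BElem G) = bel hM hF.1.1.1 w from rfl,
    h2] at h1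
  have h3 : linFun (l : P →* ℂˣ) w = 1 := mul_right_cancel₀ hne (h1.symm.trans (one_mul _).symm)
  exact Units.ext h3

theorem focal_index_dvd_height_zero (hM : IsPModular p M)
    (hF : IsBlockFusionSystemOn p M B P e F) :
    (F.focalSubgroup.subgroupOf P).index ∣ Nat.card (HeightSet p B 0) := by
  letI := linAction hM hF 0
  have h := index_dvd_card (F.focalSubgroup.subgroupOf P) focal_comm ⊤ (X := HeightSet p B 0)
    fun χ l hfix w _ => eq_one_of_fixed hM hF l χ hfix w
      (exists_secPart_ne_zero_of_min hM (isElemOf_of_below hM hF.1 (bel_below hM hF.1.1.1 w)) χ.2.1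
        ((blockHeight_eq_zero_iff χ.2.1).1 χ.2.2))
  rwa [Subgroup.relIndex_top_right] at h

theorem central_index_dvd_height (hM : IsPModular p M)
    (hF : IsBlockFusionSystemOn p M B P e F) (h : ℕ) :
    ((P ⊓ Subgroup.centralizer (P : Set G) ⊓ F.focalSubgroup).subgroupOf
      (P ⊓ Subgroup.centralizer (P : Set G))).index ∣ Nat.card (HeightSet p B h) := by
  letI := linAction hM hF h
  set Z := P ⊓ Subgroup.centralizer (P : Set G)
  have hB := hF.1.1.2.1
  have key := index_dvd_card (F.focalSubgroup.subgroupOf P) focal_comm (Z.subgroupOf P)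
    (X := HeightSet p B h) fun χ l hfix w hw => eq_one_of_fixed hM hF l χ hfix w (by
      refine exists_secPart_ne_zero_of_major hM
        (isElemOf_of_below hM hF.1 (bel_below hM hF.1.1.1 w)) ?_ χ.2.1
      have hle : SubpairLE p M (Subgroup.zpowers (w : G)) (bel hM hF.1.1.1 w).2 P e :=
        bel_below hM hF.1.1.1 w
      obtain ⟨D, hD, hPD⟩ := exists_defect_ge_centralizer hM hF.1.1.1 hle
      have hPC : P ≤ cenZ (w : G) := fun x hx => by
        rw [cenZ_eq, Subgroup.mem_centralizer_singleton_iff]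
        exact (Subgroup.mem_subgroupOf.1 hw).2 x hx
      have hc := Subgroup.card_le_of_le hPD
      rw [Nat.card_congr (Subgroup.subgroupOfEquivOfLe inf_le_right).toEquiv,
        inf_eq_left.2 hPC, card_defectGroup hM (isBrauerPair_of_subpairLE hle hF.1.1.1).2 hD,
        card_defectGroup hM hB (isDefectGroup_of_isMaximal hM hF.1)] at hc
      exact (Nat.pow_le_pow_iff_right hM.1.one_lt).1 hc)
  rw [Subgroup.relIndex_subgroupOf (inf_le_left : Z ≤ P)] at key
  show (Z ⊓ F.focalSubgroup).relIndex Z ∣ _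
  rwa [inf_comm, Subgroup.inf_relIndex_right]

end CfsgLib.BrouePuig
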