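import Cfsg.Agent.Lib.BrouePuig.LocalRank
import Cfsg.Agent.Lib.BrouePuig.CyclicInertial
import Cfsg.Agent.Lib.BrouePuig.Robinson
import Mathlib.GroupTheory.FiniteAbelian.Duality
import Mathlib.RingTheory.RootsOfUnity.AlgebraicallyClosed

/-!
# An element of an abelian defect group fixed by the inertial quotient (Watanabe)
-/

set_option autoImplicit false
set_option maxHeartbeats 800000

namespace CfsgLib.BrouePuig

open Cfsg CfsgLib.Blocks CfsgLib.BrauerPairs
open scoped Classical ComplexConjugate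

universe u

variable {p : ℕ} [Fact p.Prime] {M : Ideal AlgInt} {G : Type u} [Group G] [Fintype G]
  {B : Set (IrrCharacter G)} {P : Subgroup G}
  {e : Set (IrrCharacter (Subgroup.centralizer (P : Set G)))}

theorem mem_cenZ {g w : G} : g ∈ cenZ w ↔ g * w = w * g := by
  rw [cenZ_eq, Subgroup.mem_centralizer_singleton_iff]

theorem cenZ_mul_inf (w u : G) : cenZ (u * w) ⊓ cenZ u = cenZ w ⊓ cenZ u := by
  ext g
  simp only [Subgroup.mem_inf, mem_cenZ]
  constructor
  · rintro ⟨h1, h2⟩
    refine ⟨mul_left_cancel (a := u) ?_, h2⟩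
    rw [← mul_assoc, ← h2, mul_assoc, h1, mul_assoc]
  · rintro ⟨h1, h2⟩
    exact ⟨by rw [← mul_assoc, h2, mul_assoc, h1, mul_assoc], h2⟩

theorem cenZ_of_center {w : G} (hw : w ∈ Subgroup.center G) : cenZ w = ⊤ :=
  eq_top_iff.2 fun g _ => mem_cenZ.2 (Subgroup.mem_center_iff.1 hw g)

theorem cenZ_eq_top_iff {w : G} : cenZ w = ⊤ ↔ w ∈ Subgroup.center G :=
  ⟨fun h => Subgroup.mem_center_iff.2 fun g => mem_cenZ.1 (h ▸ Subgroup.mem_top g), cenZ_of_center⟩

/-- A linear character invariant under the stabilizer, trivial on the central part, separating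
`u`. -/
theorem exists_lam (hM : IsPModular p M) (hmax : IsMaximalBrauerPair p M B P e)
    (hab : ∀ x ∈ P, ∀ y ∈ P, x * y = y * x) {u : P}
    (huT : ∀ t ∈ pairStab P e, t * (u : G) * t⁻¹ = (u : G)) (hu : (u : G) ∉ Subgroup.center G) :
    ∃ l : P →* ℂˣ, Stable p M P e (linFun l) ∧
      (∀ w : P, (w : G) ∈ Subgroup.center G → l w = 1) ∧ l u ≠ 1 := by
  have hp : p.Prime := Fact.out
  letI : CommGroup P :=
    { (inferInstance : Group P) with mul_comm := fun a b => Subtype.ext (hab a a.2 b b.2) }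
  set Z : Subgroup P := (Subgroup.center G).subgroupOf P
  haveI : Finite (P ⧸ Z) := Quotient.finite _
  obtain ⟨φ, hφ⟩ := CommGroup.exists_apply_ne_one_of_hasEnoughRootsOfUnity (P ⧸ Z) ℂ
    (a := QuotientGroup.mk' Z u) (fun h => hu ((QuotientGroup.eq_one_iff u).1 h))
  set l₀ : P →* ℂˣ := φ.comp (QuotientGroup.mk' Z)
  set T := pairStab P e
  set N := (Subgroup.centralizer (P : Set G)).subgroupOf T
  haveI : N.Normal := Subgroup.normal_subgroupOf_iff_le_normalizer (centralizer_le_pairStab e) |>.2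
    ((pairStab_le_normalizer e).trans (normalizer_le_normalizer_centralizer P))
  let cc : T → P →* P := fun t =>
    { toFun := fun w => ⟨(t : G) * (w : G) * (t : G)⁻¹, (Subgroup.mem_normalizer_iff.1 t.2.1 _).1 w.2⟩
      map_one' := Subtype.ext (by simp)
      map_mul' := fun a b => Subtype.ext (by simp [mul_assoc]) }
  have hclass : ∀ t t' : T, QuotientGroup.mk' N t = QuotientGroup.mk' N t' → cc t = cc t' := by
    intro t t' h
    have hn : t⁻¹ * t' ∈ N := QuotientGroup.eq.1 h
    have ht' : t' = t * (t⁻¹ * t') := by rw [mul_inv_cancel_left]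
    refine MonoidHom.ext fun w => Subtype.ext ?_
    show (t : G) * (w : G) * (t : G)⁻¹ = (t' : G) * (w : G) * (t' : G)⁻¹
    have h1 : ((t⁻¹ * t' : T) : G) * (w : G) * ((t⁻¹ * t' : T) : G)⁻¹ = (w : G) :=
      mem_centralizer_iff_conj.1 hn _ w.2
    conv_rhs => rw [ht']
    rw [Subgroup.coe_mul, mul_inv_rev, show (t : G) * ((t⁻¹ * t' : T) : G) * (w : G)
      * (((t⁻¹ * t' : T) : G)⁻¹ * (t : G)⁻¹)
      = (t : G) * (((t⁻¹ * t' : T) : G) * (w : G) * ((t⁻¹ * t' : T) : G)⁻¹) * (t : G)⁻¹ by
        simp [mul_assoc], h1]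
  haveI := Fintype.ofFinite (T ⧸ N)
  set l : P →* ℂˣ := ∏ q : T ⧸ N, l₀.comp (cc q.out) with hl
  have hlap : ∀ w : P, l w = ∏ q : T ⧸ N, l₀ (cc q.out w) := fun w => by
    rw [hl, MonoidHom.finsetProd_apply]; rfl
  refine ⟨l, stable_of_invariant hM hmax hab fun t ht w w' hw => ?_, fun w hw => ?_, ?_⟩
  · show ((l w' : ℂˣ) : ℂ) = ((l w : ℂˣ) : ℂ)
    congr 1
    have hw' : w' = cc ⟨t, ht⟩ w := Subtype.ext hw
    rw [hlap, hlap, hw']
    refine Fintype.prod_equiv (Equiv.mulRight (QuotientGroup.mk' N ⟨t, ht⟩)) _ _ fun q => ?_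
    congr 1
    have h1 : cc (q * QuotientGroup.mk' N ⟨t, ht⟩).out = cc (q.out * ⟨t, ht⟩) :=
      hclass _ _ (by rw [map_mul]; simp)
    show cc q.out (cc ⟨t, ht⟩ w) = cc (q * QuotientGroup.mk' N ⟨t, ht⟩).out w
    rw [h1]
    exact Subtype.ext (by simp [cc, mul_assoc])
  · rw [hlap]
    refine Finset.prod_eq_one fun q _ => ?_
    have h1 : cc q.out w = w := Subtype.ext (by
      show (q.out : G) * (w : G) * (q.out : G)⁻¹ = (w : G)
      rw [Subgroup.mem_center_iff.1 hw, mul_inv_cancel_right])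
    rw [h1]
    show φ (QuotientGroup.mk' Z w) = 1
    rw [show QuotientGroup.mk' Z w = 1 from (QuotientGroup.eq_one_iff w).2 hw, map_one]
  · rw [hlap]
    have h1 : ∀ q : T ⧸ N, cc q.out u = u := fun q => Subtype.ext (huT _ q.out.2)
    rw [Finset.prod_congr rfl fun q _ => by rw [h1 q], Finset.prod_const, Finset.card_univ]
    intro hpow
    refine hφ ?_
    show l₀ u = 1
    obtain ⟨k, hk⟩ := hmax.1.1.1 u
    have h2 : orderOf (l₀ u) ∣ p ^ k :=
      orderOf_dvd_of_pow_eq_one (by rw [← map_pow, hk, map_one])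
    have hcop : Nat.Coprime (p ^ k) (Fintype.card (T ⧸ N)) := by
      refine Nat.Coprime.pow_left _ ((Nat.Prime.coprime_iff_not_dvd hp).2 ?_)
      rw [← Nat.card_eq_fintype_card, ← Subgroup.index_eq_card]
      exact not_dvd_relIndex hM hmax hab
    exact orderOf_eq_one_iff.1
      (Nat.eq_one_of_dvd_coprimes hcop h2 (orderOf_dvd_of_pow_eq_one hpow))

/-- A linear character not trivial at `u` fixes no character of the block. -/
theorem sum_fixed_eq_zero (hM : IsPModular p M) (hmax : IsMaximalBrauerPair p M B P e)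
    (hab : ∀ x ∈ P, ∀ y ∈ P, x * y = y * x) {l : P →* ℂˣ} (hl : Stable p M P e (linFun l))
    {u : P} (hu : l u ≠ 1) :
    ∑ w : P, (Nat.card (pairStab P e ⊓ Subgroup.centralizer ({(w : G)} : Set G) : Subgroup G) : ℂ)
        * linFun l w * (blockRank p (bel hM hmax.1.1 w).2 : ℂ) = 0 := by
  have h := sum_fixed_eq hM hmax hab hl
  have hzero : ∀ χ ∈ B.toFinset, classInner (star hM (etaOf p M P e (linFun l)) χ) (χ : G → ℂ) = 0 := by
    intro χ hχ'
    have hχ : χ ∈ B := Set.mem_toFinset.1 hχ'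
    rw [Char.classInner_irr (isIrr_star_lin hM hmax hl hχ) χ.2, if_neg]
    intro heq
    set a := bel hM hmax.1.1 u
    have ha : IsElemOf p M B a := isElemOf_of_below hM hmax (bel_below hM hmax.1.1 u)
    have hQP : Subgroup.zpowers (u : G) ≤ P := Subgroup.zpowers_le.2 u.2
    have hnest := maximal_nested hM hmax hab hQP (bel_inducedIn hM hmax.1.1 hab u)
    have hD := isDefectGroup_of_isMaximal hM hnest
    have hmaj : blockDefect p B ≤ blockDefect p a.2 := by
      have h1 := card_defectGroup hM ha.1.2 hD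
      have h2 := card_defectGroup hM hmax.1.2.1 (isDefectGroup_of_isMaximal hM hmax)
      have h3 := ((Nat.card_congr (Subgroup.subgroupOfEquivOfLe
        (le_centralizer_of_abelian hab hQP)).toEquiv).symm.trans h1)
      rw [h2] at h3
      exact (Nat.pow_right_injective hM.1.two_le h3).le
    obtain ⟨c, hc, hne⟩ := exists_secPart_ne_zero_of_major hM ha hmaj hχ
    have h1 := secPart_star (etaOf p M P e (linFun l)) χ χ heq.symm
      (mem_elems.1 (IsElemOf.mem hM.1 ha)).1 ha.1.2 hc
    have h2 : etaOf p M P e (linFun l) a = linFun l u := etaOf_bel hM hmax.1.1 hl u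
    rw [show (⟨a.1, a.2⟩ : BElem G) = a from rfl, h2] at h1
    exact hu (Units.ext ((mul_eq_right₀ hne).1 h1.symm))
  rw [Finset.sum_eq_zero hzero] at h
  exact (mul_eq_zero.1 h.symm).resolve_left (inv_ne_zero (Nat.cast_ne_zero.2 Nat.card_pos.ne'))

/-- The block of the centralizer of a fixed element has the rank of `B`, given this for all
proper centralizers. -/
theorem rank_step (hM : IsPModular p M) (hmax : IsMaximalBrauerPair p M B P e)
    (hab : ∀ x ∈ P, ∀ y ∈ P, x * y = y * x) (u : P)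
    (huT : ∀ t ∈ pairStab P e, t * (u : G) * t⁻¹ = (u : G))
    (hrec : ∀ w : P, (w : G) ∉ Subgroup.center G →
      lrank p M P e (cenZ (w : G)) = lrank p M P e (cenZ (w : G) ⊓ cenZ (u : G))) :
    blockRank p B = lrank p M P e (cenZ (u : G)) := by
  have hind : IsInducedBlock M (Subgroup.centralizer (P : Set G)) e B :=
    (isBrauerPairOf_iff_induced hM hmax.1.1.1 hmax.1.1.2).1 hmax.1
  by_cases hu : (u : G) ∈ Subgroup.center G
  · rw [cenZ_of_center hu, lrank_top hM hind]
  set T := pairStab P e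
  set lB : ℂ := (blockRank p B : ℂ) with hlB
  set lu : ℂ := (lrank p M P e (cenZ (u : G)) : ℂ) with hlu
  set m : P → ℂ := fun w =>
    (Nat.card (T ⊓ Subgroup.centralizer ({(w : G)} : Set G) : Subgroup G) : ℂ) with hm
  set F : P → ℂ := fun w => m w * (lrank p M P e (cenZ (w : G)) : ℂ) with hF
  set ι : P → ℂ := fun w => if (w : G) ∈ Subgroup.center G then 1 else 0 with hι
  set cT : ℂ := (Nat.card T : ℂ) with hcT
  -- the stabilizer fixes `u`
  have hTu : ∀ t ∈ T, t ∈ cenZ (u : G) := fun t ht =>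
    mem_cenZ.2 (mul_inv_eq_iff_eq_mul.1 (huT t ht))
  have hmu : ∀ w : P, m (u * w) = m w := by
    intro w
    have h1 : T ⊓ Subgroup.centralizer ({((u * w : P) : G)} : Set G)
        = T ⊓ Subgroup.centralizer ({(w : G)} : Set G) := by
      have h2 := cenZ_mul_inf (w : G) (u : G)
      simp only [cenZ_eq] at h2
      ext g
      constructor <;> rintro ⟨hgT, hg⟩ <;> refine ⟨hgT, ?_⟩
      · have := (SetLike.ext_iff.1 h2 g).1 (Subgroup.mem_inf.2 ⟨hg, cenZ_eq (u : G) ▸ hTu g hgT⟩)
        exact this.1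
      · have := (SetLike.ext_iff.1 h2 g).2 (Subgroup.mem_inf.2 ⟨hg, cenZ_eq (u : G) ▸ hTu g hgT⟩)
        exact this.1
    simp only [hm, h1]
  have hmc : ∀ w : P, (w : G) ∈ Subgroup.center G → m w = cT := by
    intro w hw
    have h1 : T ⊓ Subgroup.centralizer ({(w : G)} : Set G) = T :=
      inf_eq_left.2 fun g _ => Subgroup.mem_centralizer_singleton_iff.2 (Subgroup.mem_center_iff.1 hw g)
    simp only [hm, hcT, h1]
  -- the defect of invariance under translation by `u`
  have hh : ∀ w : P, F w - F (u * w) = cT * (lB - lu) * (ι w - ι (u * w)) := by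
    intro w
    have hcap := cenZ_mul_inf (w : G) (u : G)
    by_cases h1 : (w : G) ∈ Subgroup.center G <;> by_cases h2 : ((u * w : P) : G) ∈ Subgroup.center G
    · exfalso
      apply hu
      have := Subgroup.mul_mem _ h2 (Subgroup.inv_mem _ h1)
      simpa using this
    · have e1 : lrank p M P e (cenZ ((u * w : P) : G)) = lrank p M P e (cenZ (u : G)) := by
        rw [hrec _ h2, show cenZ ((u * w : P) : G) ⊓ cenZ (u : G) = cenZ (w : G) ⊓ cenZ (u : G)
          from hcap, cenZ_of_center h1, top_inf_eq]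
      simp only [hF, hι, hmu, hmc w h1, if_pos h1, if_neg h2, e1, cenZ_of_center h1,
        lrank_top hM hind]
      ring
    · have e1 : lrank p M P e (cenZ (w : G)) = lrank p M P e (cenZ (u : G)) := by
        rw [hrec _ h1, ← hcap, show cenZ ((u : G) * (w : G)) = ⊤ from cenZ_of_center h2,
          top_inf_eq]
      have hmw : m w = cT := by rw [← hmu]; exact hmc _ h2
      simp only [hF, hι, hmu, hmw, if_neg h1, if_pos h2, e1, cenZ_of_center h2,
        lrank_top hM hind]
      ring
    · simp only [hF, hι, hmu, if_neg h1, if_neg h2, hrec _ h1, hrec _ h2,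
        show cenZ ((u * w : P) : G) ⊓ cenZ (u : G) = cenZ (w : G) ⊓ cenZ (u : G) from hcap]
      ring
  obtain ⟨l, hl, hlZ, hlu'⟩ := exists_lam hM hmax hab huT hu
  have hS : ∑ w : P, linFun l w * F w = 0 := by
    rw [← sum_fixed_eq_zero hM hmax hab hl hlu']
    refine Finset.sum_congr rfl fun w _ => ?_
    rw [blockRank_bel hM hmax.1.1 hab]
    simp only [hF, hm]
    ring
  have hlmul : ∀ w, linFun l (u * w) = linFun l u * linFun l w := fun w => by
    simp [linFun]
  have hshift : ∀ f : P → ℂ, ∑ w : P, linFun l w * f (u * w)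
      = (linFun l u)⁻¹ * ∑ w : P, linFun l w * f w := by
    intro f
    rw [← Equiv.sum_comp (Equiv.mulLeft u) (fun w => linFun l w * f w), Finset.mul_sum]
    refine Finset.sum_congr rfl fun w _ => ?_
    simp only [Equiv.coe_mulLeft, hlmul]
    rw [← mul_assoc (linFun l u)⁻¹, ← mul_assoc (linFun l u)⁻¹,
      inv_mul_cancel₀ (show linFun l u ≠ 0 from Units.ne_zero _), one_mul]
  have hK : ∑ w : P, linFun l w * ι w ≠ 0 := by
    rw [Finset.sum_congr rfl (g := fun w => ι w) fun w _ => by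
      by_cases hw : (w : G) ∈ Subgroup.center G
      · simp only [hι, if_pos hw, linFun, hlZ w hw, Units.val_one, one_mul]
      · simp only [hι, if_neg hw, mul_zero]]
    simp only [hι, Finset.sum_boole]
    exact Nat.cast_ne_zero.2 (Finset.card_pos.2
      ⟨1, Finset.mem_filter.2 ⟨Finset.mem_univ _, by simp⟩⟩).ne'
  have key : ∑ w : P, linFun l w * (F w - F (u * w))
      = ∑ w : P, linFun l w * (cT * (lB - lu) * (ι w - ι (u * w))) :=
    Finset.sum_congr rfl fun w _ => by rw [hh]
  simp only [mul_sub, Finset.sum_sub_distrib, hshift, hS, mul_zero, sub_zero] at key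
  have key' : cT * (lB - lu) * ((1 - (linFun l u)⁻¹) * ∑ w : P, linFun l w * ι w) = 0 := by
    refine Eq.trans ?_ key.symm
    have e2 : ∀ f : P → ℂ, ∀ k : ℂ, ∑ w : P, linFun l w * (k * f w) = k * ∑ w : P, linFun l w * f w :=
      fun f k => by rw [Finset.mul_sum]; exact Finset.sum_congr rfl fun w _ => by ring
    simp only [e2, hshift]
    ring
  have h1l : (1 : ℂ) - (linFun l u)⁻¹ ≠ 0 := by
    rw [sub_ne_zero]
    intro h
    exact hlu' (Units.ext (inv_eq_one.1 h.symm))
  rcases mul_eq_zero.1 key' with h | h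
  · rcases mul_eq_zero.1 h with h | h
    · exact absurd h (Nat.cast_ne_zero.2 Nat.card_pos.ne')
    · exact Nat.cast_injective (R := ℂ) (sub_eq_zero.1 h)
  · exact absurd h (mul_ne_zero h1l hK)

end CfsgLib.BrouePuig

namespace CfsgLib.BrouePuig

open Cfsg CfsgLib.Blocks CfsgLib.BrauerPairs
open scoped Classical ComplexConjugate

universe v

variable {p : ℕ} [Fact p.Prime] {M : Ideal AlgInt}

omit [Fact p.Prime] in
theorem cenZ_subgroupOf {G : Type v} [Group G] [Fintype G] {H : Subgroup G} (x : H) (K : Subgroup G)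
    (hK : K = H ⊓ cenZ (x : G)) : cenZ x = K.subgroupOf H := by
  ext g
  rw [Subgroup.mem_subgroupOf, hK, Subgroup.mem_inf, mem_cenZ, mem_cenZ, Subtype.ext_iff]
  exact ⟨fun h => ⟨g.2, h⟩, fun h => h.2⟩

/-- The rank of the block of the centralizer of a fixed element. -/
theorem rank_fixed (hM : IsPModular p M) : ∀ (n : ℕ) (G : Type v) [Group G] [Fintype G],
    Nat.card G = n → ∀ (B : Set (IrrCharacter G)) (P : Subgroup G)
      (e : Set (IrrCharacter (Subgroup.centralizer (P : Set G)))),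
      IsMaximalBrauerPair p M B P e → (∀ x ∈ P, ∀ y ∈ P, x * y = y * x) →
      ∀ u : P, (∀ t ∈ pairStab P e, t * (u : G) * t⁻¹ = (u : G)) →
        blockRank p B = lrank p M P e (cenZ (u : G)) ∧
          ∀ w : P, lrank p M P e (cenZ (w : G)) = lrank p M P e (cenZ (w : G) ⊓ cenZ (u : G)) := by
  intro n
  induction n using Nat.strong_induction_on with
  | _ n ih =>
  intro G _ _ hn B P e hmax hab u huT
  have hPp : IsPGroup p P := hmax.1.1.1
  have he : IsPBlock M e := hmax.1.1.2
  have hrec : ∀ w : P, (w : G) ∉ Subgroup.center G →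
      lrank p M P e (cenZ (w : G)) = lrank p M P e (cenZ (w : G) ⊓ cenZ (u : G)) := by
    intro w hw
    set H := cenZ (w : G) with hHdef
    have hQP : Subgroup.zpowers (w : G) ≤ P := Subgroup.zpowers_le.2 w.2
    have hPH : P ≤ H := le_centralizer_of_abelian hab hQP
    have hCH : Subgroup.centralizer (P : Set G) ≤ H := centralizer_le_centralizer hQP
    have hiff : ∀ x : H, (x : G) ∈ Subgroup.centralizer (P : Set G)
        ↔ x ∈ Subgroup.centralizer (P.subgroupOf H : Set H) :=
      fun x => (mem_centralizer_subgroupOf_iff hPH x).symm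
    have hbel := bel_inducedIn hM hmax.1.1 hab w
    have hnest := maximal_nested hM hmax hab hQP hbel
    have hlt : Nat.card H < n := by
      rw [← hn]
      refine lt_of_le_of_ne (Subgroup.card_le_card_group H) fun h => hw ?_
      exact cenZ_eq_top_iff.1 (Subgroup.eq_top_of_card_eq _ h)
    have hu1 : ∀ t ∈ pairStab (P.subgroupOf H) (irrEquiv (nestIso hCH hiff) '' e),
        t * (⟨(u : G), hPH u.2⟩ : H) * t⁻¹ = (⟨(u : G), hPH u.2⟩ : H) := by
      intro t ht
      rw [pairStab_subgroupOf hPH hCH hiff] at ht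
      exact Subtype.ext (huT (t : G) ht)
    obtain ⟨h1, -⟩ := ih _ hlt (↥H) rfl _ _ _ hnest
      (fun x hx y hy => Subtype.ext (hab _ hx _ hy)) ⟨⟨(u : G), hPH u.2⟩, u.2⟩ hu1
    refine (blockRank_bel hM hmax.1.1 hab w).symm.trans (h1.trans ?_)
    rw [cenZ_subgroupOf (H := H) ⟨(u : G), hPH u.2⟩ (H ⊓ cenZ (u : G)) rfl]
    exact lrank_nested hM inf_le_left
      (le_inf hPH (le_centralizer_of_abelian hab (Subgroup.zpowers_le.2 u.2))) hPp
      (le_inf hCH (centralizer_le_centralizer (Subgroup.zpowers_le.2 u.2))) he hCH hiff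
  have h1 := rank_step hM hmax hab u huT hrec
  refine ⟨h1, fun w => ?_⟩
  by_cases hw : (w : G) ∈ Subgroup.center G
  · rw [cenZ_of_center hw, top_inf_eq, ← h1,
      lrank_top hM ((isBrauerPairOf_iff_induced hM hPp he).1 hmax.1)]
  · exact hrec w hw

/-- The number of characters of the block of the centralizer of a fixed element. -/
theorem card_fixed (hM : IsPModular p M) {G : Type v} [Group G] [Fintype G]
    {B : Set (IrrCharacter G)} {P : Subgroup G}
    {e : Set (IrrCharacter (Subgroup.centralizer (P : Set G)))}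
    (hmax : IsMaximalBrauerPair p M B P e) (hab : ∀ x ∈ P, ∀ y ∈ P, x * y = y * x) (u : P)
    (huT : ∀ t ∈ pairStab P e, t * (u : G) * t⁻¹ = (u : G))
    {f : Set (IrrCharacter (cenZ (u : G)))}
    (hf : IsInducedBlockIn M (cenZ (u : G)) (Subgroup.centralizer (P : Set G)) e f) :
    blockRank p B = blockRank p f ∧ Nat.card B = Nat.card f := by
  obtain ⟨h1, h2⟩ := rank_fixed hM _ G rfl B P e hmax hab u huT
  have hQP : Subgroup.zpowers (u : G) ≤ P := Subgroup.zpowers_le.2 u.2
  have hPH : P ≤ (cenZ (u : G)) := le_centralizer_of_abelian hab hQP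
  have hCH : Subgroup.centralizer (P : Set G) ≤ (cenZ (u : G)) := centralizer_le_centralizer hQP
  refine ⟨h1.trans (lrank_eq hM hCH hf), ?_⟩
  have hiff : ∀ x : (cenZ (u : G)), (x : G) ∈ Subgroup.centralizer (P : Set G)
      ↔ x ∈ Subgroup.centralizer (P.subgroupOf (cenZ (u : G)) : Set (cenZ (u : G))) :=
    fun x => (mem_centralizer_subgroupOf_iff hPH x).symm
  have hnest := maximal_nested hM hmax hab hQP hf
  have habH : ∀ x ∈ P.subgroupOf (cenZ (u : G)), ∀ y ∈ P.subgroupOf (cenZ (u : G)), x * y = y * x :=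
    fun x hx y hy => Subtype.ext (hab _ hx _ hy)
  have hT : pairStab P e ≤ (cenZ (u : G)) := fun t ht => mem_cenZ.2 (mul_inv_eq_iff_eq_mul.1 (huT t ht))
  have hG := card_block_eq hM hmax hab
  have hH := card_block_eq hM hnest habH
  rw [pairStab_subgroupOf hPH hCH hiff,
    Nat.card_congr (Subgroup.subgroupOfEquivOfLe hT).toEquiv] at hH
  have hkey : (Nat.card B : ℂ) * (Nat.card (pairStab P e) : ℂ)
      = (Nat.card f : ℂ) * (Nat.card (pairStab P e) : ℂ) := by
    rw [hG, hH]
    refine (Fintype.sum_equiv (Subgroup.subgroupOfEquivOfLe hPH).toEquiv _ _ fun w => ?_).symm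
    have hw1 : ((Subgroup.subgroupOfEquivOfLe hPH).toEquiv w : G) = ((w : (cenZ (u : G))) : G) := rfl
    rw [blockRank_bel hM hnest.1.1 habH, blockRank_bel hM hmax.1.1 hab,
      cenZ_subgroupOf (H := cenZ (u : G)) (w : (cenZ (u : G))) ((cenZ (u : G)) ⊓ cenZ ((w : (cenZ (u : G))) : G)) rfl]
    erw [lrank_nested hM inf_le_left
        (le_inf hPH (le_centralizer_of_abelian hab (Subgroup.zpowers_le.2 w.2))) hmax.1.1.1
        (le_inf hCH (centralizer_le_centralizer (P := P) (Subgroup.zpowers_le.2 w.2))) hmax.1.1.2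
        hCH hiff]
    rw [h2, hw1, inf_comm (cenZ (u : G))]
    congr 2
    refine Nat.card_congr ((Subgroup.subgroupOfEquivOfLe
      (show pairStab P e ⊓ Subgroup.centralizer ({((w : (cenZ (u : G))) : G)} : Set G) ≤ (cenZ (u : G)) from
        inf_le_left.trans hT)).toEquiv.symm.trans ?_).symm
    refine Equiv.subtypeEquivRight fun x => ?_
    simp only [Subgroup.mem_subgroupOf, Subgroup.mem_inf, Subgroup.mem_centralizer_singleton_iff,
      Subtype.ext_iff, Subgroup.coe_mul]
  exact_mod_cast mul_right_cancel₀ (Nat.cast_ne_zero.2 Nat.card_pos.ne') hkey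

end CfsgLib.BrouePuig
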