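import Cfsg.Agent.Lib.BrouePuig.IdemLift
import Cfsg.Agent.Lib.Blocks.ResidueAlgebra
import Cfsg.Agent.Lib.Blocks.SecondMain
import Cfsg.Agent.Lib.Blocks.Parts
import Mathlib.RingTheory.Localization.Integral
import Mathlib.LinearAlgebra.Trace

/-!
# The group algebras over the local ring and over the residue field

Local values are splitting, units are detected on the residue field, idempotents lift, and the
value of a character at `g * a`, for an idempotent `a` commuting with `g`, only depends on the
reduction of `a`.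
-/

set_option autoImplicit false

namespace CfsgLib.BrouePuig

open Cfsg CfsgLib.Blocks CfsgLib.Blocks.ResidueAlgebra Polynomial
open scoped Classical

variable {p : ℕ} {M : Ideal AlgInt} (hM : IsPModular p M)

/-- The group algebra over the local ring. -/
abbrev LAlg (G : Type*) := MonoidAlgebra (localSubring hM) G

/-- The group algebra over the residue field. -/
abbrev KAlg (G : Type*) := MonoidAlgebra (Residue hM) G

theorem isUnit_of_not_LI (r : localSubring hM) (h : ¬ MemLocalIdeal M (r : ℂ)) : IsUnit r := by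
  refine isUnit_iff_exists_inv.2 ⟨⟨(r : ℂ)⁻¹, LR.inv hM r.2 h⟩, Subtype.ext ?_⟩
  exact mul_inv_cancel₀ (ne_zero_of_not_LI hM h)

theorem isUnit_of_residue_ne_zero (r : localSubring hM)
    (h : Ideal.Quotient.mk (localMaxIdeal hM) r ≠ 0) : IsUnit r :=
  isUnit_of_not_LI hM r fun hr => h (Ideal.Quotient.eq_zero_iff_mem.2 hr)

instance localMaxIdeal_isMaximal : (localMaxIdeal hM).IsMaximal := by
  refine Ideal.isMaximal_iff.2 ⟨fun h => LI.not_one hM ?_, fun J x hle hx hxJ => ?_⟩
  · simpa using (mem_localMaxIdeal.1 h)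
  · obtain ⟨y, hy⟩ := isUnit_iff_exists_inv.1 (isUnit_of_not_LI hM x hx)
    rw [← hy]
    exact J.mul_mem_right y hxJ

noncomputable instance residueField : Field (Residue hM) := Ideal.Quotient.field _

theorem charP_residue : CharP (Residue hM) p := by
  refine ⟨fun n => ?_⟩
  rw [← map_natCast (Ideal.Quotient.mk (localMaxIdeal hM)), Ideal.Quotient.eq_zero_iff_mem,
    mem_localMaxIdeal]
  simpa using LI.natCast_iff hM n

theorem LR_of_root {f : Polynomial (localSubring hM)} (hf : f.Monic) {z : ℂ}
    (hz : aeval z f = 0) : MemLocalRing M z := by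
  have hb : ∀ i, ∃ a b : AlgInt, b ∉ M ∧ ((f.coeff i : localSubring hM) : ℂ) = (a : ℂ) / (b : ℂ) :=
    fun i => by obtain ⟨a, b, hb, h⟩ := (f.coeff i).2; exact ⟨a, b, hb, h.symm⟩
  choose a b hb hab using hb
  set n := f.natDegree
  set β : AlgInt := ∏ i ∈ Finset.range n, b i
  have hβ : β ∉ M := fun h => by
    obtain ⟨i, -, hi⟩ := (Ideal.IsPrime.prod_mem_iff (hp := isPrime hM)).1 h
    exact hb i hi
  have hβ0 : (β : ℂ) ≠ 0 := coe_ne_zero_of_notMem hβ
  -- the coefficients of the scaled polynomial are algebraic integers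
  have hc : ∀ i ∈ Finset.range n, ∃ c : AlgInt,
      ((f.coeff i : localSubring hM) : ℂ) * (β : ℂ) ^ (n - i) = (c : ℂ) := by
    intro i hi
    obtain ⟨e, he⟩ : b i ∣ β := Finset.dvd_prod_of_mem b hi
    obtain ⟨j, hj⟩ : ∃ j, n - i = j + 1 := ⟨n - i - 1, by have := Finset.mem_range.1 hi; omega⟩
    refine ⟨a i * e * β ^ j, ?_⟩
    rw [hab, hj, pow_succ']
    have h0 := coe_ne_zero_of_notMem (hb i)
    have hβe : (β : ℂ) = (b i : ℂ) * (e : ℂ) := by exact_mod_cast congrArg Subtype.val he
    simp only [MulMemClass.coe_mul, SubmonoidClass.coe_pow]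
    conv_lhs => arg 2; arg 1; rw [hβe]
    field_simp
  choose! c hc using hc
  have hint : IsIntegral ℤ ((β : ℂ) * z) := by
    refine isIntegral_trans (R := ℤ) (A := AlgInt) ((β : ℂ) * z)
      ⟨X ^ n + ∑ i ∈ Finset.range n, C (c i) * X ^ i, monic_X_pow_add ?_, ?_⟩
    · refine lt_of_le_of_lt (degree_sum_le _ _) ((Finset.sup_lt_iff (by simp)).2 fun i hi => ?_)
      exact lt_of_le_of_lt (degree_C_mul_X_pow_le i _) (by exact_mod_cast Finset.mem_range.1 hi)
    · rw [eval₂_add, eval₂_X_pow, eval₂_finsetSum]
      simp only [eval₂_mul, eval₂_C, eval₂_X_pow]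
      have hz' : (∑ i ∈ Finset.range n, ((f.coeff i : localSubring hM) : ℂ) * z ^ i) + z ^ n = 0 := by
        rw [aeval_eq_sum_range, Finset.sum_range_succ, hf.coeff_natDegree, one_smul] at hz
        exact hz
      have : (β : ℂ) ^ n * ((∑ i ∈ Finset.range n, ((f.coeff i : localSubring hM) : ℂ) * z ^ i) + z ^ n)
          = ((β : ℂ) * z) ^ n + ∑ i ∈ Finset.range n, (c i : ℂ) * ((β : ℂ) * z) ^ i := by
        rw [mul_add, Finset.mul_sum, ← mul_pow, add_comm]
        congr 1
        refine Finset.sum_congr rfl fun i hi => ?_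
        rw [← hc i hi, mul_pow]
        have : (β : ℂ) ^ n = (β : ℂ) ^ (n - i) * (β : ℂ) ^ i := by
          rw [← pow_add, Nat.sub_add_cancel (Finset.mem_range.1 hi).le]
        rw [this]; ring
      rw [hz', mul_zero] at this
      exact this.symm
  exact ⟨⟨_, hint⟩, β, hβ, by simp [hβ0]⟩

theorem splits_local (f : Polynomial (localSubring hM)) (hf : f.Monic) :
    ∃ s : Multiset (localSubring hM), f = (s.map fun r => X - C r).prod := by
  induction hn : f.natDegree generalizing f with
  | zero => exact ⟨0, by rw [Multiset.map_zero, Multiset.prod_zero, hf.natDegree_eq_zero.1 hn]⟩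
  | succ n ih =>
    have hdeg : (f.map (algebraMap (localSubring hM) ℂ)).degree ≠ 0 := by
      rw [(hf).degree_map, degree_eq_natDegree hf.ne_zero, hn]
      exact_mod_cast Nat.succ_ne_zero n
    obtain ⟨z, hz⟩ := IsAlgClosed.exists_root _ hdeg
    have hz' : aeval z f = 0 := by rwa [IsRoot, eval_map_algebraMap] at hz
    set r : localSubring hM := ⟨z, LR_of_root hM hf hz'⟩
    have hroot : f.IsRoot r := by
      apply Subtype.ext
      show ((f.eval r : localSubring hM) : ℂ) = 0
      rw [← hz']
      exact (aeval_algebraMap_apply_eq_algebraMap_eval r f).symm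
    obtain ⟨q, hq⟩ := dvd_iff_isRoot.2 hroot
    have hqm : q.Monic := (monic_X_sub_C r).of_mul_monic_left (hq ▸ hf)
    obtain ⟨s, hs⟩ := ih q hqm (by
      rw [hq, (monic_X_sub_C r).natDegree_mul hqm, natDegree_X_sub_C] at hn
      omega)
    exact ⟨r ::ₘ s, by rw [Multiset.map_cons, Multiset.prod_cons, ← hs, hq]⟩

theorem splits_residue (f : Polynomial (Residue hM)) (hf : f.Monic) :
    ∃ s : Multiset (Residue hM), f = (s.map fun r => X - C r).prod := by
  obtain ⟨g, hg, -, hgm⟩ := lifts_and_degree_eq_and_monic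
    (f := Ideal.Quotient.mk (localMaxIdeal hM))
    ((mem_lifts f).2 (map_surjective _ Ideal.Quotient.mk_surjective f)) hf
  obtain ⟨s, hs⟩ := splits_local hM g hgm
  refine ⟨s.map (Ideal.Quotient.mk (localMaxIdeal hM)), ?_⟩
  rw [← hg, hs, Polynomial.map_multiset_prod]
  simp [Multiset.map_map]

variable {G : Type*} [Group G]

/-- Reduction of the group algebra. -/
noncomputable def red : LAlg hM G →+* KAlg hM G :=
  MonoidAlgebra.mapRingHom G (Ideal.Quotient.mk (localMaxIdeal hM))

theorem coeff_red (a : LAlg hM G) (g : G) :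
    (red hM a).coeff g = Ideal.Quotient.mk (localMaxIdeal hM) (a.coeff g) :=
  MonoidAlgebra.coeff_mapRingHom _ a g

theorem coeff_red_resid (a : LAlg hM G) (g : G) :
    (red hM a).coeff g = resid hM ((a.coeff g : localSubring hM) : ℂ) := by
  rw [coeff_red, resid_mk]

theorem red_single (g : G) : red hM (MonoidAlgebra.single g 1) = MonoidAlgebra.single g 1 := by
  simp [red]

theorem red_smul (r : localSubring hM) (a : LAlg hM G) :
    red hM (r • a) = Ideal.Quotient.mk (localMaxIdeal hM) r • red hM a := by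
  refine MonoidAlgebra.coeff_injective (Finsupp.ext fun g => ?_)
  simp [coeff_red]

variable [Fintype G]

instance finite_LAlg : Module.Finite (localSubring hM) (LAlg hM G) :=
  Module.Finite.equiv (MonoidAlgebra.coeffLinearEquiv (localSubring hM)).symm

instance finite_KAlg : Module.Finite (Residue hM) (KAlg hM G) :=
  Module.Finite.equiv (MonoidAlgebra.coeffLinearEquiv (Residue hM)).symm

theorem eq_sum_single {R : Type*} [Semiring R] (a : MonoidAlgebra R G) :
    a = ∑ g : G, MonoidAlgebra.single g (a.coeff g) := by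
  refine MonoidAlgebra.coeff_injective (Finsupp.ext fun g => ?_)
  simp [MonoidAlgebra.coeff_sum, Finsupp.single_apply]

theorem red_ker (z : LAlg hM G) (hz : red hM z = 0) :
    z ∈ RingHom.ker (Ideal.Quotient.mk (localMaxIdeal hM))
      • (⊤ : Submodule (localSubring hM) (LAlg hM G)) := by
  rw [eq_sum_single z]
  refine Submodule.sum_mem _ fun g _ => ?_
  rw [show MonoidAlgebra.single g (z.coeff g)
    = z.coeff g • (MonoidAlgebra.single g 1 : LAlg hM G) by simp]
  refine Submodule.smul_mem_smul ?_ Submodule.mem_top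
  rw [RingHom.mem_ker, ← coeff_red, hz]
  simp

theorem isUnit_of_red_eq_one {x : LAlg hM G} (hx : red hM x = 1) : IsUnit x :=
  isUnit_of_map_eq_one (Ideal.Quotient.mk (localMaxIdeal hM)) (red hM)
    (isUnit_of_residue_ne_zero hM) (red_ker hM) hx

/-! ### Lifts fixed by a set of group elements -/

omit [Fintype G] in
theorem commute_single_iff {R : Type*} [CommSemiring R] (h : G) (x : MonoidAlgebra R G) :
    Commute (MonoidAlgebra.single h 1) x ↔ ∀ g, x.coeff (h * g * h⁻¹) = x.coeff g := by
  constructor
  · intro hc g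
    have := congrArg (fun z : MonoidAlgebra R G => z.coeff (h * g)) hc.eq
    simpa [mul_assoc] using this.symm
  · intro hx
    refine MonoidAlgebra.coeff_injective (Finsupp.ext fun g => ?_)
    have := hx (h⁻¹ * g)
    simp only [MonoidAlgebra.coeff_single_mul_apply, MonoidAlgebra.coeff_mul_single_apply, one_mul,
      mul_one]
    rw [← this]; simp [mul_assoc]

/-- A lift of a reduced element with the same symmetries. -/
noncomputable def liftK (x : KAlg hM G) : LAlg hM G :=
  MonoidAlgebra.ofCoeff (Finsupp.equivFunOnFinite.symm fun g =>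
    (⟨sec hM (x.coeff g), sec_LR hM _⟩ : localSubring hM))

theorem coeff_liftK (x : KAlg hM G) (g : G) :
    (((liftK hM x).coeff g : localSubring hM) : ℂ) = sec hM (x.coeff g) := by
  simp [liftK]

theorem red_liftK (x : KAlg hM G) : red hM (liftK hM x) = x := by
  refine MonoidAlgebra.coeff_injective (Finsupp.ext fun g => ?_)
  rw [coeff_red_resid, coeff_liftK, resid_sec]

theorem commute_liftK {h : G} {x : KAlg hM G} (hx : Commute (MonoidAlgebra.single h 1) x) :
    Commute (MonoidAlgebra.single h 1) (liftK hM x) :=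
  (commute_single_iff h _).2 fun g => Subtype.ext (by
    rw [coeff_liftK, coeff_liftK, (commute_single_iff h x).1 hx g])

omit [Fintype G] in
theorem Fix_red {h : G} {a : LAlg hM G} (ha : Commute (MonoidAlgebra.single h 1) a) :
    Commute (MonoidAlgebra.single h 1) (red hM a) := by
  have := ha.map (red hM)
  rwa [red_single] at this

/-- Idempotents lift, keeping the symmetries. -/
theorem exists_lift_idem {e : KAlg hM G} (he : IsIdempotentElem e) :
    ∃ a : LAlg hM G, IsIdempotentElem a ∧ red hM a = e ∧
      ∀ h : G, Commute (MonoidAlgebra.single h 1) e → Commute (MonoidAlgebra.single h 1) a := by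
  obtain ⟨q, hq, hqe⟩ := exists_idem_lift (Ideal.Quotient.mk (localMaxIdeal hM)) (red hM)
    (red_smul hM) (isUnit_of_residue_ne_zero hM) (splits_local hM)
    (a := liftK hM e) (by rw [red_liftK]; exact he)
  exact ⟨_, hq, by rw [hqe, red_liftK],
    fun h hh => commute_aeval (commute_liftK hM hh) q⟩

/-- A lift inside a given corner. -/
theorem exists_lift_idem_corner {j : LAlg hM G} (hj : IsIdempotentElem j) {e : KAlg hM G}
    (he : IsIdempotentElem e) (hje : red hM j * e = e) (hej : e * red hM j = e) :
    ∃ a : LAlg hM G, IsIdempotentElem a ∧ red hM a = e ∧ j * a = a ∧ a * j = a ∧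
      ∀ h : G, Commute (MonoidAlgebra.single h 1) e → Commute (MonoidAlgebra.single h 1) j →
        Commute (MonoidAlgebra.single h 1) a := by
  set a₀ := j * liftK hM e * j
  have hred : red hM a₀ = e := by rw [map_mul, map_mul, red_liftK, hje, hej]
  obtain ⟨q, hq, hqe⟩ := exists_idem_lift (Ideal.Quotient.mk (localMaxIdeal hM)) (red hM)
    (red_smul hM) (isUnit_of_residue_ne_zero hM) (splits_local hM)
    (a := a₀) (by rw [hred]; exact he)
  have hcj : Commute j a₀ := by
    show j * (j * liftK hM e * j) = (j * liftK hM e * j) * j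
    rw [← mul_assoc, ← mul_assoc, hj.eq, mul_assoc (j * liftK hM e) j j, hj.eq]
  set b := aeval a₀ q
  have hjb : Commute j b := commute_aeval hcj q
  refine ⟨j * b, ?_, ?_, ?_, ?_, fun h hh hhj =>
    hhj.mul_right (commute_aeval ((hhj.mul_right (commute_liftK hM hh)).mul_right hhj) q)⟩
  · show j * b * (j * b) = j * b
    rw [mul_assoc, ← mul_assoc b j b, ← hjb.eq, mul_assoc j b b, hq.eq, ← mul_assoc, hj.eq]
  · rw [map_mul, hqe, hred, hje]
  · rw [← mul_assoc, hj.eq]
  · rw [mul_assoc, ← hjb.eq, ← mul_assoc, hj.eq]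

/-! ### Character values -/

/-- The value of `χ` at an element of the group algebra. -/
noncomputable def val (χ : IrrCharacter G) (a : LAlg hM G) : ℂ :=
  ∑ g : G, ((a.coeff g : localSubring hM) : ℂ) * (χ : G → ℂ) g

theorem val_add (χ : IrrCharacter G) (a b : LAlg hM G) :
    val hM χ (a + b) = val hM χ a + val hM χ b := by
  simp [val, add_mul, Finset.sum_add_distrib]

theorem val_zero (χ : IrrCharacter G) : val hM χ (0 : LAlg hM G) = 0 := by simp [val]

theorem coeff_mul_eq {R : Type*} [Semiring R] (a b : MonoidAlgebra R G) (g : G) :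
    (a * b).coeff g = ∑ h, a.coeff h * b.coeff (h⁻¹ * g) := coeff_mul_sum a b g

theorem val_mul (χ : IrrCharacter G) (a b : LAlg hM G) :
    val hM χ (a * b) = ∑ h, ∑ g, ((a.coeff h : localSubring hM) : ℂ) *
      ((b.coeff g : localSubring hM) : ℂ) * (χ : G → ℂ) (h * g) := by
  simp only [val, coeff_mul_eq, AddSubmonoidClass.coe_finsetSum, MulMemClass.coe_mul,
    Finset.sum_mul]
  rw [Finset.sum_comm]
  refine Finset.sum_congr rfl fun h _ => (Fintype.sum_equiv (Equiv.mulLeft h) _ _ fun g => ?_).symm
  simp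

theorem val_mul_comm (χ : IrrCharacter G) (a b : LAlg hM G) :
    val hM χ (a * b) = val hM χ (b * a) := by
  rw [val_mul, val_mul, Finset.sum_comm]
  refine Finset.sum_congr rfl fun g _ => Finset.sum_congr rfl fun h _ => ?_
  rw [mul_comm ((a.coeff h : localSubring hM) : ℂ)]
  congr 1
  rw [show g * h = g * (h * g) * g⁻¹ by simp [mul_assoc], irr_conj_apply]

theorem val_single_mul (χ : IrrCharacter G) (x : G) (a : LAlg hM G) :
    val hM χ (MonoidAlgebra.single x 1 * a)
      = ∑ g : G, ((a.coeff g : localSubring hM) : ℂ) * (χ : G → ℂ) (x * g) := by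
  rw [val_mul, Finset.sum_eq_single x]
  · exact Finset.sum_congr rfl fun g _ => by simp
  · intro h _ hne
    refine Finset.sum_eq_zero fun g _ => ?_
    simp [Finsupp.single_apply, Ne.symm hne]
  · simp

/-- Idempotents commuting with `g` whose reductions are equivalent take equal values at `g`. -/
theorem val_eq_of_equiv (χ : IrrCharacter G) {g : G} {a b : LAlg hM G} (ha : IsIdempotentElem a)
    (hb : IsIdempotentElem b) (hga : Commute (MonoidAlgebra.single g 1) a)
    (hgb : Commute (MonoidAlgebra.single g 1) b) {P Q : KAlg hM G}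
    (hgP : Commute (MonoidAlgebra.single g 1) P) (hgQ : Commute (MonoidAlgebra.single g 1) Q)
    (hPQ : P * Q = red hM a) (hQP : Q * P = red hM b) :
    val hM χ (MonoidAlgebra.single g 1 * a) = val hM χ (MonoidAlgebra.single g 1 * b) := by
  set z : LAlg hM G := MonoidAlgebra.single g 1
  set P' := a * liftK hM P * b with hP'
  set Q' := b * liftK hM Q * a with hQ'
  have hzP : Commute z P' := (hga.mul_right (commute_liftK hM hgP)).mul_right hgb
  have hzQ : Commute z Q' := (hgb.mul_right (commute_liftK hM hgQ)).mul_right hga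
  have hai : IsIdempotentElem (red hM a) := ha.map (red hM)
  have hbi : IsIdempotentElem (red hM b) := hb.map (red hM)
  -- `r = P' Q' + (1 - a)` reduces to `1`
  have hr : red hM (P' * Q' + (1 - a)) = 1 := by
    rw [map_add, map_mul, map_sub, map_one, hP', hQ', map_mul, map_mul, map_mul, map_mul,
      red_liftK, red_liftK]
    have hkey : red hM a * P * red hM b * (red hM b * Q * red hM a) = red hM a := by
      calc red hM a * P * red hM b * (red hM b * Q * red hM a)
          = red hM a * P * (red hM b * red hM b) * Q * red hM a := by noncomm_ring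
        _ = red hM a * P * (Q * P) * Q * red hM a := by rw [hbi.eq, ← hQP]
        _ = red hM a * (P * Q) * (P * Q) * red hM a := by noncomm_ring
        _ = red hM a := by rw [hPQ, hai.eq, hai.eq, hai.eq]
    rw [hkey, add_sub_cancel]
  obtain ⟨u, hu⟩ := isUnit_of_red_eq_one hM hr
  have hzu : Commute z (u : LAlg hM G) :=
    hu ▸ (hzP.mul_right hzQ).add_right ((Commute.one_right z).sub_right hga)
  have hzui : Commute z (↑u⁻¹ : LAlg hM G) := hzu.units_inv_right
  have haPQ : a * (P' * Q') = P' * Q' := by rw [hP']; simp [← mul_assoc, ha.eq]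
  have hPQa : P' * Q' * a = P' * Q' := by rw [hQ']; simp [mul_assoc, ha.eq]
  have hau : Commute a (u : LAlg hM G) := by
    show a * (u : LAlg hM G) = (u : LAlg hM G) * a
    rw [hu, mul_add, add_mul, haPQ, hPQa, mul_sub, sub_mul, mul_one, one_mul]
  have hua : (u : LAlg hM G) * a = P' * Q' := by
    rw [hu, add_mul, hPQa, sub_mul, one_mul, ha.eq, sub_self, add_zero]
  have h1 : P' * (Q' * ↑u⁻¹ * a) = a := by
    calc P' * (Q' * ↑u⁻¹ * a) = P' * Q' * (↑u⁻¹ * a) := by simp only [mul_assoc]
      _ = (u : LAlg hM G) * a * (↑u⁻¹ * a) := by rw [hua]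
      _ = a * ((u : LAlg hM G) * ↑u⁻¹) * a := by rw [← hau.eq]; simp only [mul_assoc]
      _ = a := by rw [Units.mul_inv, mul_one, ha.eq]
  set Q'' := Q' * ↑u⁻¹ * a
  have hzQ'' : Commute z Q'' := (hzQ.mul_right hzui).mul_right hga
  have hQP' : IsIdempotentElem (Q'' * P') := by
    show Q'' * P' * (Q'' * P') = Q'' * P'
    calc Q'' * P' * (Q'' * P') = Q'' * (P' * Q'') * P' := by simp only [mul_assoc]
      _ = Q'' * (a * P') := by rw [h1, mul_assoc]
      _ = _ := by rw [hP']; simp [← mul_assoc, ha.eq]
  have hbQP : b * (Q'' * P') = Q'' * P' := by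
    simp only [Q'', hQ', ← mul_assoc, hb.eq]
  have hQPb : Q'' * P' * b = Q'' * P' := by
    simp only [hP', mul_assoc, hb.eq]
  -- the difference is an idempotent reducing to zero
  have hdiff : b - Q'' * P' = 0 := by
    have hid : IsIdempotentElem (b - Q'' * P') := by
      show (b - Q'' * P') * (b - Q'' * P') = b - Q'' * P'
      rw [sub_mul, mul_sub, mul_sub, hb.eq, hbQP, hQPb, hQP'.eq, sub_self, sub_zero]
    have hred0 : red hM (b - Q'' * P') = 0 := by
      have hu1 : red hM (↑u⁻¹ : LAlg hM G) = 1 := by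
        have h2 := congrArg (red hM) u.inv_mul
        rwa [map_mul, hu, hr, mul_one, map_one] at h2
      simp only [Q'', hQ', hP', map_sub, map_mul, red_liftK, hu1, mul_one]
      rw [sub_eq_zero]
      symm
      calc red hM b * Q * red hM a * red hM a * (red hM a * P * red hM b)
          = red hM b * Q * ((red hM a * red hM a) * red hM a) * P * red hM b := by noncomm_ring
        _ = red hM b * Q * (P * Q) * P * red hM b := by rw [hai.eq, hai.eq, hPQ]
        _ = red hM b * (Q * P) * (Q * P) * red hM b := by noncomm_ring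
        _ = red hM b := by rw [hQP, hbi.eq, hbi.eq, hbi.eq]
    have hunit := isUnit_of_red_eq_one hM (x := 1 - (b - Q'' * P'))
      (by rw [map_sub, hred0, map_one, sub_zero])
    have h3 : (b - Q'' * P') * (1 - (b - Q'' * P')) = 0 := by rw [mul_sub, mul_one, hid.eq, sub_self]
    exact hunit.mul_left_eq_zero.1 h3
  calc val hM χ (z * a) = val hM χ (z * P' * Q'') := by rw [mul_assoc, h1]
    _ = val hM χ (Q'' * (z * P')) := val_mul_comm hM χ _ _
    _ = val hM χ (z * (Q'' * P')) := by
        rw [← mul_assoc Q'' z P', ← mul_assoc z Q'' P', hzQ''.eq]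
    _ = val hM χ (z * b) := by rw [sub_eq_zero.1 hdiff]

/-- The vanishing theorem for idempotents. -/
theorem val_eq_zero_of_vanish (χ : IrrCharacter G) {u x : G} {k : ℕ} (hu : orderOf u = p ^ k)
    (hx : ¬ p ∣ orderOf x) (hux : Commute u x) {a : LAlg hM G} (ha : IsIdempotentElem a)
    (hau : Commute (MonoidAlgebra.single u 1) a) (hax : Commute (MonoidAlgebra.single x 1) a)
    (h0 : ∀ c, Commute u c → (red hM a).coeff c = 0) :
    val hM χ (MonoidAlgebra.single (u * x) 1 * a) = 0 := by
  obtain ⟨n, ρ, hρ, he⟩ := χ.2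
  set f : G → ℂ := fun g => ((a.coeff g : localSubring hM) : ℂ)
  have hidem : ∀ g, ∑ h, f h * f (h⁻¹ * g) = f g := fun g => by
    have := congrArg (fun z : LAlg hM G => ((z.coeff g : localSubring hM) : ℂ)) ha.eq
    simp only [coeff_mul_eq, AddSubmonoidClass.coe_finsetSum, MulMemClass.coe_mul] at this
    exact this
  have h := trace_eq_zero_of_brauer_zero hM ρ (fun g => (a.coeff g).2) hidem hu hx hux
    (fun g => congrArg Subtype.val ((commute_single_iff u a).1 hau g))
    (fun g => congrArg Subtype.val ((commute_single_iff x a).1 hax g))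
    (fun g hg => by
      have := h0 g hg
      rwa [coeff_red_resid, resid_eq_zero_iff hM (a.coeff g).2] at this)
  rw [val_single_mul]
  rw [he] at h
  exact h

end CfsgLib.BrouePuig
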