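import Cfsg.Agent.Lib.DegreeTools.CharTools
import Cfsg.Agent.Lib.Blocks.LocalRing
import Cfsg.Agent.Lib.Char.Basic
import Mathlib.Analysis.SpecialFunctions.Log.Basic

/-!
# Positive generalized characters of a `p`-group with mean one
-/

set_option autoImplicit false

namespace CfsgLib.BrouePuig

open Cfsg CfsgLib.Blocks
open CfsgLib.DegreeTools
open scoped Classical

variable {p : ℕ} {M : Ideal AlgInt} {P : Type*} [Group P] [Fintype P]

theorem gen_congr (hM : IsPModular p M) (hP : IsPGroup p P) {c : P → ℂ}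
    (hc : IsGeneralizedCharacter P c) (w : P) : MemLocalIdeal M (c w - c 1) := by
  obtain ⟨k, hk⟩ := hP w
  have key : ∀ χ : P → ℂ, IsCharacter P χ → MemLocalIdeal M (χ w - χ 1) := by
    rintro χ ⟨d, ρ, rfl⟩
    have hn : p ^ k ≠ 0 := pow_ne_zero _ hM.1.ne_zero
    obtain ⟨ω, hω⟩ : ∃ ω : ℂ, IsPrimitiveRoot ω (p ^ k) := ⟨_, Complex.isPrimitiveRoot_exp _ hn⟩
    have h1 := Eigen.char_pow_eq_sum ρ w hω hn hk 1
    rw [pow_one] at h1
    have h2 : ρ.character 1 = ∑ i ∈ Finset.range (p ^ k), (Eigen.mult (ρ w) (p ^ k) (ω ^ i) : ℂ) := by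
      rw [Representation.char_one, ← Eigen.sum_mult hω (T := ρ w) (by rw [← map_pow, hk, map_one]) hn]
      push_cast; rfl
    rw [h1, h2, ← Finset.sum_sub_distrib]
    refine LI.sum hM fun i _ => ?_
    rw [show ∀ a b : ℂ, a * b - a = a * (b - 1) from fun a b => by ring]
    refine LI.mul_left hM (LR.natCast hM _) (LI.root_sub_one hM (k := k) ?_)
    rw [← pow_mul, mul_comm _ (p ^ k), pow_mul, hω.pow_eq_one, one_pow]
  obtain ⟨a, b, ha, hb, rfl⟩ := hc
  have := LI.add hM (key a ha) (LI.neg (key b hb))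
  convert this using 1
  simp only [Pi.sub_apply]; ring

/-- A generalized character without zeros has product of absolute values at least one. -/
theorem one_le_prod_gen (hp : p.Prime) {c : P → ℂ} (hc : IsGeneralizedCharacter P c)
    (hne : ∀ w, c w ≠ 0) : 1 ≤ ∏ w : P, ‖c w‖ := by
  set N := Nat.card P
  set n := N * p
  have hN : N ≠ 0 := Nat.card_pos.ne'
  have hn : n ≠ 0 := mul_ne_zero hN hp.ne_zero
  have hn1 : 1 < n := lt_of_lt_of_le hp.one_lt (Nat.le_mul_of_pos_left p (Nat.pos_of_ne_zero hN))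
  obtain ⟨ω, hω⟩ : ∃ ω : ℂ, IsPrimitiveRoot ω n := ⟨_, Complex.isPrimitiveRoot_exp n hn⟩
  set J := (Finset.range n).filter fun j => n.Coprime j with hJ
  have hJpos : J.card ≠ 0 := by
    have : J.card = n.totient := rfl
    rw [this]; exact (Nat.totient_pos.2 (Nat.pos_of_ne_zero hn)).ne'
  obtain ⟨a, b, ⟨da, ρa, ha⟩, ⟨db, ρb, hb⟩, hab⟩ := hc
  have hkey : ∀ w : P, (1 : ℝ) ≤ ∏ j ∈ J, ‖c (w ^ j)‖ := by
    intro w
    have hw : w ^ n = 1 := by rw [pow_mul, pow_card_eq_one', one_pow]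
    set D := Module.finrank ℂ (Fin db → ℂ)
    set m := fun k => Eigen.mult (ρa w) n (ω ^ k) + (D - Eigen.mult (ρb w) n (ω ^ k))
    have hbD : ∀ k ∈ Finset.range n, Eigen.mult (ρb w) n (ω ^ k) ≤ D := by
      intro k hk
      simp only [D]
      rw [← Eigen.sum_mult hω (T := ρb w) (by rw [← map_pow, hw, map_one]) hn]
      exact Finset.single_le_sum (f := fun k => Eigen.mult (ρb w) n (ω ^ k))
        (fun _ _ => Nat.zero_le _) hk
    have hval : ∀ j, n.Coprime j → c (w ^ j) = ∑ k ∈ Finset.range n, (m k : ℂ) * (ω ^ j) ^ k := by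
      intro j hj
      have h0 : ∑ k ∈ Finset.range n, (ω ^ j) ^ k = 0 :=
        (hω.pow_of_coprime j hj.symm).geom_sum_eq_zero hn1
      rw [hab, Pi.sub_apply, ← ha, ← hb, Eigen.char_pow_eq_sum ρa w hω hn hw j,
        Eigen.char_pow_eq_sum ρb w hω hn hw j, ← Finset.sum_sub_distrib]
      have e : ∀ k ∈ Finset.range n, (m k : ℂ) * (ω ^ j) ^ k
          = ((Eigen.mult (ρa w) n (ω ^ k) : ℂ) * ω ^ (k * j)
            - (Eigen.mult (ρb w) n (ω ^ k) : ℂ) * ω ^ (k * j)) + (D : ℂ) * (ω ^ j) ^ k := by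
        intro k hk
        simp only [m, Nat.cast_add, Nat.cast_sub (hbD k hk), ← pow_mul, mul_comm j k]
        ring
      rw [Finset.sum_congr rfl e, Finset.sum_add_distrib, ← Finset.mul_sum, h0, mul_zero, add_zero]
    have h1 : c w = ∑ k ∈ Finset.range n, (m k : ℂ) * ω ^ k := by
      simpa using hval 1 (Nat.coprime_one_right n)
    have h := Galois.one_le_prod_norm hn hω m 1 (by
      rw [Nat.cast_one, div_one]
      exact IsIntegral.sum _ fun k _ => (isIntegral_natCast (m k)).mul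
        (IsIntegral.pow (hω.isIntegral (Nat.pos_of_ne_zero hn)) k)) (by
      rw [Nat.cast_one, div_one, ← h1]; exact hne w)
    simp only [Nat.cast_one, div_one] at h
    refine h.trans_eq ?_
    refine (Finset.prod_bij (fun j _ => ω ^ j) ?_ ?_ ?_ ?_).symm
    · intro j hj
      rw [mem_primitiveRoots (Nat.pos_of_ne_zero hn)]
      exact hω.pow_of_coprime j (Finset.mem_filter.1 hj).2.symm
    · intro x hx y hy hxy
      exact hω.pow_inj (Finset.mem_range.1 (Finset.mem_filter.1 hx).1)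
        (Finset.mem_range.1 (Finset.mem_filter.1 hy).1) hxy
    · intro r hr
      rw [mem_primitiveRoots (Nat.pos_of_ne_zero hn)] at hr
      haveI : NeZero n := ⟨hn⟩
      obtain ⟨i, hi, hco, rfl⟩ := (hω.isPrimitiveRoot_iff).mp hr
      exact ⟨i, Finset.mem_filter.mpr ⟨Finset.mem_range.mpr hi, hco.symm⟩, rfl⟩
    · intro j hj
      rw [hval j (Finset.mem_filter.1 hj).2]
  have h1 : (1 : ℝ) ≤ ∏ w : P, ∏ j ∈ J, ‖c (w ^ j)‖ :=
    Finset.one_le_prod fun w _ => hkey w
  rw [Finset.prod_comm] at h1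
  have h2 : ∀ j ∈ J, ∏ w : P, ‖c (w ^ j)‖ = ∏ w : P, ‖c w‖ := fun j hj =>
    Fintype.prod_equiv (powCoprime ((Finset.mem_filter.1 hj).2.coprime_dvd_left (Dvd.intro p rfl)))
      _ _ fun w => rfl
  rw [Finset.prod_congr rfl h2, Finset.prod_const] at h1
  exact (one_le_pow_iff_of_nonneg (Finset.prod_nonneg fun w _ => norm_nonneg _) hJpos).1 h1

theorem eq_one_of_gen (hM : IsPModular p M) (hP : IsPGroup p P) {c : P → ℂ}
    (hc : IsGeneralizedCharacter P c) (r : P → ℝ) (hr : ∀ w, c w = (r w : ℂ))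
    (hr0 : ∀ w, 0 ≤ r w) (h1 : ¬ MemLocalIdeal M (c 1)) (hsum : ∑ w, c w = (Nat.card P : ℂ))
    (w : P) : c w = 1 := by
  have hne : ∀ v, c v ≠ 0 := by
    intro v h
    refine h1 ?_
    have := LI.neg (gen_congr hM hP hc v)
    rwa [h, zero_sub, neg_neg] at this
  have hpos : ∀ v, 0 < r v := fun v => lt_of_le_of_ne (hr0 v) fun h => hne v (by rw [hr, ← h]; simp)
  have hprod := one_le_prod_gen hM.1 hc hne
  have hn : ∀ v, ‖c v‖ = r v := fun v => by
    rw [hr, Complex.norm_real, Real.norm_of_nonneg (hr0 v)]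
  simp only [hn] at hprod
  have hlog : 0 ≤ ∑ v : P, Real.log (r v) := by
    rw [← Real.log_prod fun v _ => (hpos v).ne']
    exact Real.log_nonneg hprod
  have hsum' : ∑ v : P, r v = (Nat.card P : ℝ) := by
    have : ((∑ v : P, r v : ℝ) : ℂ) = ((Nat.card P : ℝ) : ℂ) := by
      push_cast
      rw [← hsum]
      exact Finset.sum_congr rfl fun v _ => (hr v).symm
    exact_mod_cast this
  by_contra hw
  have hw' : r w ≠ 1 := fun h => hw (by rw [hr, h]; simp)
  have hlt : ∑ v : P, Real.log (r v) < ∑ v : P, (r v - 1) :=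
    Finset.sum_lt_sum (fun v _ => Real.log_le_sub_one_of_pos (hpos v))
      ⟨w, Finset.mem_univ w, Real.log_lt_sub_one_of_pos (hpos w) hw'⟩
  rw [Finset.sum_sub_distrib, hsum', Finset.sum_const, nsmul_one, Finset.card_univ,
    Fintype.card_eq_nat_card, sub_self] at hlt
  exact absurd hlog (not_le.2 hlt)

end CfsgLib.BrouePuig
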