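import Cfsg.Agent.Lib.BrouePuig.Product
import Cfsg.Agent.Lib.BrouePuig.PGroupVirtual
import Cfsg.Agent.Lib.BrauerPairs.Nilpotent
import Cfsg.Agent.Lib.Blocks.Height
import Cfsg.Agent.Lib.Blocks.CentralDefect
import Cfsg.Agent.Lib.Char.Virtual
import Cfsg.Agent.Lib.Char.Perm

/-!
# The characters of a nilpotent block
-/

set_option autoImplicit false

namespace CfsgLib.BrouePuig

open Cfsg CfsgLib.Blocks CfsgLib.Blocks.ResidueAlgebra CfsgLib.BrauerPairs
open scoped Classical ComplexConjugate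

universe u

variable {p : ℕ} [Fact p.Prime] {M : Ideal AlgInt} {G : Type u} [Group G] [Fintype G]
  {B : Set (IrrCharacter G)} {P : Subgroup G}
  {e : Set (IrrCharacter (Subgroup.centralizer (P : Set G)))} {hM : IsPModular p M}

theorem fusion_inner (hM : IsPModular p M) (hnil : IsNilpotentBlock p M B)
    (hmax : IsMaximalBrauerPair p M B P e) (w : P) (k : G)
    (h : Moves p M P e (Subgroup.zpowers (w : G)) k) :
    ∃ v : P, k * (w : G) * k⁻¹ = ((v * w * v⁻¹ : P) : G) := by
  have hF := isBlockFusionSystemOn_blockFusion hM hmax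
  have hmem : conjHom (Subgroup.zpowers (w : G)) k
      ∈ (blockFusion hM hmax.1.1).Hom (Subgroup.zpowers (w : G)) :=
    (mem_hom_iff hF).2 ⟨Subgroup.zpowers_le.2 w.2, k, fun u => rfl, h⟩
  rw [hom_eq_inner_of_nilpotent hM hF hnil] at hmem
  obtain ⟨-, g, hg, hgφ⟩ := hmem
  exact ⟨⟨g, hg⟩, hgφ ⟨w, Subgroup.mem_zpowers _⟩⟩

theorem stable_of_class (hM : IsPModular p M) (hnil : IsNilpotentBlock p M B)
    (hmax : IsMaximalBrauerPair p M B P e) {ζ : P → ℂ} (hζ : IsClassFunction P ζ) :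
    Stable p M P e ζ := by
  intro w w' k hk hw
  obtain ⟨v, hv⟩ := fusion_inner hM hnil hmax w k hk
  rw [show w' = v * w * v⁻¹ from Subtype.ext (hw.symm.trans hv), hζ]

theorem classInner_star_nil (hnil : IsNilpotentBlock p M B)
    (hmax : IsMaximalBrauerPair p M B P e) {ζ ζ' : P → ℂ} (hζ : IsClassFunction P ζ)
    (hζ' : IsClassFunction P ζ') (χ ψ : IrrCharacter G) :
    classInner (star hM (etaOf p M P e ζ) χ) (star hM (etaOf p M P e ζ') ψ)
      = (Nat.card P : ℂ)⁻¹ * ∑ w : P, ζ w * conj (ζ' w) *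
          (ratio P w * secInner p χ ψ (bel hM hmax.1.1 w)) := by
  have hs := stable_of_class hM hnil hmax hζ
  have hs' := stable_of_class hM hnil hmax hζ'
  rw [classInner_etaOf hmax,
    sum_elems_eq hM hmax (fun w k => fusion_inner hM hnil hmax w k) _ fun y a ha => by
      rw [etaOf_act hs, etaOf_act hs', secInner_act hM χ ψ y ha.1.2],
    ← mul_assoc, ← mul_assoc, inv_mul_cancel₀ Char.card_ne_zero, one_mul]
  congr 1
  refine Finset.sum_congr rfl fun w _ => ?_
  rw [etaOf_bel hM hmax.1.1 hs, etaOf_bel hM hmax.1.1 hs']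
  ring

theorem ratio_one : ratio P 1 = (Nat.card P : ℂ) * (Nat.card G : ℂ)⁻¹ := by
  have h1 : Subgroup.centralizer ({(1 : P)} : Set P) = ⊤ := eq_top_iff.2 fun x _ => by
    rw [Subgroup.mem_centralizer_singleton_iff, mul_one, one_mul]
  have h2 : Subgroup.centralizer ({((1 : P) : G)} : Set G) = ⊤ := eq_top_iff.2 fun x _ => by
    rw [Subgroup.mem_centralizer_singleton_iff, OneMemClass.coe_one, mul_one, one_mul]
  rw [ratio, h1, h2, Subgroup.card_top, Subgroup.card_top]

theorem secPart_bel_one (hM : IsPModular p M) (hmax : IsMaximalBrauerPair p M B P e)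
    {χ : IrrCharacter G} (hχ : χ ∈ B) (c : cenZ (bel hM hmax.1.1 1).1) (hc : ¬ p ∣ orderOf c) :
    secPart (bel hM hmax.1.1 1).1 (cenZ (bel hM hmax.1.1 1).1) (bel hM hmax.1.1 1).2 χ c
      = (χ : G → ℂ) (c : G) := by
  have h1 : ∃ k : ℕ, orderOf ((1 : P) : G) = p ^ k := ⟨0, by simp⟩
  have e2 := star_eq (hM := hM) (fun _ => (1 : ℂ)) χ (u := ((1 : P) : G)) h1 c hc
  simp only [one_mul, star_one] at e2
  have hel : IsElemOf p M B (bel hM hmax.1.1 1) :=
    isElemOf_of_below hM hmax (bel_below hM hmax.1.1 1)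
  have e3 : (χ : G → ℂ) (c : G) = (χ : G → ℂ) ((((1 : P) : G)) * (c : G)) := by
    rw [OneMemClass.coe_one, one_mul]
  rw [e3, e2]
  symm
  refine Eq.trans (Finset.sum_eq_single (bel hM hmax.1.1 1).2 ?_ ?_) rfl
  · intro b hb hne
    refine secPart_eq_zero_of_not_elem hM hχ hmax.1.2.1 (a := ⟨((1 : P) : G), b⟩)
      (mem_elems.2 ⟨h1, mem_blockSet.1 hb⟩) (fun h => hne ?_) hc
    obtain ⟨y, hy⟩ := (exists_below_iff hM hmax _).2 h
    have hy' : act y (⟨((1 : P) : G), b⟩ : BElem G) = ⟨((1 : P) : G), b⟩ := act_of_mem_centralizer (by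
      show y ∈ Subgroup.centralizer ((Subgroup.zpowers ((1 : P) : G) : Subgroup G) : Set G)
      rw [centralizer_zpowers, Subgroup.mem_centralizer_singleton_iff, OneMemClass.coe_one, mul_one,
        one_mul])
    rw [hy'] at hy
    have h2 := eq_bel hM hmax.1.1 hy 1 rfl
    exact eq_of_heq ((Sigma.mk.inj_iff.1 h2).2)
  · exact fun h => absurd (mem_blockSet.2 hel.1.2) h

theorem secInner_bel_one (hM : IsPModular p M) (hmax : IsMaximalBrauerPair p M B P e)
    {χ ψ : IrrCharacter G} (hχ : χ ∈ B) (hψ : ψ ∈ B) :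
    secInner p χ ψ (bel hM hmax.1.1 1)
      = ∑ x : G with IsPRegular p x, (χ : G → ℂ) x * conj ((ψ : G → ℂ) x) := by
  unfold secInner
  refine Finset.sum_bij (fun c _ => (c : G)) ?_ ?_ ?_ ?_
  · intro c hc
    refine Finset.mem_filter.2 ⟨Finset.mem_univ _, ?_⟩
    show ¬ p ∣ orderOf _
    rw [Subgroup.orderOf_coe]
    exact (Finset.mem_filter.1 hc).2
  · intro c _ d _ h
    exact Subtype.ext h
  · intro x hx
    have hmem : x ∈ cenZ (bel hM hmax.1.1 1).1 := by
      show x ∈ cenZ ((1 : P) : G)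
      rw [cenZ_eq, Subgroup.mem_centralizer_singleton_iff, OneMemClass.coe_one, mul_one, one_mul]
    refine ⟨⟨x, hmem⟩, Finset.mem_filter.2 ⟨Finset.mem_univ _, ?_⟩, rfl⟩
    show ¬ p ∣ orderOf _
    rw [← Subgroup.orderOf_coe]
    exact (Finset.mem_filter.1 hx).2
  · intro c hc
    rw [secPart_bel_one hM hmax hχ c (Finset.mem_filter.1 hc).2,
      secPart_bel_one hM hmax hψ c (Finset.mem_filter.1 hc).2]

theorem ratio_mul_secInner_one (hM : IsPModular p M) (hmax : IsMaximalBrauerPair p M B P e)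
    {χ ψ : IrrCharacter G} (hχ : χ ∈ B) (hψ : ψ ∈ B) :
    (pPartCard p G : ℂ) * (ratio P 1 * secInner p χ ψ (bel hM hmax.1.1 1))
      = (Nat.card P : ℂ) * regInner p (χ : G → ℂ) (ψ : G → ℂ) := by
  rw [ratio_one, secInner_bel_one hM hmax hχ hψ, regInner]
  simp only [conj_irr]
  ring

/-- The central lemma: the weights are one. -/
theorem ratio_mul_secInner_eq_one (hM : IsPModular p M) (hnil : IsNilpotentBlock p M B)
    (hmax : IsMaximalBrauerPair p M B P e) {χ : IrrCharacter G} (hχ : χ ∈ B)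
    (h0 : degVal p χ = minDegVal p B) (w : P) :
    ratio P w * secInner p χ χ (bel hM hmax.1.1 w) = 1 := by
  set c : P → ℂ := fun w => ratio P w * secInner p χ χ (bel hM hmax.1.1 w)
  have hone : IsClassFunction P (fun _ : P => (1 : ℂ)) := fun _ _ => rfl
  have hcl : IsClassFunction P c := by
    intro w v
    show ratio P (v * w * v⁻¹) * _ = _
    rw [ratio_conj, ← act_bel hM hmax.1.1 v w,
      secInner_act hM χ χ (v : G) (isElemOf_of_below hM hmax (bel_below hM hmax.1.1 w)).1.2]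
  have hgen : IsGeneralizedCharacter P c := by
    refine Char.isGeneralizedCharacter_iff.2 ⟨hcl, fun φ hφ => ?_⟩
    have hφc : IsClassFunction P φ := Char.IsIrrCharacter.isClassFunction hφ
    obtain ⟨z, hz⟩ := Char.IsGeneralizedCharacter.classInner_int
      (star_isGen (hM := hM) (etaOf_compatible hM hmax (stable_of_class hM hnil hmax hone)
        (Char.IsCharacter.isGeneralizedCharacter Char.isCharacter_one)) χ)
      (star_isGen (hM := hM) (etaOf_compatible hM hmax (stable_of_class hM hnil hmax hφc)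
        (Char.IsCharacter.isGeneralizedCharacter (Char.IsIrrCharacter.isCharacter hφ))) χ)
    refine ⟨z, ?_⟩
    rw [← hz, classInner_star_nil hnil hmax hone hφc, Cfsg.classInner]
    congr 1
    exact Finset.sum_congr rfl fun w _ => by simp only [c, one_mul]; ring
  let r : P → ℝ := fun w => (Nat.card (Subgroup.centralizer ({w} : Set P)) : ℝ) *
    (Nat.card (Subgroup.centralizer ({(w : G)} : Set G)) : ℝ)⁻¹ *
    ∑ d : cenZ (bel hM hmax.1.1 w).1 with IsPRegular p d, Complex.normSq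
      (secPart (bel hM hmax.1.1 w).1 (cenZ (bel hM hmax.1.1 w).1) (bel hM hmax.1.1 w).2 χ d)
  have hr : ∀ w, c w = (r w : ℂ) := fun w => by
    simp only [c, r, ratio, secInner, Complex.mul_conj]
    push_cast
    ring
  have hr0 : ∀ w, 0 ≤ r w := fun w =>
    mul_nonneg (mul_nonneg (Nat.cast_nonneg _) (inv_nonneg.2 (Nat.cast_nonneg _)))
      (Finset.sum_nonneg fun d _ => Complex.normSq_nonneg _)
  have hsum : ∑ w, c w = (Nat.card P : ℂ) := by
    have h := classInner_star_nil (hM := hM) hnil hmax hone hone χ χ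
    rw [star_etaOf_one hmax hχ, Char.classInner_irr_self χ.2] at h
    simp only [map_one, one_mul] at h
    rw [show ∑ w, c w = (Nat.card P : ℂ) * ((Nat.card P : ℂ)⁻¹ * ∑ w, c w) by
      rw [mul_inv_cancel_left₀ Char.card_ne_zero], ← h, mul_one]
  have hB := hmax.1.2.1
  have hP := isDefectGroup_of_isMaximal hM hmax
  have h1 : ¬ MemLocalIdeal M (c 1) := by
    obtain ⟨⟨m, hm⟩, hnd⟩ := regInt_exact_of_min hM hB hχ h0 hχ
    have hpm : ¬ (p : ℤ) ∣ m := fun ⟨l, hl⟩ => hnd ⟨l, by rw [hm, hl]; ring⟩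
    have hc1 : c 1 = (m : ℂ) := by
      have h := ratio_mul_secInner_one hM hmax hχ hχ
      rw [← cast_regInt hM.1, hm, card_defectGroup hM hB hP] at h
      apply mul_left_cancel₀ (pPartCard_ne_zero (G := G) hM.1)
      refine h.trans ?_
      have hd := blockDefect_add_min (p := p) (IsPBlock.nonempty hM hB)
      rw [pPartCard, ← hd, ← h0]
      push_cast
      rw [pow_add]
      ring
    rw [hc1, LI.intCast_iff hM]
    exact hpm
  exact eq_one_of_gen hM hmax.1.1.1 hgen r hr hr0 h1 hsum w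

/-- The bijection between the characters of `P` and those of a nilpotent block is the product. -/
theorem exists_param_star (hM : IsPModular p M) (hnil : IsNilpotentBlock p M B)
    (hmax : IsMaximalBrauerPair p M B P e) :
    ∃ χ₀ ∈ B, degVal p χ₀ = minDegVal p B ∧ ∃ Φ : IrrCharacter P ≃ B, ∀ ζ : IrrCharacter P,
      ((Φ ζ : IrrCharacter G) : G → ℂ) = star hM (etaOf p M P e (ζ : P → ℂ)) χ₀ := by
  obtain ⟨χ, hχ, h0⟩ := exists_degVal_eq_min (p := p) (IsPBlock.nonempty hM hmax.1.2.1)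
  refine ⟨χ, hχ, h0, ?_⟩
  set f : IrrCharacter P → G → ℂ := fun ζ => star hM (etaOf p M P e (ζ : P → ℂ)) χ
  have hcl : ∀ ζ : IrrCharacter P, IsClassFunction P (ζ : P → ℂ) := fun ζ =>
    Char.IsIrrCharacter.isClassFunction ζ.2
  have hst : ∀ ζ : IrrCharacter P, Stable p M P e (ζ : P → ℂ) := fun ζ =>
    stable_of_class hM hnil hmax (hcl ζ)
  have hreg : ∀ (ζ : IrrCharacter P) (x : G), ¬ p ∣ orderOf x →
      f ζ x = (ζ : P → ℂ) 1 * (χ : G → ℂ) x := fun ζ x hx => star_etaOf_regular hmax (hst ζ) hχ hx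
  have horth : ∀ ζ ζ' : IrrCharacter P,
      classInner (f ζ) (f ζ') = classInner (ζ : P → ℂ) (ζ' : P → ℂ) := by
    intro ζ ζ'
    rw [classInner_star_nil hnil hmax (hcl ζ) (hcl ζ'), Cfsg.classInner]
    congr 1
    refine Finset.sum_congr rfl fun w _ => ?_
    rw [ratio_mul_secInner_eq_one hM hnil hmax hχ h0 w, mul_one]
  have hirr : ∀ ζ, IsIrrCharacter G (f ζ) := by
    intro ζ
    refine CharDeep.GenChar.isIrrCharacter_of_norm_one
      (star_isGen (etaOf_compatible hM hmax (hst ζ)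
        (Char.IsCharacter.isGeneralizedCharacter (Char.isCharacter_irr ζ))) χ)
      (by rw [horth, Char.classInner_irr_self ζ.2]) ?_
    have h1 : f ζ 1 = (ζ : P → ℂ) 1 * (χ : G → ℂ) 1 :=
      hreg ζ 1 (by rw [orderOf_one]; exact hM.1.not_dvd_one)
    rw [h1, irr_one_eq, irr_one_eq, ← Nat.cast_mul, Complex.natCast_re]
    exact_mod_cast Nat.mul_pos (charDegree_pos ζ) (charDegree_pos χ)
  let Φ₀ : IrrCharacter P → B := fun ζ => ⟨⟨f ζ, hirr ζ⟩, mem_of_eq_star hmax rfl⟩
  have hbij : Function.Bijective Φ₀ := by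
    refine ⟨fun ζ ζ' h => ?_, fun ψ => ?_⟩
    · by_contra hne
      have h1 := horth ζ ζ'
      have hf : f ζ' = f ζ := (congrArg (fun z : B => ((z : IrrCharacter G) : G → ℂ)) h).symm
      rw [hf, Char.classInner_irr_self (hirr ζ), Char.classInner_irrCharacter, if_neg hne] at h1
      exact one_ne_zero h1
    · by_contra hne
      push Not at hne
      set d : P → ℂ := fun w => ratio P w * secInner p χ (ψ : IrrCharacter G) (bel hM hmax.1.1 w)
      have hdcl : IsClassFunction P d := by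
        intro w v
        show ratio P (v * w * v⁻¹) * _ = _
        rw [ratio_conj, ← act_bel hM hmax.1.1 v w, secInner_act hM χ _ (v : G)
          (isElemOf_of_below hM hmax (bel_below hM hmax.1.1 w)).1.2]
      have horth0 : ∀ ζ : IrrCharacter P, classInner d (ζ : P → ℂ) = 0 := by
        intro ζ
        obtain ⟨ζ', hζ'⟩ : ∃ ζ' : IrrCharacter P, ∀ w, (ζ' : P → ℂ) w = conj ((ζ : P → ℂ) w) :=
          ⟨⟨_, Char.IsIrrCharacter.conj' ζ.2⟩, fun w => rfl⟩
        have h := classInner_star_nil (hM := hM) hnil hmax (hcl ζ')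
          (ζ' := fun _ : P => (1 : ℂ)) (fun _ _ => rfl) χ ψ
        rw [star_etaOf_one hmax ψ.2, Char.classInner_irr (hirr ζ') (ψ : IrrCharacter G).2,
          if_neg fun heq => hne ζ' (Subtype.ext (Subtype.ext heq))] at h
        rw [Cfsg.classInner, h]
        congr 1
        exact Finset.sum_congr rfl fun w _ => by rw [hζ', map_one]; ring
      have hd0 : d = 0 := Char.IsClassFunction.ext_classInner hdcl (fun _ _ => rfl)
        fun φ hφ => by rw [horth0 ⟨φ, hφ⟩, Char.classInner_zero_left]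
      have h1 := ratio_mul_secInner_one hM hmax hχ ψ.2
      rw [show ratio P 1 * secInner p χ (ψ : IrrCharacter G) (bel hM hmax.1.1 1) = 0 from
        congrFun hd0 1, mul_zero, eq_comm, mul_eq_zero] at h1
      refine regInt_ne_zero_of_min hM hmax.1.2.1 hχ h0 ψ.2 ?_
      apply Int.cast_injective (α := ℂ)
      rw [cast_regInt hM.1, Int.cast_zero]
      exact h1.resolve_left Char.card_ne_zero
  exact ⟨Equiv.ofBijective Φ₀ hbij, fun _ => rfl⟩

/-- The bijection between the characters of `P` and those of a nilpotent block. -/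
theorem exists_param (hM : IsPModular p M) (hnil : IsNilpotentBlock p M B)
    (hmax : IsMaximalBrauerPair p M B P e) :
    ∃ χ₀ ∈ B, degVal p χ₀ = minDegVal p B ∧ ∃ Φ : IrrCharacter P ≃ B, ∀ ζ : IrrCharacter P,
      ∀ x : G, ¬ p ∣ orderOf x →
        ((Φ ζ : IrrCharacter G) : G → ℂ) x = (ζ : P → ℂ) 1 * (χ₀ : G → ℂ) x := by
  obtain ⟨χ, hχ, h0, Φ, hΦ⟩ := exists_param_star hM hnil hmax
  refine ⟨χ, hχ, h0, Φ, fun ζ x hx => ?_⟩
  rw [hΦ ζ]
  exact star_etaOf_regular hmax
    (stable_of_class hM hnil hmax (Char.IsIrrCharacter.isClassFunction ζ.2)) hχ hx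

end CfsgLib.BrouePuig
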