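import Cfsg.Agent.Lib.BrouePuig.Inertial
import Cfsg.Agent.Lib.BrouePuig.Nilpotent
import Cfsg.Agent.S4687

/-!
# The blocks of `C_G(Q)` below a maximal pair with abelian defect group
-/

set_option autoImplicit false
set_option maxHeartbeats 800000

namespace CfsgLib.BrouePuig

open Cfsg CfsgLib.Blocks CfsgLib.BrauerPairs
open scoped Classical ComplexConjugate

variable {G : Type*} [Group G] [Fintype G] {p : ℕ} {M : Ideal AlgInt}

/-- Induction inside `H` is induction in the group `H`. -/
theorem isInducedBlockIn_iff {H K : Subgroup G} {L : Subgroup H} (hle : K ≤ H)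
    (h : ∀ x : H, (x : G) ∈ K ↔ x ∈ L) (c : Set (IrrCharacter K)) (f : Set (IrrCharacter H))
    (hc : IsPBlock M c) :
    IsInducedBlock M L (irrEquiv (nestIso hle h) '' c) f ↔ IsInducedBlockIn M H K c f := by
  have key : ∀ (ξ : IrrCharacter K) (n : H),
      inducedCentralChar L ((irrEquiv (nestIso hle h) ξ : IrrCharacter L) : L → ℂ) n
        = inducedCentralCharIn H K (ξ : K → ℂ) (n : G) := by
    intro ξ n
    rw [inducedCentralChar, inducedCentralCharIn]
    refine finsum_mem_eq_of_bijOn (nestIso hle h) ⟨?_, (nestIso hle h).injective.injOn, ?_⟩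
      fun k _ => ?_
    · intro k hk
      obtain ⟨x, hx⟩ := isConj_iff.1 (hk : IsConj n (k : H)).symm
      exact ⟨x, congrArg Subtype.val hx⟩
    · rintro k ⟨x, hx⟩
      refine ⟨(nestIso hle h).symm k, ?_, (nestIso hle h).apply_symm_apply k⟩
      show IsConj n _
      exact (isConj_iff.2 ⟨x, Subtype.ext hx⟩ :
        IsConj (((nestIso hle h).symm k : L) : H) n).symm
    · rw [irrEquiv_apply, irrEquiv_apply, map_one]
  constructor
  · rintro ⟨-, hf, hcong⟩
    refine ⟨hc, hf, fun ξ hξ χ hχ n => ?_⟩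
    rw [← key]
    exact hcong _ (Set.mem_image_of_mem _ hξ) χ hχ n
  · rintro ⟨-, hf, hcong⟩
    refine ⟨isPBlock_image _ hc, hf, ?_⟩
    rintro _ ⟨ξ, hξ, rfl⟩ χ hχ n
    rw [key]
    exact hcong ξ hξ χ hχ n

/-- A block of `C_G(P)` induces a block inside any subgroup containing `P` and `C_G(P)`. -/
theorem exists_inducedIn (hM : IsPModular p M) {P H : Subgroup G} (hPH : P ≤ H)
    (hPp : IsPGroup p P) (hCH : Subgroup.centralizer (P : Set G) ≤ H)
    {c : Set (IrrCharacter (Subgroup.centralizer (P : Set G)))} (hc : IsPBlock M c) :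
    ∃ f : Set (IrrCharacter H), IsInducedBlockIn M H (Subgroup.centralizer (P : Set G)) c f := by
  obtain ⟨f, hf⟩ := exists_isInducedBlock_centralizer (G := H) hM
    (P := P.subgroupOf H) (hPp.comap_subtype) rfl
    (isPBlock_image (nestIso hCH fun x => (mem_centralizer_subgroupOf_iff hPH x).symm) hc)
  exact ⟨f, (isInducedBlockIn_iff hCH _ c f hc).1 hf⟩

variable [Fact p.Prime]

/-- The image of `(P, c)` is a maximal pair of the block of `C_G(Q)` below it. -/
theorem maximal_nested (hM : IsPModular p M) {B : Set (IrrCharacter G)} {P Q : Subgroup G}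
    {c : Set (IrrCharacter (Subgroup.centralizer (P : Set G)))}
    (hmax : IsMaximalBrauerPair p M B P c) (hab : ∀ x ∈ P, ∀ y ∈ P, x * y = y * x) (hQP : Q ≤ P)
    {f : Set (IrrCharacter (Subgroup.centralizer (Q : Set G)))}
    (hf : IsInducedBlockIn M (Subgroup.centralizer (Q : Set G))
      (Subgroup.centralizer (P : Set G)) c f) :
    IsMaximalBrauerPair p M f (P.subgroupOf (Subgroup.centralizer (Q : Set G)))
      (irrEquiv (nestIso (centralizer_le_centralizer hQP)
        (fun x => (mem_centralizer_subgroupOf_iff (le_centralizer_of_abelian hab hQP) x).symm))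
          '' c) := by
  have hPH : P ≤ (Subgroup.centralizer (Q : Set G)) := le_centralizer_of_abelian hab hQP
  have hiff : ∀ x : (Subgroup.centralizer (Q : Set G)), (x : G) ∈ Subgroup.centralizer (P : Set G)
      ↔ x ∈ Subgroup.centralizer (P.subgroupOf (Subgroup.centralizer (Q : Set G)) : Set (Subgroup.centralizer (Q : Set G))) :=
    fun x => (mem_centralizer_subgroupOf_iff hPH x).symm
  set φ := nestIso (centralizer_le_centralizer hQP) hiff
  set c₁ := irrEquiv φ '' c
  have hPp : IsPGroup p P := hmax.1.1.1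
  have hP₁ : IsPGroup p (P.subgroupOf (Subgroup.centralizer (Q : Set G))) := hPp.comap_subtype
  have hc₁ : IsPBlock M c₁ := isPBlock_image _ hf.1
  obtain ⟨hD, hst⟩ := of_isMaximal hM hmax
  have hPC : P ⊔ Subgroup.centralizer (P : Set G) = Subgroup.centralizer (P : Set G) :=
    sup_eq_right.2 (le_centralizer_of_abelian hab le_rfl)
  have hback : irrEquiv φ.symm '' c₁ = c := by
    rw [← Set.image_comp]
    refine (Set.image_congr fun χ _ => ?_).trans (Set.image_id c)
    exact Subtype.ext (funext fun k => by simp [irrEquiv_apply])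
  rw [← hback] at hD
  have hD₁ := isDefectGroup_map φ.symm hD
  obtain ⟨B', hB'⟩ := isMaximal_of_stab hM (Q := P.subgroupOf (Subgroup.centralizer (Q : Set G))) (e := c₁) ⟨hP₁, hc₁⟩ (by
    convert hD₁ using 1
    refine Subgroup.ext fun x => ?_
    constructor
    · intro hx
      refine ⟨φ x, ⟨hx.1, ?_⟩, φ.symm_apply_apply x⟩
      exact (hiff _).2 hx.2
    · rintro ⟨y, hy, rfl⟩
      exact ⟨hy.1, (φ.symm y).2⟩) (fun h hhN hhs hhp => by
    have hN : (h : G) ∈ Subgroup.normalizer (P : Set G) := by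
      refine Subgroup.mem_normalizer_iff.2 fun a => ⟨fun ha => ?_, fun ha => ?_⟩
      · exact (Subgroup.mem_normalizer_iff.1 hhN ⟨a, hPH ha⟩).1 ha
      · have ha' : a ∈ (Subgroup.centralizer (Q : Set G)) := by
          simpa [mul_assoc] using Subgroup.mul_mem _ (Subgroup.mul_mem _
            (Subgroup.inv_mem _ h.2) (hPH ha)) h.2
        exact (Subgroup.mem_normalizer_iff.1 hhN ⟨a, ha'⟩).2 ha
    have hS : StabilizesBlock (Subgroup.centralizer (P : Set G)) c (h : G) := by
      refine (stabilizesBlock_iff _ c _).2 ⟨normalizer_le_normalizer_centralizer P hN, fun g => ?_⟩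
      by_cases hg : g ∈ (Subgroup.centralizer (Q : Set G))
      · have h1 := ((stabilizesBlock_iff _ c₁ h).1 hhs).2 ⟨g, hg⟩
        rw [bc_image_nestIso, bc_image_nestIso] at h1
        exact h1
      · rw [bc_of_notMem fun hc => hg (centralizer_le_centralizer hQP hc),
          bc_of_notMem fun hc => hg ?_]
        simpa [mul_assoc] using Subgroup.mul_mem _ (Subgroup.mul_mem _
          (Subgroup.inv_mem _ h.2) (centralizer_le_centralizer hQP hc)) h.2
    have hk : ∃ k : ℕ, orderOf (h : G) = p ^ k := by rwa [Subgroup.orderOf_coe]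
    have h2 := hst _ hN hS hk
    rw [hPC] at h2
    exact Subgroup.mem_sup_right ((hiff h).1 h2))
  have hof : IsBrauerPairOf p M f (P.subgroupOf (Subgroup.centralizer (Q : Set G))) c₁ :=
    (isBrauerPairOf_iff_induced hM hP₁ hc₁).2 ((isInducedBlockIn_iff _ hiff c f hf.1).2 hf)
  rwa [block_unique hM hB'.1 hof] at hB'

/-- The block below `(P, c)` is nilpotent iff the stabilizer of `c` meets `C_G(Q)` in `C_G(P)`. -/
theorem nilpotent_nested_iff (hM : IsPModular p M) {B : Set (IrrCharacter G)} {P Q : Subgroup G}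
    {c : Set (IrrCharacter (Subgroup.centralizer (P : Set G)))}
    (hmax : IsMaximalBrauerPair p M B P c) (hab : ∀ x ∈ P, ∀ y ∈ P, x * y = y * x) (hQP : Q ≤ P)
    {f : Set (IrrCharacter (Subgroup.centralizer (Q : Set G)))}
    (hf : IsInducedBlockIn M (Subgroup.centralizer (Q : Set G))
      (Subgroup.centralizer (P : Set G)) c f) :
    IsNilpotentBlock p M f ↔ ∀ g ∈ pairStab P c, g ∈ Subgroup.centralizer (Q : Set G) →
      g ∈ Subgroup.centralizer (P : Set G) := by
  have hPH := le_centralizer_of_abelian hab hQP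
  rw [Cfsg.Agent.S4687.result p M hM f _ _ (maximal_nested hM hmax hab hQP hf)
    (fun x hx y hy => Subtype.ext (hab _ hx _ hy))]
  constructor
  · intro h g hg hgQ
    obtain ⟨hgN, hgs⟩ := (mem_pairStab g).1 hg
    refine (mem_centralizer_subgroupOf_iff hPH _).1 (h ⟨g, hgQ⟩ ?_ ?_)
    · exact Subgroup.mem_normalizer_iff.2 fun a => Subgroup.mem_normalizer_iff.1 hgN a
    · refine (stabilizesBlock_iff _ _ _).2 ⟨?_, fun x => ?_⟩
      · refine normalizer_le_normalizer_centralizer _ ?_
        exact Subgroup.mem_normalizer_iff.2 fun a => Subgroup.mem_normalizer_iff.1 hgN a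
      · rw [bc_image_nestIso, bc_image_nestIso]
        exact hg.2 (x : G)
  · intro h x hxN hxs
    refine (mem_centralizer_subgroupOf_iff hPH x).2 (h x ((mem_pairStab _).2 ?_) x.2)
    have hN : (x : G) ∈ Subgroup.normalizer (P : Set G) := by
      refine Subgroup.mem_normalizer_iff.2 fun a => ⟨fun ha => ?_, fun ha => ?_⟩
      · exact (Subgroup.mem_normalizer_iff.1 hxN ⟨a, hPH ha⟩).1 ha
      · have ha' : a ∈ Subgroup.centralizer (Q : Set G) := by
          simpa [mul_assoc] using Subgroup.mul_mem _ (Subgroup.mul_mem _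
            (Subgroup.inv_mem _ x.2) (hPH ha)) x.2
        exact (Subgroup.mem_normalizer_iff.1 hxN ⟨a, ha'⟩).2 ha
    refine ⟨hN, (stabilizesBlock_iff _ c _).2
      ⟨normalizer_le_normalizer_centralizer P hN, fun g => ?_⟩⟩
    by_cases hg : g ∈ Subgroup.centralizer (Q : Set G)
    · have h1 := ((stabilizesBlock_iff _ _ x).1 hxs).2 ⟨g, hg⟩
      rw [bc_image_nestIso, bc_image_nestIso] at h1
      exact h1
    · rw [bc_of_notMem fun hc => hg (centralizer_le_centralizer hQP hc),
        bc_of_notMem fun hc => hg ?_]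
      simpa [mul_assoc] using Subgroup.mul_mem _ (Subgroup.mul_mem _
        (Subgroup.inv_mem _ x.2) (centralizer_le_centralizer hQP hc)) x.2

theorem blockRank_eq_one_of_nilpotent (hM : IsPModular p M) {B : Set (IrrCharacter G)}
    {P : Subgroup G} {e : Set (IrrCharacter (Subgroup.centralizer (P : Set G)))}
    (hnil : IsNilpotentBlock p M B) (hmax : IsMaximalBrauerPair p M B P e) :
    blockRank p B = 1 := by
  obtain ⟨χ₀, hχ₀, -, Φ, hΦ⟩ := exists_param hM hnil hmax
  have hne : pRegularPart p (χ₀ : G → ℂ) ≠ 0 := by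
    intro h
    have h1 := congrFun h 1
    rw [pRegularPart, if_pos (show IsPRegular p (1 : G) by
      rw [IsPRegular, orderOf_one]; exact hM.1.not_dvd_one)] at h1
    exact irr_one_ne_zero χ₀ h1
  rw [blockRank, show Submodule.span ℂ ((fun χ : IrrCharacter G => pRegularPart p (χ : G → ℂ)) '' B)
      = Submodule.span ℂ {pRegularPart p (χ₀ : G → ℂ)} from le_antisymm
    (Submodule.span_le.2 ?_) (Submodule.span_mono (Set.singleton_subset_iff.2 ⟨χ₀, hχ₀, rfl⟩))]
  · exact finrank_span_singleton hne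
  · rintro _ ⟨χ, hχ, rfl⟩
    refine Submodule.mem_span_singleton.2 ⟨((Φ.symm ⟨χ, hχ⟩ : IrrCharacter P) : P → ℂ) 1, ?_⟩
    funext x
    have h1 := hΦ (Φ.symm ⟨χ, hχ⟩) x
    rw [Equiv.apply_symm_apply] at h1
    simp only [Pi.smul_apply, smul_eq_mul, pRegularPart]
    by_cases hx : IsPRegular p x
    · rw [if_pos hx, if_pos hx]
      exact (h1 hx).symm
    · rw [if_neg hx, if_neg hx, mul_zero]

end CfsgLib.BrouePuig
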