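import Cfsg.Agent.Lib.BrouePuig.Star
import Cfsg.Agent.Lib.Blocks.BrauerPair
import Cfsg.Agent.Lib.BrauerPairs.Subpair
import Cfsg.Agent.Lib.Char.Orth

/-!
# Inner products of Broué–Puig products
-/

set_option autoImplicit false

namespace CfsgLib.BrouePuig

open Cfsg CfsgLib.Blocks CfsgLib.Blocks.ResidueAlgebra CfsgLib.BrauerPairs
open scoped Classical ComplexConjugate

universe u

variable {p : ℕ} {M : Ideal AlgInt} {G : Type u} [Group G] [Fintype G] {hM : IsPModular p M}

/-- The centralizer carrying the blocks of the elements over `u`. -/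
abbrev cenZ (u : G) : Subgroup G :=
  Subgroup.centralizer ((Subgroup.zpowers u : Subgroup G) : Set G)

theorem cenZ_eq (u : G) : cenZ u = Subgroup.centralizer ({u} : Set G) := centralizer_zpowers u

/-- Summation over the `p`-sections. -/
theorem sum_eq_sum_pParts (hp : p.Prime) (F : G → ℂ) :
    ∑ g, F g = ∑ u : G with ∃ k : ℕ, orderOf u = p ^ k,
      ∑ c : cenZ u with IsPRegular p c, F (u * (c : G)) := by
  rw [← Finset.sum_fiberwise_of_maps_to
    (t := Finset.univ.filter fun u : G => ∃ k : ℕ, orderOf u = p ^ k) (g := pPart p)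
    (fun g _ => Finset.mem_filter.2 ⟨Finset.mem_univ _, by
      obtain ⟨y, -, -, h, -⟩ := pPart_spec hp g; exact h⟩)]
  refine Finset.sum_congr rfl fun u hu => ?_
  obtain ⟨k, hk⟩ := (Finset.mem_filter.1 hu).2
  symm
  refine Finset.sum_bij (fun c _ => u * (c : G)) ?_ ?_ ?_ fun c _ => rfl
  · intro c hc
    refine Finset.mem_filter.2 ⟨Finset.mem_univ _, pPart_eq hp ⟨c, rfl,
      Subgroup.mem_centralizer_iff.1 c.2 u (Subgroup.mem_zpowers u), ⟨k, hk⟩, ?_⟩⟩
    rw [Subgroup.orderOf_coe]; exact (Finset.mem_filter.1 hc).2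
  · intro c _ d _ h
    exact Subtype.ext (mul_left_cancel h)
  · intro g hg
    have hg' := (Finset.mem_filter.1 hg).2
    obtain ⟨y, hgy, huy, -, hy⟩ := pPart_spec hp g
    rw [hg'] at hgy huy
    refine ⟨⟨y, ?_⟩, Finset.mem_filter.2 ⟨Finset.mem_univ _, ?_⟩, hgy⟩
    · rw [cenZ_eq, Subgroup.mem_centralizer_singleton_iff]; exact huy.eq.symm
    · show ¬ p ∣ orderOf _
      rwa [← Subgroup.orderOf_coe]

/-- The Brauer elements. -/
noncomputable def elems (p : ℕ) (M : Ideal AlgInt) (G : Type u) [Group G] [Fintype G] :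
    Finset (BElem G) :=
  Finset.univ.filter fun a => (∃ k : ℕ, orderOf a.1 = p ^ k) ∧ IsPBlock M a.2

theorem mem_elems {a : BElem G} :
    a ∈ elems p M G ↔ (∃ k : ℕ, orderOf a.1 = p ^ k) ∧ IsPBlock M a.2 := by
  simp [elems]

omit [Fintype G] in
/-- The Brauer elements of a block. -/
def IsElemOf (p : ℕ) (M : Ideal AlgInt) (B : Set (IrrCharacter G)) (a : BElem G) : Prop :=
  IsBrauerPairOf p M B a.pair.1 a.pair.2

/-- The contributions at a Brauer element. -/
noncomputable def secInner (p : ℕ) (χ ψ : IrrCharacter G) (a : BElem G) : ℂ :=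
  ∑ c : cenZ a.1 with IsPRegular p c, secPart a.1 (cenZ a.1) a.2 χ c *
    conj (secPart a.1 (cenZ a.1) a.2 ψ c)

theorem IsElemOf.mem {B : Set (IrrCharacter G)} (hp : p.Prime) {a : BElem G}
    (h : IsElemOf p M B a) : a ∈ elems p M G := by
  haveI := Fact.mk hp
  refine mem_elems.2 ⟨?_, h.1.2⟩
  obtain ⟨k, hk⟩ := IsPGroup.iff_card.1 h.1.1
  exact ⟨k, by rw [← Nat.card_zpowers]; exact hk⟩

theorem isElemOf_act {B : Set (IrrCharacter G)} (y : G) {a : BElem G} (h : IsElemOf p M B a) :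
    IsElemOf p M B (act y a) := by
  have h2 : IsBrauerPairOf p M B (conjPair y a.pair).1 (conjPair y a.pair).2 :=
    isBrauerPairOf_conj y h
  rw [← pair_act] at h2
  exact h2

theorem isElemOf_act_iff {B : Set (IrrCharacter G)} (y : G) (a : BElem G) :
    IsElemOf p M B (act y a) ↔ IsElemOf p M B a :=
  ⟨fun h => act_inv_act y a ▸ isElemOf_act y⁻¹ h, isElemOf_act y⟩

theorem blockPart_blockPart_ne (hM : IsPModular p M) {H : Type*} [Group H] [Fintype H]
    {b b' : Set (IrrCharacter H)} (hb : IsPBlock M b) (hb' : IsPBlock M b') (hne : b ≠ b')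
    (ϑ : H → ℂ) : blockPart b (blockPart b' ϑ) = 0 := by
  funext y
  rw [blockPart_eq_sum]
  refine Finset.sum_eq_zero fun φ _ => ?_
  by_cases hφ : φ ∈ b
  · have e : blockPart b' ϑ = fun z => ∑ ψ : IrrCharacter H,
        (blockInd b' ψ * classInner ϑ (ψ : H → ℂ)) * (ψ : H → ℂ) z :=
      funext fun z => by
        rw [blockPart_eq_sum]; exact Finset.sum_congr rfl fun ψ _ => by ring
    have h := coeff_eq_of_sum_eq (c := fun ψ => blockInd b' ψ * classInner ϑ (ψ : H → ℂ))
      (θ := blockPart b' ϑ) (fun z => (congrFun e z).symm) φ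
    rw [blockInd_of_notMem (S := b') (fun h' => hne (IsPBlock.eq_of_mem hM hb hb' hφ h')),
      zero_mul] at h
    rw [Cfsg.classInner]
    simp only [conj_irr]
    rw [← h]
    simp
  · rw [blockInd_of_notMem hφ, zero_mul]

/-- The contributions of different blocks are orthogonal. -/
theorem sum_secPart_cross (hM : IsPModular p M) {K : Subgroup G} (u : G)
    {b b' : Set (IrrCharacter K)} (hb : IsPBlock M b) (hb' : IsPBlock M b') (hne : b ≠ b')
    (χ ψ : IrrCharacter G) :
    ∑ c : K with IsPRegular p c, secPart u K b χ c * conj (secPart u K b' ψ c) = 0 := by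
  simp only [secPart, blockPart_eq_sum, map_sum, map_mul, Finset.sum_mul, Finset.mul_sum]
  rw [Finset.sum_comm]
  refine Finset.sum_eq_zero fun φ _ => ?_
  rw [Finset.sum_comm]
  refine Finset.sum_eq_zero fun ξ _ => ?_
  by_cases hφ : φ ∈ b'
  swap
  · refine Finset.sum_eq_zero fun c _ => ?_
    simp [blockInd_of_notMem hφ]
  by_cases hξ : ξ ∈ b
  swap
  · refine Finset.sum_eq_zero fun c _ => ?_
    simp [blockInd_of_notMem hξ]
  have h0 : regInner p (ξ : K → ℂ) (φ : K → ℂ) = 0 :=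
    IsPBlock.regInner_eq_zero hM hb hξ fun h => hne (IsPBlock.eq_of_mem hM hb hb' h hφ)
  rw [regInner, mul_eq_zero] at h0
  have h1 : ∑ c : K with IsPRegular p c, (ξ : K → ℂ) c * (φ : K → ℂ) c⁻¹ = 0 :=
    h0.resolve_left (mul_ne_zero (pPartCard_ne_zero hM.1)
      (inv_ne_zero CfsgLib.Char.card_ne_zero))
  set A := blockInd b ξ * classInner (fun c : K => (χ : G → ℂ) (u * (c : G))) (ξ : K → ℂ)
  set C := conj (blockInd b' φ) *
    conj (classInner (fun c : K => (ψ : G → ℂ) (u * (c : G))) (φ : K → ℂ))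
  calc _ = ∑ c : K with IsPRegular p c, A * C * ((ξ : K → ℂ) c * (φ : K → ℂ) c⁻¹) :=
        Finset.sum_congr rfl fun c _ => by rw [conj_irr]; simp only [A, C]; ring
    _ = 0 := by rw [← Finset.mul_sum, h1, mul_zero]

/-- **The inner product of two products.** -/
theorem classInner_star (η η' : BElem G → ℂ) (χ ψ : IrrCharacter G) :
    classInner (star hM η χ) (star hM η' ψ)
      = (Nat.card G : ℂ)⁻¹ * ∑ a ∈ elems p M G, η a * conj (η' a) * secInner p χ ψ a := by
  rw [Cfsg.classInner, sum_eq_sum_pParts hM.1]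
  congr 1
  set T := Finset.univ.filter fun u : G => ∃ k : ℕ, orderOf u = p ^ k
  have hel : elems p M G = T.sigma fun u => blockSet M (cenZ u) := by
    ext ⟨u, e⟩
    simp [mem_elems, T, mem_blockSet]
  rw [hel, Finset.sum_sigma]
  refine Finset.sum_congr rfl fun u hu => ?_
  have hu' := (Finset.mem_filter.1 hu).2
  calc ∑ c : cenZ u with IsPRegular p c, star hM η χ (u * (c : G)) * conj (star hM η' ψ (u * (c : G)))
      = ∑ c : cenZ u with IsPRegular p c, ∑ e ∈ blockSet M (cenZ u), ∑ e' ∈ blockSet M (cenZ u),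
          η ⟨u, e⟩ * conj (η' ⟨u, e'⟩) *
            (secPart u (cenZ u) e χ c * conj (secPart u (cenZ u) e' ψ c)) := by
        refine Finset.sum_congr rfl fun c hc => ?_
        rw [star_eq η χ hu' c (Finset.mem_filter.1 hc).2, star_eq η' ψ hu' c (Finset.mem_filter.1 hc).2,
          map_sum, Finset.sum_mul_sum]
        exact Finset.sum_congr rfl fun e _ => Finset.sum_congr rfl fun e' _ => by rw [map_mul]; ring
    _ = _ := by
        rw [Finset.sum_comm]
        refine Finset.sum_congr rfl fun e he => ?_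
        rw [Finset.sum_comm, Finset.sum_eq_single e]
        · rw [← Finset.mul_sum]; rfl
        · intro e' he' hne
          rw [← Finset.mul_sum, sum_secPart_cross hM u (mem_blockSet.1 he) (mem_blockSet.1 he')
            (Ne.symm hne), mul_zero]
        · exact fun h => absurd he h

/-- Characters of `B` have no contribution outside `B`. -/
theorem secPart_eq_zero_of_not_elem (hM : IsPModular p M) {B : Set (IrrCharacter G)}
    {χ : IrrCharacter G} (hχ : χ ∈ B) (hB : IsPBlock M B) {a : BElem G} (ha : a ∈ elems p M G)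
    (hn : ¬ IsElemOf p M B a) {c : cenZ a.1} (hc : ¬ p ∣ orderOf c) :
    secPart a.1 (cenZ a.1) a.2 χ c = 0 := by
  obtain ⟨⟨k, hk⟩, hb⟩ := mem_elems.1 ha
  have hU : IsPGroup p (Subgroup.zpowers a.1) :=
    IsPGroup.of_card (n := k) (by rw [Nat.card_zpowers, hk])
  obtain ⟨B', hB'⟩ := exists_block_of_pair hM (show IsBrauerPair p M _ a.2 from ⟨hU, hb⟩)
  refine secPart_eq_zero_of_notMem hM (cenZ_eq a.1) ⟨k, hk⟩
    ((isBrauerPairOf_iff_induced hM hU hb).1 hB') (fun h => hn ?_) hc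
  have : B = B' := IsPBlock.eq_of_mem hM hB hB'.2.1 hχ h
  exact this ▸ hB'

/-- Only the Brauer elements of `B` matter on `B`. -/
theorem star_congr (η η' : BElem G → ℂ) {B : Set (IrrCharacter G)} (hB : IsPBlock M B)
    {χ : IrrCharacter G} (hχ : χ ∈ B) (h : ∀ a, IsElemOf p M B a → η a = η' a) :
    star hM η χ = star hM η' χ := by
  funext g
  obtain ⟨y, hgy, huy, ⟨k, hk⟩, hy⟩ := pPart_spec hM.1 g
  set u := pPart p g
  have hyK : y ∈ cenZ u := by
    rw [cenZ_eq, Subgroup.mem_centralizer_singleton_iff]; exact huy.eq.symm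
  have hyr : ¬ p ∣ orderOf (⟨y, hyK⟩ : cenZ u) := by rwa [← Subgroup.orderOf_coe]
  have e1 := star_eq (hM := hM) η χ ⟨k, hk⟩ ⟨y, hyK⟩ hyr
  have e2 := star_eq (hM := hM) η' χ ⟨k, hk⟩ ⟨y, hyK⟩ hyr
  simp only [hgy] at e1 e2
  rw [e1, e2]
  refine Finset.sum_congr rfl fun e he => ?_
  by_cases hel : IsElemOf p M B ⟨u, e⟩
  · rw [h _ hel]
  · rw [secPart_eq_zero_of_not_elem hM hχ hB (a := ⟨u, e⟩)
      (mem_elems.2 ⟨⟨k, hk⟩, mem_blockSet.1 he⟩) hel hyr, mul_zero, mul_zero]

/-- The contribution of a product. -/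
theorem secPart_star (η : BElem G → ℂ) (χ φ : IrrCharacter G)
    (hφ : (φ : G → ℂ) = star hM η χ) {u : G} (hu : ∃ k : ℕ, orderOf u = p ^ k)
    {e : Set (IrrCharacter (cenZ u))} (he : IsPBlock M e) {c : cenZ u} (hc : ¬ p ∣ orderOf c) :
    secPart u (cenZ u) e φ c = η ⟨u, e⟩ * secPart u (cenZ u) e χ c := by
  rw [secPart_eq_sum_regular hM he u φ hc]
  have h1 : ∀ d : cenZ u, IsPRegular p d → (φ : G → ℂ) (u * (d : G))
      = ∑ e' ∈ blockSet M (cenZ u), η ⟨u, e'⟩ * secPart u (cenZ u) e' χ d := fun d hd => by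
    rw [hφ]; exact star_eq η χ hu d hd
  have h2 : ∀ e' ∈ blockSet M (cenZ u), (Nat.card (cenZ u) : ℂ)⁻¹ *
      ∑ d : cenZ u with IsPRegular p d, secPart u (cenZ u) e' χ d * blockKernel e d c
        = blockPart e (secPart u (cenZ u) e' χ) c := fun e' _ =>
    (blockPart_eq_sum_regular hM (IsPBlock.isLocalOn hM he) _ hc).symm
  calc _ = ∑ e' ∈ blockSet M (cenZ u), η ⟨u, e'⟩ * ((Nat.card (cenZ u) : ℂ)⁻¹ *
        ∑ d : cenZ u with IsPRegular p d, secPart u (cenZ u) e' χ d * blockKernel e d c) := by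
        rw [Finset.sum_congr rfl fun d hd => by rw [h1 d (Finset.mem_filter.1 hd).2]]
        simp only [Finset.sum_mul, Finset.mul_sum]
        rw [Finset.sum_comm]
        exact Finset.sum_congr rfl fun e' _ => Finset.sum_congr rfl fun d _ => by ring
    _ = _ := by
        rw [Finset.sum_eq_single e]
        · rw [h2 e (mem_blockSet.2 he)]
          simp only [secPart, blockPart_blockPart]
        · intro e' he' hne
          rw [h2 e' he']
          simp only [secPart, blockPart_blockPart_ne hM he (mem_blockSet.1 he') (Ne.symm hne),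
            Pi.zero_apply, mul_zero]
        · exact fun h => absurd (mem_blockSet.2 he) h

theorem secPart_act (hM : IsPModular p M) (χ : IrrCharacter G) (y : G) {a : BElem G}
    (hb : IsPBlock M a.2) (c : cenZ a.1) (c' : cenZ (act y a).1)
    (h : (c' : G) = y * (c : G) * y⁻¹) :
    secPart (act y a).1 (cenZ (act y a).1) (act y a).2 χ c'
      = secPart a.1 (cenZ a.1) a.2 χ c := by
  rw [← tau_iota (hM := hM) χ (cenZ_eq a.1) c hb,
    ← tau_iota (hM := hM) χ (cenZ_eq (act y a).1) c' (isPBlock_act y hb)]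
  have hK : a.1 * (c : G) ∈ cenZ a.1 := Subgroup.mul_mem _ (by
    rw [cenZ_eq, Subgroup.mem_centralizer_singleton_iff]) c.2
  rw [← tau_cj χ y (iota_idem hb) (commute_iota (bc_fixes_of_mem hK a.2)), ← cj_iota]
  congr 1
  show (y * a.1 * y⁻¹) * (c' : G) = y * (a.1 * (c : G)) * y⁻¹
  rw [h]; simp [mul_assoc]

theorem secInner_act (hM : IsPModular p M) (χ ψ : IrrCharacter G) (y : G) {a : BElem G}
    (hb : IsPBlock M a.2) : secInner p χ ψ (act y a) = secInner p χ ψ a := by
  have hmem : ∀ c : G, y * c * y⁻¹ ∈ cenZ (act y a).1 ↔ c ∈ cenZ a.1 := by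
    intro c
    rw [cenZ_eq, cenZ_eq, Subgroup.mem_centralizer_singleton_iff,
      Subgroup.mem_centralizer_singleton_iff]
    show y * c * y⁻¹ * (y * a.1 * y⁻¹) = y * a.1 * y⁻¹ * (y * c * y⁻¹) ↔ _
    constructor <;> intro h
    · have := congrArg (fun z => y⁻¹ * z * y) h
      simpa [mul_assoc] using this
    · have := congrArg (fun z => y * z * y⁻¹) h
      simpa [mul_assoc] using this
  unfold secInner
  symm
  refine Finset.sum_bij (fun c _ => ⟨y * (c : G) * y⁻¹, (hmem c).2 c.2⟩) ?_ ?_ ?_ ?_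
  · intro c hc
    refine Finset.mem_filter.2 ⟨Finset.mem_univ _, ?_⟩
    show ¬ p ∣ orderOf _
    rw [← Subgroup.orderOf_coe]
    show ¬ p ∣ orderOf (MulAut.conj y (c : G))
    rw [MulEquiv.orderOf_eq, Subgroup.orderOf_coe]
    exact (Finset.mem_filter.1 hc).2
  · intro c _ d _ h
    exact Subtype.ext (by simpa using congrArg Subtype.val h)
  · intro d hd
    have hd' : y⁻¹ * (d : G) * y ∈ cenZ a.1 := (hmem _).1 (by simpa [mul_assoc] using d.2)
    refine ⟨⟨_, hd'⟩, Finset.mem_filter.2 ⟨Finset.mem_univ _, ?_⟩, Subtype.ext (by simp [mul_assoc])⟩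
    show ¬ p ∣ orderOf _
    rw [← Subgroup.orderOf_coe]
    have e : y⁻¹ * (d : G) * y = MulAut.conj y⁻¹ (d : G) := by simp
    show ¬ p ∣ orderOf (y⁻¹ * (d : G) * y)
    rw [e, MulEquiv.orderOf_eq, Subgroup.orderOf_coe]
    exact (Finset.mem_filter.1 hd).2
  · intro c hc
    rw [secPart_act hM χ y hb c _ rfl, secPart_act hM ψ y hb c _ rfl]

end CfsgLib.BrouePuig
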