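import Cfsg.Agent.Lib.BrouePuig.Robinson
import Cfsg.Agent.Lib.BrauerPairs.Maximal
import Cfsg.Agent.Lib.FusionSystem.ControlTransfer
import Cfsg.Agent.Lib.FusionSystem.ModelTheorem
import Cfsg.Agent.Lib.KGroups.Functor.KInfControl
import Cfsg.Agent.Lib.Blocks.BrauerDegree.Count
import Cfsg.Agent.S1978
import Cfsg.Agent.S1991

/-!
# Blocks whose defect group has a `p`-group of automorphisms

For `5 ≤ p` the focal subgroup of a saturated fusion system on such a group is proper, since the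
normalizer of the lower K-infinity subgroup controls transfer and has a quotient of order `p`.
Counting the squares of the degrees in the block then bounds the number of characters of height
zero.
-/

set_option autoImplicit false

namespace CfsgLib.BrouePuig.AutPGroup

open Cfsg CfsgLib.Blocks CfsgLib.BrauerPairs
open scoped Classical commutatorElement

universe u

section Focal

open CfsgLib.Fsys
open Cfsg.FusionSystem (centralizerIn normalizerIn)

variable {p : ℕ} [Fact p.Prime]

theorem kInf_ne_bot (Q : Type u) [Group Q] [Finite Q] (hQ : IsPGroup p Q) (_ : Nontrivial Q) :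
    kInfLower Q ≠ ⊥ :=
  KGroups.Functor.ne_bot_of_centralizer_le (Cfsg.Agent.S1978.result hQ).1

theorem kInf_local (hp : 5 ≤ p) (G : Type u) [Group G] [Finite G] (P : Sylow p G)
    (_ : Subgroup.centralizer ((pCore p G : Subgroup G) : Set G) ≤ pCore p G) :
    pCore p G ⊓ commutator G = pCore p G ⊓ (commutator ↥(Subgroup.normalizer
      ((wOf (fun Q _ => kInfLower Q) (P : Subgroup G) : Subgroup G) : Set G))).map
      (Subgroup.normalizer
        ((wOf (fun Q _ => kInfLower Q) (P : Subgroup G) : Subgroup G) : Set G)).subtype := by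
  rw [Subgroup.map_subtype_commutator]
  set N := Subgroup.normalizer
    ((wOf (fun Q _ => kInfLower Q) (P : Subgroup G) : Subgroup G) : Set G)
  have h : (P : Subgroup G) ⊓ commutator G = (P : Subgroup G) ⊓ ⁅N, N⁆ :=
    KGroups.Functor.transfer_at P (KGroups.Functor.isCharPFunctor_kInfLower p)
      (KGroups.Functor.controlsTransfer_kInf_top hp (KGroups.Functor.isCharPFunctor_kInfLower p)
        KGroups.Functor.isKInf_lower)
  have hle : pCore p G ≤ (P : Subgroup G) := CfsgLib.Solvable.Cores.pCore_le_sylow P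
  calc pCore p G ⊓ commutator G = pCore p G ⊓ ((P : Subgroup G) ⊓ commutator G) := by
        rw [← inf_assoc, inf_eq_left.2 hle]
    _ = pCore p G ⊓ ⁅N, N⁆ := by rw [h, ← inf_assoc, inf_eq_left.2 hle]

variable {Ω : Type u} [Group Ω] {S : Subgroup Ω} [Finite S]

/-- The focal subgroup is proper. -/
theorem not_le_focal (hp : 5 ≤ p) (hS : IsPGroup p S) (hS1 : S ≠ ⊥)
    (hAut : IsPGroup p (MulAut S)) {F : FusionSystem S} (hF : F.IsSaturated p) :
    ¬ S ≤ F.focalSubgroup := by
  intro hfoc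
  have hW2 : ∀ (Q R : Type u) [Group Q] [Group R] [Finite Q], IsPGroup p Q → ∀ φ : Q ≃* R,
      (kInfLower Q).map φ.toMonoidHom = kInfLower R :=
    fun Q R _ _ _ _ φ => (KGroups.Functor.kInf_map_equiv φ).1
  set V := wOf (fun Q _ => kInfLower Q) S with hVdef
  have hmoves : F.focalSubgroup ≤ moves F V :=
    focal_le_moves (W := fun Q _ => kInfLower Q) kInf_ne_bot hW2 (kInf_local hp) hS hF
  have hVS : V ≤ S := wOf_le S
  have hnS : normalizerIn S V = S := by
    refine le_antisymm inf_le_left fun s hs => ?_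
    exact normalizerIn_le_wOf (W := fun Q _ => kInfLower Q) hW2 hS le_rfl
      ⟨hs, Subgroup.le_normalizer hs⟩
  have hVfn : F.IsFullyNormalized V := ⟨hVS, fun R _ => by
    rw [hnS]; exact Subgroup.card_le_of_le inf_le_left⟩
  have hVc : centralizerIn S V ≤ V := by
    rintro x ⟨hxS, hxC⟩
    refine ⟨⟨x, hxS⟩, (Cfsg.Agent.S1978.result hS).1 ?_, rfl⟩
    refine Subgroup.mem_centralizer_iff.2 fun k hk => Subtype.ext ?_
    exact Subgroup.mem_centralizer_iff.1 hxC (k : Ω) ⟨k, hk, rfl⟩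
  obtain ⟨N, hN⟩ := exists_normalizerSystem F hVS
  obtain ⟨E, hE⟩ := exists_cast hnS N
  have hEsat : E.IsSaturated p := system_cast (C := fun _ E => E.IsSaturated p) hnS hE
    (normalizerSystem_saturated hS hF hVfn hN)
  have hEn : E.IsNormal V :=
    system_cast (C := fun _ E => E.IsNormal V) hnS hE (normalizerSystem_normal hN hVS)
  have hEc : E.IsCentric V := by
    refine ⟨hVS, fun Q hQ => ?_⟩
    obtain ⟨φ, hφ, rfl⟩ := hQ
    obtain ⟨ψ, -, hψ, hψV⟩ := hEn.2 V φ hφ
    have : φ.range = V := by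
      refine le_antisymm ?_ ?_
      · rintro _ ⟨x, rfl⟩
        rw [← hψ x]
        exact hψV.le ⟨_, Subgroup.mem_subgroupOf.2 x.2, rfl⟩
      · intro v hv
        obtain ⟨⟨y, _⟩, hy, rfl⟩ := hψV.ge hv
        exact ⟨⟨y, hy⟩, (hψ ⟨y, hy⟩).symm⟩
    rw [this]
    exact hVc
  obtain ⟨L, _, ι, hLfin, hreal, ⟨T, hT⟩, -⟩ := exists_model hS ⟨hEsat, V, hEn, hEc⟩
  have hι := hreal.1
  -- the automorphisms induced by the normalizer of the Sylow subgroup
  have hTS : (T : Subgroup L) ≠ ⊥ := by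
    rw [hT]
    intro h
    refine hS1 ((Subgroup.eq_bot_iff_forall S).2 fun x hx => ?_)
    have : ι ⟨x, hx⟩ = 1 := Subgroup.mem_bot.1 (h.le ⟨_, rfl⟩)
    exact congrArg Subtype.val (hι (this.trans ι.map_one.symm))
  let eT : S ≃* (T : Subgroup L) :=
    (MonoidHom.ofInjective hι).trans (MulEquiv.subgroupCongr hT.symm)
  have hNT : ∀ g ∈ Subgroup.normalizer ((T : Subgroup L) : Set L), (orderOf g).Coprime p →
      g ∈ Subgroup.centralizer ((T : Subgroup L) : Set L) := by
    intro g hg hgp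
    let c : MulAut S := MulAut.congr eT.symm
      ((T : Subgroup L).normalizerMonoidHom ⟨g, hg⟩)
    obtain ⟨k, hk⟩ := IsPGroup.iff_orderOf.1 hAut c
    have hdvd : orderOf c ∣ orderOf g := by
      refine ((orderOf_map_dvd (MulAut.congr eT.symm).toMonoidHom _).trans
        (orderOf_map_dvd _ _)).trans ?_
      rw [← Subgroup.orderOf_coe]
    have hc : c = 1 := by
      rw [← orderOf_eq_one_iff]
      exact Nat.eq_one_of_dvd_coprimes ((hgp.pow_right k)) hdvd (hk ▸ dvd_rfl)
    have hc' : (T : Subgroup L).normalizerMonoidHom ⟨g, hg⟩ = 1 :=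
      (MulAut.congr eT.symm).injective (hc.trans (map_one _).symm)
    refine Subgroup.mem_centralizer_iff.2 fun t ht => ?_
    have := congrArg (fun a : MulAut (T : Subgroup L) => ((a ⟨t, ht⟩ : (T : Subgroup L)) : L)) hc'
    simp only [Subgroup.normalizerMonoidHom_apply_apply_coe, MulAut.one_apply] at this
    rw [mul_inv_eq_iff_eq_mul] at this
    exact this.symm
  obtain ⟨M, hMn, hMi⟩ := Cfsg.Agent.S1991.result hp T hTS hNT
  haveI := hMn
  refine KGroups.Functor.not_sylow_le_commutator T hMi ?_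
  rw [hT]
  rintro _ ⟨y, rfl⟩
  have hy : (y : Ω) ∈ moves F V := hmoves (hfoc y.2)
  suffices key : moves F V ≤ (Subgroup.comap ι ⁅(⊤ : Subgroup L), (⊤ : Subgroup L)⁆).map S.subtype by
    obtain ⟨z, hz, hzy⟩ := key hy
    rw [← (Subtype.ext hzy : z = y)]
    exact hz
  refine (Subgroup.closure_le _).2 ?_
  rintro _ ⟨X, f, x, hf, hVX, hXN, hi, hx, rfl⟩
  have hm : ∀ z ∈ X, f z ∈ normalizerIn S V := fun z hz => by rw [hnS]; exact hf.mem hz
  obtain ⟨φ, hφ, hφf⟩ : Fn N X f := (fn_normalizerSystem hN).2 ⟨hXN, hm, f,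
    (sup_eq_left.2 hVX).symm ▸ hf, fun z _ => rfl, hi⟩
  have hXS : X ≤ S := hf.le
  have hφS : ∀ z : X, φ z ∈ S := fun z => by
    rw [hφf]; exact hf.mem z.2
  obtain ⟨g, hg⟩ := (hreal.2 X hXS φ hφS).1 ((hE X).symm ▸ hφ)
  refine ⟨(⟨x, hXS hx⟩ : S)⁻¹ * ⟨f x, hf.mem hx⟩, Subgroup.mem_comap.2 ?_, rfl⟩
  have e : (⟨f x, hf.mem hx⟩ : S) = ⟨φ ⟨x, hx⟩, hφS ⟨x, hx⟩⟩ := Subtype.ext (hφf ⟨x, hx⟩).symm
  rw [map_mul, map_inv, e, hg ⟨x, hx⟩]
  have h1 := Subgroup.commutator_mem_commutator (H₁ := (⊤ : Subgroup L)) (H₂ := (⊤ : Subgroup L))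
    (g₁ := (ι ⟨x, hXS hx⟩)⁻¹) (g₂ := g) trivial trivial
  simpa [commutatorElement_def, mul_assoc] using h1

end Focal

section Count

variable {p : ℕ} [hp : Fact p.Prime] {M : Ideal AlgInt} {G : Type u} [Group G] [Fintype G]
  {B : Set (IrrCharacter G)} {D : Subgroup G}

/-- The degree divided by the least power of `p` in the block. -/
noncomputable def reducedDeg (p : ℕ) (B : Set (IrrCharacter G)) (χ : IrrCharacter G) : ℕ :=
  charDegree (χ : G → ℂ) / p ^ minDegVal p B

theorem reducedDeg_spec {χ : IrrCharacter G} (hχ : χ ∈ B) :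
    p ^ minDegVal p B * reducedDeg p B χ = charDegree (χ : G → ℂ) :=
  Nat.mul_div_cancel' ((hp.out.pow_dvd_iff_le_factorization (charDegree_pos χ).ne').2
    (minDegVal_le hχ))

theorem dvd_reducedDeg_iff {χ : IrrCharacter G} (hχ : χ ∈ B) :
    p ∣ reducedDeg p B χ ↔ blockHeight p B (χ : G → ℂ) ≠ 0 := by
  have h1 : p ∣ reducedDeg p B χ ↔ p ^ (minDegVal p B + 1) ∣ charDegree (χ : G → ℂ) := by
    rw [← reducedDeg_spec (p := p) hχ, pow_succ]
    exact (Nat.mul_dvd_mul_iff_left (pow_pos hp.out.pos _)).symm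
  have h2 := minDegVal_le (p := p) hχ
  rw [h1, hp.out.pow_dvd_iff_le_factorization (charDegree_pos χ).ne', Ne,
    blockHeight_eq_zero_iff hχ]
  show _ + 1 ≤ degVal p χ ↔ _
  omega

/-- `p ^ d` divides the sum of the squares of the reduced degrees. -/
theorem pow_dvd_sum (hM : IsPModular p M) (hB : IsPBlock M B) :
    p ^ blockDefect p B ∣ ∑ χ ∈ B.toFinset, reducedDeg p B χ ^ 2 := by
  have hne := IsPBlock.nonempty hM hB
  have hadd := blockDefect_add_min (p := p) hne
  set s := ∑ χ ∈ B.toFinset, charDegree (χ : G → ℂ) ^ 2 with hs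
  have hs' : s = p ^ (2 * minDegVal p B) * ∑ χ ∈ B.toFinset, reducedDeg p B χ ^ 2 := by
    rw [hs, Finset.mul_sum]
    refine Finset.sum_congr rfl fun χ hχ => ?_
    rw [← reducedDeg_spec (p := p) (Set.mem_toFinset.1 hχ)]
    ring
  have hs0 : s ≠ 0 := by
    obtain ⟨χ, hχ⟩ := hne
    exact (Finset.sum_pos' (fun _ _ => Nat.zero_le _)
      ⟨χ, Set.mem_toFinset.2 hχ, pow_pos (charDegree_pos χ) 2⟩).ne'
  have hfac := factorization_sum_sq hM hB
  refine (Nat.mul_dvd_mul_iff_left (pow_pos hp.out.pos (2 * minDegVal p B))).1 ?_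
  rw [← pow_add, ← hs']
  refine (hp.out.pow_dvd_iff_le_factorization hs0).2 ?_
  rw [hs, hfac]
  omega

/-- The characters of height zero. -/
noncomputable def height0 (p : ℕ) (B : Set (IrrCharacter G)) : Finset (IrrCharacter G) :=
  B.toFinset.filter fun χ => blockHeight p B (χ : G → ℂ) = 0

theorem mem_height0 {χ : IrrCharacter G} :
    χ ∈ height0 p B ↔ χ ∈ B ∧ blockHeight p B (χ : G → ℂ) = 0 := by
  simp [height0]

omit hp in
theorem card_height0 : Nat.card {χ : IrrCharacter G // χ ∈ B ∧ blockHeight p B (χ : G → ℂ) = 0}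
    = (height0 p B).card := by
  rw [Nat.card_eq_fintype_card, Fintype.card_subtype]
  congr 1
  ext χ
  simp [height0]

theorem sum_height0_eq_zero (hM : IsPModular p M) (hB : IsPBlock M B) {k : ℕ}
    (hk : k ≤ blockDefect p B) (hk2 : k ≤ 2) :
    ∑ χ ∈ height0 p B, (reducedDeg p B χ : ZMod (p ^ k)) ^ 2 = 0 := by
  have h : ((∑ χ ∈ B.toFinset, reducedDeg p B χ ^ 2 : ℕ) : ZMod (p ^ k)) = 0 :=
    (ZMod.natCast_eq_zero_iff _ _).2 ((pow_dvd_pow p hk).trans (pow_dvd_sum hM hB))
  push_cast at h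
  rw [← h]
  refine Finset.sum_subset (Finset.filter_subset _ _) fun χ hχ hn => ?_
  have hne : blockHeight p B (χ : G → ℂ) ≠ 0 := fun h0 => hn (Finset.mem_filter.2 ⟨hχ, h0⟩)
  rw [← Nat.cast_pow, ZMod.natCast_eq_zero_iff]
  exact (pow_dvd_pow p hk2).trans
    (pow_dvd_pow_of_dvd ((dvd_reducedDeg_iff (Set.mem_toFinset.1 hχ)).2 hne) 2)

/-- For `p` equal to `2` or `3`. -/
theorem dvd_card_small (hM : IsPModular p M) (hB : IsPBlock M B) (hd : 1 ≤ blockDefect p B)
    (hp3 : p ≤ 3) : p ∣ (height0 p B).card := by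
  have h := sum_height0_eq_zero hM hB hd (by omega)
  rw [pow_one] at h
  rw [← ZMod.natCast_eq_zero_iff, ← h, Finset.card_eq_sum_ones]
  push_cast
  refine Finset.sum_congr rfl fun χ hχ => ?_
  have hne : (reducedDeg p B χ : ZMod p) ≠ 0 := by
    rw [Ne, ZMod.natCast_eq_zero_iff]
    exact fun h' => (dvd_reducedDeg_iff (mem_height0.1 hχ).1).1 h' (mem_height0.1 hχ).2
  have h1 := ZMod.pow_card_sub_one_eq_one hne
  have h2 := hp.out.two_le
  interval_cases p
  · simp only [Nat.add_one_sub_one, pow_one] at h1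
    rw [h1, one_pow]
  · exact h1.symm

variable {e : Set (IrrCharacter (Subgroup.centralizer (D : Set G)))} {F : FusionSystem D}

/-- For `5 ≤ p` the characters of height zero of each degree come in multiples of `p`. -/
theorem dvd_card_fiber (hM : IsPModular p M) (hp5 : 5 ≤ p)
    (hF : IsBlockFusionSystemOn p M B D e F) (hD1 : D ≠ ⊥) (hAut : IsPGroup p (MulAut D))
    (v : ℕ) : p ∣ ((height0 p B).filter fun χ => reducedDeg p B χ = v).card := by
  have hDp : IsPGroup p D := isPGroup_defectGroup (isDefectGroup_of_isMaximal hM hF.1)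
  have hne := not_le_focal hp5 hDp hD1 hAut (isSaturated_block hM hF)
  set N := F.focalSubgroup.subgroupOf D
  haveI : N.Normal := ⟨fun n hn g => by
    have h := N.mul_mem (focal_comm g n) hn
    simpa [mul_assoc] using h⟩
  have hidx : p ∣ N.index := by
    obtain ⟨k, hk⟩ := IsPGroup.iff_card.1 hDp
    obtain ⟨j, -, hj⟩ := (Nat.dvd_prime_pow hp.out).1 (hk ▸ N.index_dvd_card)
    rw [hj]
    refine dvd_pow_self p fun hj0 => hne ?_
    have hN : N = ⊤ := Subgroup.index_eq_one.1 (by rw [hj, hj0, pow_zero])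
    intro x hx
    exact Subgroup.mem_subgroupOf.1 (hN.ge (Subgroup.mem_top (⟨x, hx⟩ : D)))
  letI := linAction hM hF 0
  let X := {χ : HeightSet p B 0 // reducedDeg p B χ.1 = v}
  letI : MulAction (linTriv N) X :=
    { smul := fun l χ => ⟨l • χ.1, by
        refine Eq.trans ?_ χ.2
        show charDegree (star hM (etaOf p M D e (linFun (l : D →* ℂˣ))) χ.1.1) / _ = _
        unfold charDegree
        rw [star_etaOf_regular hF.1 (stable_lin hF l.2) χ.1.2.1
          (by rw [orderOf_one]; exact hM.1.not_dvd_one), linFun, map_one, Units.val_one, one_mul]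
        rfl⟩
      one_smul := fun χ => Subtype.ext (one_smul _ χ.1)
      mul_smul := fun l l' χ => Subtype.ext (mul_smul l l' χ.1) }
  have h := index_dvd_card N focal_comm ⊤ (X := X)
    fun χ l hfix w _ => eq_one_of_fixed hM hF l χ.1 (congrArg Subtype.val hfix) w
      (exists_secPart_ne_zero_of_min hM (isElemOf_of_below hM hF.1 (bel_below hM hF.1.1.1 w))
        χ.1.2.1 ((blockHeight_eq_zero_iff χ.1.2.1).1 χ.1.2.2))
  rw [Subgroup.relIndex_top_right] at h
  have hcard : Nat.card X = ((height0 p B).filter fun χ => reducedDeg p B χ = v).card := by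
    rw [← Nat.card_eq_finsetCard]
    exact Nat.card_congr
      { toFun := fun χ => ⟨χ.1.1, Finset.mem_filter.2 ⟨mem_height0.2 χ.1.2, χ.2⟩⟩
        invFun := fun χ => ⟨⟨χ.1, mem_height0.1 (Finset.mem_filter.1 χ.2).1⟩,
          (Finset.mem_filter.1 χ.2).2⟩
        left_inv := fun _ => rfl
        right_inv := fun _ => rfl }
  exact hcard ▸ hidx.trans h

/-- The bounds for `5 ≤ p`. -/
theorem card_bounds (hM : IsPModular p M) (hp5 : 5 ≤ p)
    (hF : IsBlockFusionSystemOn p M B D e F) (hD1 : D ≠ ⊥) (hAut : IsPGroup p (MulAut D)) :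
    p ∣ (height0 p B).card ∧ 2 * p ≤ (height0 p B).card ∧
      (p % 4 = 3 → 3 * p ≤ (height0 p B).card) := by
  have hB := hF.1.1.2.1
  have hDd := isDefectGroup_of_isMaximal hM hF.1
  have hd : 2 ≤ blockDefect p B := by
    have hc := card_defectGroup hM hB hDd
    by_contra hlt
    rcases (by omega : blockDefect p B = 0 ∨ blockDefect p B = 1) with h | h
    · rw [h, pow_zero] at hc
      exact hD1 (Subgroup.eq_bot_of_card_eq _ hc)
    · rw [h, pow_one] at hc
      haveI : IsCyclic D := isCyclic_of_prime_card hc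
      have h1 : Nat.card (MulAut D) = p - 1 := by
        rw [IsCyclic.card_mulAut, hc, Nat.totient_prime hp.out]
      obtain ⟨j, hj⟩ := IsPGroup.iff_card.1 hAut
      rcases Nat.eq_zero_or_pos j with rfl | hj0
      · rw [pow_zero, h1] at hj; omega
      · have := Nat.le_self_pow hj0.ne' p
        omega
  set s := height0 p B
  have hmaps : Set.MapsTo (reducedDeg p B) s (s.image (reducedDeg p B)) := fun χ hχ =>
    Finset.mem_image_of_mem _ hχ
  set V := s.image (reducedDeg p B)
  choose n hn using fun v => dvd_card_fiber hM hp5 hF hD1 hAut v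
  have hcard : s.card = p * ∑ v ∈ V, n v := by
    rw [Finset.mul_sum, Finset.card_eq_sum_card_fiberwise hmaps]
    exact Finset.sum_congr rfl fun v _ => hn v
  have hsum : (∑ v ∈ V, (n v : ZMod p) * (v : ZMod p) ^ 2) = 0 := by
    have h : ((∑ χ ∈ s, reducedDeg p B χ ^ 2 : ℕ) : ZMod (p ^ 2)) = 0 := by
      push_cast
      exact sum_height0_eq_zero hM hB hd le_rfl
    have e : ∑ χ ∈ s, reducedDeg p B χ ^ 2 = p * ∑ v ∈ V, n v * v ^ 2 := by
      rw [Finset.mul_sum, ← Finset.sum_fiberwise_of_maps_to hmaps fun χ => reducedDeg p B χ ^ 2]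
      refine Finset.sum_congr rfl fun v _ => ?_
      rw [Finset.sum_congr rfl (g := fun _ => v ^ 2) fun χ hχ => by rw [(Finset.mem_filter.1 hχ).2],
        Finset.sum_const, smul_eq_mul, hn v, mul_assoc]
    rw [ZMod.natCast_eq_zero_iff, e, pow_two] at h
    have h' := Nat.dvd_of_mul_dvd_mul_left hp.out.pos h
    rw [← ZMod.natCast_eq_zero_iff] at h'
    push_cast at h'
    exact h'
  have hunit : ∀ v ∈ V, (v : ZMod p) ≠ 0 := fun v hv => by
    obtain ⟨χ, hχ, rfl⟩ := Finset.mem_image.1 hv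
    rw [Ne, ZMod.natCast_eq_zero_iff]
    exact fun h' => (dvd_reducedDeg_iff (mem_height0.1 hχ).1).1 h' (mem_height0.1 hχ).2
  have hpos : ∀ v ∈ V, 1 ≤ n v := fun v hv => by
    obtain ⟨χ, hχ, rfl⟩ := Finset.mem_image.1 hv
    refine Nat.pos_of_ne_zero fun h0 => ?_
    have hmem : χ ∈ s.filter fun ψ => reducedDeg p B ψ = reducedDeg p B χ :=
      Finset.mem_filter.2 ⟨hχ, rfl⟩
    have hc := hn (reducedDeg p B χ)
    rw [h0, mul_zero, Finset.card_eq_zero] at hc
    rw [hc] at hmem
    exact Finset.notMem_empty _ hmem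
  have hVne : V.Nonempty := by
    obtain ⟨χ, hχ, hχ0⟩ := exists_degVal_eq_min (p := p) (IsPBlock.nonempty hM hB)
    exact ⟨_, Finset.mem_image_of_mem _ (mem_height0.2 ⟨hχ, (blockHeight_eq_zero_iff hχ).2 hχ0⟩)⟩
  have hle : V.card ≤ ∑ v ∈ V, n v := by
    rw [Finset.card_eq_sum_ones]; exact Finset.sum_le_sum hpos
  have hVpos : 1 ≤ V.card := hVne.card_pos
  -- a single fibre of multiplicity one is impossible
  have h2 : 2 ≤ ∑ v ∈ V, n v := by
    by_contra hlt
    obtain ⟨v, hv⟩ := Finset.card_eq_one.1 (by omega : V.card = 1)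
    have hnv : n v = 1 := by rw [hv, Finset.sum_singleton] at hle hlt; simp at hle; omega
    rw [hv, Finset.sum_singleton, hnv, Nat.cast_one, one_mul] at hsum
    exact hunit v (hv ▸ Finset.mem_singleton_self v) (pow_eq_zero_iff two_ne_zero |>.1 hsum)
  refine ⟨Dvd.intro _ hcard.symm, by rw [hcard]; nlinarith, fun h4 => ?_⟩
  suffices h3 : 3 ≤ ∑ v ∈ V, n v by rw [hcard]; nlinarith
  by_contra hlt
  have heq : ∑ v ∈ V, n v = 2 := by omega
  rcases (by omega : V.card = 1 ∨ V.card = 2) with h | h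
  · obtain ⟨v, hv⟩ := Finset.card_eq_one.1 h
    rw [hv, Finset.sum_singleton] at heq
    rw [hv, Finset.sum_singleton, heq, mul_eq_zero] at hsum
    rcases hsum with h0 | h0
    · rw [ZMod.natCast_eq_zero_iff] at h0
      have := Nat.le_of_dvd two_pos h0
      omega
    · exact hunit v (hv ▸ Finset.mem_singleton_self v) (pow_eq_zero_iff two_ne_zero |>.1 h0)
  · obtain ⟨v, w, hvw, hv⟩ := Finset.card_eq_two.1 h
    have h1 := hpos v (by simp [hv])
    have h1' := hpos w (by simp [hv])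
    rw [hv, Finset.sum_pair hvw] at heq hsum
    rw [show n v = 1 by omega, show n w = 1 by omega, Nat.cast_one, one_mul, one_mul] at hsum
    have hw0 := hunit w (by simp [hv])
    refine ZMod.mod_four_ne_three_of_sq_eq_neg_one (p := p) (y := (v : ZMod p) / (w : ZMod p)) ?_ h4
    field_simp
    linear_combination hsum

end Count

end CfsgLib.BrouePuig.AutPGroup
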