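import Cfsg.Agent.Lib.BrouePuig.Algebra
import Cfsg.Agent.Lib.BrauerPairs.Subpair

/-!
# The Brauer map on the residue group algebra, and blocks of primitive idempotents
-/

set_option autoImplicit false

namespace CfsgLib.BrouePuig

open Cfsg CfsgLib.Blocks CfsgLib.Blocks.ResidueAlgebra CfsgLib.BrauerPairs
open scoped Classical

variable {p : ℕ} {M : Ideal AlgInt} {G : Type*} [Group G] [Fintype G]

/-- `x` commutes with every element of `S`. -/
def FixBy {hM : IsPModular p M} (S : Set G) (x : KAlg hM G) : Prop :=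
  ∀ s ∈ S, Commute (MonoidAlgebra.single s 1) x

variable {hM : IsPModular p M}

/-- The Brauer map: truncation to the centralizer of `Q`. -/
noncomputable def br (Q : Subgroup G) (x : KAlg hM G) : KAlg hM G :=
  MonoidAlgebra.ofCoeff (x.coeff.filter fun g => g ∈ Subgroup.centralizer (Q : Set G))

theorem coeff_br (Q : Subgroup G) (x : KAlg hM G) (g : G) :
    (br Q x).coeff g = if g ∈ Subgroup.centralizer (Q : Set G) then x.coeff g else 0 := by
  simp [br, Finsupp.filter_apply]

theorem br_add (Q : Subgroup G) (x y : KAlg hM G) : br Q (x + y) = br Q x + br Q y := by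
  refine ext_coeff fun g => ?_
  simp only [MonoidAlgebra.coeff_add, Finsupp.add_apply, coeff_br]
  split <;> simp

theorem br_zero (Q : Subgroup G) : br Q (0 : KAlg hM G) = 0 := by
  refine ext_coeff fun g => ?_
  simp [coeff_br]

theorem br_sum (Q : Subgroup G) {ι : Type*} (s : Finset ι) (x : ι → KAlg hM G) :
    br Q (∑ i ∈ s, x i) = ∑ i ∈ s, br Q (x i) := by
  induction s using Finset.induction_on with
  | empty => simpa using br_zero Q
  | insert a s ha ih => rw [Finset.sum_insert ha, Finset.sum_insert ha, br_add, ih]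

theorem br_sub (Q : Subgroup G) (x y : KAlg hM G) : br Q (x - y) = br Q x - br Q y := by
  rw [eq_sub_iff_add_eq, ← br_add, sub_add_cancel]

theorem br_one (Q : Subgroup G) : br Q (1 : KAlg hM G) = 1 := by
  refine ext_coeff fun g => ?_
  rw [coeff_br]
  by_cases hg : g = 1
  · subst hg
    rw [if_pos (Subgroup.one_mem _)]
  · simp [MonoidAlgebra.one_def, Finsupp.single_apply, Ne.symm hg]

theorem br_br {R Q : Subgroup G} (h : R ≤ Q) (x : KAlg hM G) : br Q (br R x) = br Q x := by
  refine ext_coeff fun g => ?_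
  simp only [coeff_br]
  by_cases hg : g ∈ Subgroup.centralizer (Q : Set G)
  · simp [hg, Subgroup.centralizer_le h hg]
  · simp [hg]

theorem br_eq_self (Q : Subgroup G) {x : KAlg hM G}
    (h : ∀ g ∉ Subgroup.centralizer (Q : Set G), x.coeff g = 0) : br Q x = x := by
  refine ext_coeff fun g => ?_
  rw [coeff_br]
  split
  · rfl
  · rename_i hg; rw [h g hg]

theorem br_apply_notMem (Q : Subgroup G) (x : KAlg hM G) {g : G}
    (hg : g ∉ Subgroup.centralizer (Q : Set G)) : (br Q x).coeff g = 0 := by
  rw [coeff_br, if_neg hg]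

theorem br_idem (Q : Subgroup G) (x : KAlg hM G) : br Q (br Q x) = br Q x :=
  br_eq_self Q fun _ hg => br_apply_notMem Q x hg

theorem commute_br {Q : Subgroup G} {h : G} (hn : h ∈ Subgroup.normalizer (Q : Set G)) {x : KAlg hM G}
    (hx : Commute (MonoidAlgebra.single h 1) x) : Commute (MonoidAlgebra.single h 1) (br Q x) := by
  refine (commute_single_iff h _).2 fun g => ?_
  rw [coeff_br, coeff_br, (commute_single_iff h x).1 hx g]
  exact if_congr (mem_iff_of_normalizer (normalizer_le_normalizer_centralizer Q hn) g) rfl rfl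

theorem br_mul {Q : Subgroup G} (hQ : IsPGroup p Q) {x y : KAlg hM G}
    (hx : FixBy (Q : Set G) x) (hy : FixBy (Q : Set G) y) : br Q (x * y) = br Q x * br Q y := by
  refine ext_coeff fun c => ?_
  rw [coeff_br, coeff_mul_sum]
  by_cases hc : c ∈ Subgroup.centralizer (Q : Set G)
  · rw [if_pos hc, coeff_mul_sum]
    set f : G → ℂ := fun g => sec hM (x.coeff g)
    set f' : G → ℂ := fun g => sec hM (y.coeff g)
    have hcg := conv_congr_centralizer hM hQ (f := f) (g := f') (fun g => sec_LR hM _)
      (fun g => sec_LR hM _) (fun u hu g => by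
        show sec hM _ = sec hM _
        rw [(commute_single_iff u x).1 (hx u hu) g])
      (fun u hu g => by
        show sec hM _ = sec hM _
        rw [(commute_single_iff u y).1 (hy u hu) g]) hc
    have hall : ∑ a, x.coeff a * y.coeff (a⁻¹ * c) = resid hM (∑ a, f a * f' (a⁻¹ * c)) := by
      rw [resid_sum hM _ fun a _ => LR.mul hM (sec_LR hM _) (sec_LR hM _)]
      exact Finset.sum_congr rfl fun a _ => by
        rw [resid_mul hM (sec_LR hM _) (sec_LR hM _), resid_sec, resid_sec]
    set T := Finset.univ.filter fun a : G => a ∈ Subgroup.centralizer (Q : Set G)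
    have hT : ∑ a, (br Q x).coeff a * (br Q y).coeff (a⁻¹ * c)
        = resid hM (∑ a ∈ T, f a * f' (a⁻¹ * c)) := by
      rw [resid_sum hM _ fun a _ => LR.mul hM (sec_LR hM _) (sec_LR hM _),
        ← Finset.sum_subset (Finset.subset_univ T) fun a _ ha => by
          rw [br_apply_notMem Q x (fun h => ha (Finset.mem_filter.2 ⟨Finset.mem_univ _, h⟩)),
            zero_mul]]
      refine Finset.sum_congr rfl fun a ha => ?_
      have ha' := (Finset.mem_filter.1 ha).2
      rw [coeff_br, coeff_br, if_pos ha', if_pos (Subgroup.mul_mem _ (Subgroup.inv_mem _ ha') hc),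
        resid_mul hM (sec_LR hM _) (sec_LR hM _), resid_sec, resid_sec]
    rw [hall, hT]
    have h1 : MemLocalRing M (∑ a ∈ T, f a * f' (a⁻¹ * c)) :=
      LR.sum hM fun a _ => LR.mul hM (sec_LR hM _) (sec_LR hM _)
    rw [← sub_add_cancel (∑ a, f a * f' (a⁻¹ * c)) (∑ a ∈ T, f a * f' (a⁻¹ * c)),
      resid_add hM (LI.memLocalRing hcg) h1, resid_eq_zero hM hcg, zero_add]
  · rw [if_neg hc, coeff_mul_sum]
    refine (Finset.sum_eq_zero fun a _ => ?_).symm
    by_cases ha : a ∈ Subgroup.centralizer (Q : Set G)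
    · rw [br_apply_notMem Q y (g := a⁻¹ * c) (fun h => hc (by
        simpa using Subgroup.mul_mem _ ha h)), mul_zero]
    · rw [br_apply_notMem Q x ha, zero_mul]

theorem br_idempotent {Q : Subgroup G} (hQ : IsPGroup p Q) {x : KAlg hM G}
    (hx : FixBy (Q : Set G) x) (he : IsIdempotentElem x) : IsIdempotentElem (br Q x) := by
  show br Q x * br Q x = br Q x
  rw [← br_mul hQ hx hx, he.eq]

/-! ### Block idempotents of centralizers -/

variable (hM) in
/-- The reduced idempotent of a set of characters of a subgroup. -/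
noncomputable def iota (K : Subgroup G) (e : Set (IrrCharacter K)) : KAlg hM G :=
  toResAlg hM (subgroupBlockCoeff K e)

theorem coeff_iota (K : Subgroup G) (e : Set (IrrCharacter K)) (g : G) :
    (iota hM K e).coeff g = resid hM (subgroupBlockCoeff K e g) := coeff_toResAlg hM _ g

theorem coeff_iota_notMem {K : Subgroup G} (e : Set (IrrCharacter K)) {g : G} (hg : g ∉ K) :
    (iota hM K e).coeff g = 0 := by
  rw [coeff_iota, bc_of_notMem hg, resid_zero]

theorem iota_empty (K : Subgroup G) : iota hM K (∅ : Set (IrrCharacter K)) = 0 := by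
  refine ext_coeff fun g => ?_
  rw [coeff_iota]
  by_cases hg : g ∈ K
  · rw [bc_of_mem hg, blockCoeff_empty, resid_zero]; rfl
  · rw [bc_of_notMem hg, resid_zero]; rfl

theorem iota_mul {K : Subgroup G} {e e' : Set (IrrCharacter K)} (he : IsPBlock M e)
    (he' : IsPBlock M e') : iota hM K e * iota hM K e' = iota hM K (e ∩ e') := by
  simp only [iota]
  rw [← toResAlg_mul hM (fun g => bc_LR hM he g) (fun g => bc_LR hM he' g), ← gconv_bc K e e']
  rfl

theorem iota_idem {K : Subgroup G} {e : Set (IrrCharacter K)} (he : IsPBlock M e) :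
    IsIdempotentElem (iota hM K e) := by
  show _ * _ = _
  rw [iota_mul he he, Set.inter_self]

theorem iota_orth {K : Subgroup G} {e e' : Set (IrrCharacter K)} (he : IsPBlock M e)
    (he' : IsPBlock M e') (hne : e ≠ e') : iota hM K e * iota hM K e' = 0 := by
  rw [iota_mul he he', Set.eq_empty_of_forall_notMem (s := e ∩ e') fun χ hχ =>
    hne (IsPBlock.eq_of_mem hM he he' hχ.1 hχ.2), iota_empty]

theorem sum_iota (K : Subgroup G) : ∑ e ∈ blockSet M K, iota hM K e = 1 := by
  refine ext_coeff fun g => ?_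
  simp only [MonoidAlgebra.coeff_sum, Finsupp.coe_finsetSum, Finset.sum_apply, coeff_iota]
  rw [← resid_sum hM _ fun e he => bc_LR hM (mem_blockSet.1 he) g, sum_bc hM K g]
  by_cases hg : g = 1
  · subst hg; rw [if_pos rfl, resid_one]; simp
  · rw [if_neg hg, resid_zero]; simp [MonoidAlgebra.one_def, Finsupp.single_apply, Ne.symm hg]

theorem commute_iota {K : Subgroup G} {e : Set (IrrCharacter K)} {h : G}
    (hf : Fixes h (subgroupBlockCoeff K e)) : Commute (MonoidAlgebra.single h 1) (iota hM K e) :=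
  (commute_single_iff h _).2 fun g => by rw [coeff_iota, coeff_iota, hf g]

theorem commute_iota_of_supp {K : Subgroup G} (e : Set (IrrCharacter K)) {x : KAlg hM G}
    (hx : ∀ g ∉ K, x.coeff g = 0) : Commute (iota hM K e) x := by
  rw [eq_sum_single x]
  refine Commute.sum_right _ _ _ fun g _ => ?_
  by_cases hg : g ∈ K
  · rw [show MonoidAlgebra.single g (x.coeff g)
      = x.coeff g • (MonoidAlgebra.single g 1 : KAlg hM G) by simp]
    exact ((commute_iota (bc_fixes_of_mem hg e)).symm).smul_right _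
  · rw [hx g hg]; simp

theorem br_iota (Q : Subgroup G) (e : Set (IrrCharacter (Subgroup.centralizer (Q : Set G)))) :
    br Q (iota hM (Subgroup.centralizer (Q : Set G)) e) = iota hM _ e :=
  br_eq_self Q fun _ hg => coeff_iota_notMem e hg

theorem fixBy_iota (Q : Subgroup G) {e : Set (IrrCharacter (Subgroup.centralizer (Q : Set G)))}
    (he : IsPBlock M e) : FixBy (Q : Set G) (iota hM (Subgroup.centralizer (Q : Set G)) e) :=
  fun _ hs => commute_iota ((goodAt_bc_self hM he).fixP _ hs)

/-- A normal subpair relation in the residue algebra. -/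
theorem br_iota_mul_iota {R Q : Subgroup G}
    {g : Set (IrrCharacter (Subgroup.centralizer (R : Set G)))}
    {f : Set (IrrCharacter (Subgroup.centralizer (Q : Set G)))}
    (h : IsNormalSubpair p M R g Q f) :
    br Q (iota hM _ g) * iota hM _ f = iota hM _ f := by
  obtain ⟨hRg, hQf, hRQ, -, hfix, h1⟩ := isNormalSubpair_iff.1 h
  have hgood := goodAt_bc hM hRQ hRg.2 hfix
  conv_lhs => rw [← br_iota (hM := hM) Q f,
    ← br_mul hQf.1 (fun s hs => commute_iota (hfix s hs)) (fixBy_iota Q hQf.2)]
  refine ext_coeff fun c => ?_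
  rw [coeff_br]
  by_cases hc : c ∈ Subgroup.centralizer (Q : Set G)
  · rw [if_pos hc, coeff_iota]
    have hg := gconv_bc_congr hM hQf.1 hgood (idemAt_bc hM _ g Q) hQf.2 h1 hc
    simp only [iota]
    rw [← toResAlg_mul hM (fun x => bc_LR hM hRg.2 x) (fun x => bc_LR hM hQf.2 x), coeff_toResAlg]
    have hR2 : MemLocalRing M (subgroupBlockCoeff (Subgroup.centralizer (Q : Set G)) f c) :=
      bc_LR hM hQf.2 c
    rw [show (∑ x, subgroupBlockCoeff (Subgroup.centralizer (R : Set G)) g x
        * subgroupBlockCoeff (Subgroup.centralizer (Q : Set G)) f (x⁻¹ * c))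
      = (gconv (subgroupBlockCoeff (Subgroup.centralizer (R : Set G)) g)
          (subgroupBlockCoeff (Subgroup.centralizer (Q : Set G)) f) c
          - subgroupBlockCoeff (Subgroup.centralizer (Q : Set G)) f c)
        + subgroupBlockCoeff (Subgroup.centralizer (Q : Set G)) f c by simp [gconv],
      resid_add hM (LI.memLocalRing hg) hR2, resid_eq_zero hM hg, zero_add]
  · rw [if_neg hc, coeff_iota_notMem f hc]

/-! ### Primitive idempotents -/

/-- An idempotent, primitive among those fixed by `S`. -/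
structure PrimOn (S : Set G) (j : KAlg hM G) : Prop where
  idem : IsIdempotentElem j
  fix : FixBy S j
  ne : j ≠ 0
  prim : ∀ e : KAlg hM G, IsIdempotentElem e → FixBy S e → j * e = e → e * j = e → e = 0 ∨ e = j

theorem PrimOn.nilpotent_or_inv {S : Set G} {j x : KAlg hM G} (hj : PrimOn S j)
    (hx : FixBy S x) (hjx : j * x = x) (hxj : x * j = x) :
    IsNilpotent x ∨ ∃ y, FixBy S y ∧ j * y = y ∧ y * j = y ∧ x * y = j ∧ y * x = j := by
  rcases corner_trichotomy (Residue hM) hj.idem hjx hxj with h | ⟨y, h1, h2, h3, h4, h5⟩ |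
    ⟨e, h1, h2, h3, h4, h5, h6⟩
  · exact Or.inl h
  · exact Or.inr ⟨y, fun s hs => h5 _ (hx s hs) (hj.fix s hs), h1, h2, h3, h4⟩
  · exact ((hj.prim e h1 (fun s hs => h6 _ (hx s hs)) h4 h5).elim h2 h3).elim

theorem PrimOn.nilpotent_of_br_zero {S : Set G} {Q : Subgroup G} (hQ : IsPGroup p Q)
    (hQS : (Q : Set G) ⊆ S) {j x : KAlg hM G} (hj : PrimOn S j) (hne : br Q j ≠ 0)
    (hx : FixBy S x) (hjx : j * x = x) (hxj : x * j = x) (h0 : br Q x = 0) : IsNilpotent x := by
  refine (hj.nilpotent_or_inv hx hjx hxj).resolve_right fun ⟨y, hy, _, _, hxy, _⟩ => hne ?_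
  rw [← hxy, br_mul hQ (fun s hs => hx s (hQS hs)) (fun s hs => hy s (hQS hs)), h0, zero_mul]

theorem eq_zero_of_isNilpotent_idem {x : KAlg hM G} (h : IsNilpotent x) (he : IsIdempotentElem x) :
    x = 0 := by
  obtain ⟨n, hn⟩ := h
  rcases Nat.eq_zero_or_pos n with rfl | hpos
  · rw [pow_zero] at hn
    rw [← mul_one x, hn, mul_zero]
  · obtain ⟨m, rfl⟩ := Nat.exists_eq_succ_of_ne_zero hpos.ne'
    rwa [he.pow_succ_eq] at hn

/-- A primitive idempotent lives in a single block of `C(Q)`. -/
theorem PrimOn.exists_block {Q : Subgroup G} (hQ : IsPGroup p Q) {X : Set G}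
    (hX : X ⊆ (Subgroup.centralizer (Q : Set G) : Set G)) {j : KAlg hM G}
    (hj : PrimOn ((Q : Set G) ∪ X) j) (hne : br Q j ≠ 0) :
    ∃ f, IsPBlock M f ∧ br Q j * iota hM (Subgroup.centralizer (Q : Set G)) f = br Q j := by
  obtain ⟨f, hf, hfne⟩ : ∃ f ∈ blockSet M (Subgroup.centralizer (Q : Set G)),
      br Q j * iota hM _ f ≠ 0 := by
    refine Finset.exists_ne_zero_of_sum_ne_zero ?_
    rw [← Finset.mul_sum, sum_iota, mul_one]
    exact hne
  have hfb := mem_blockSet.1 hf
  refine ⟨f, hfb, ?_⟩
  set w := br Q j * iota hM _ f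
  have hjQ : FixBy (Q : Set G) j := fun s hs => hj.fix s (Or.inl hs)
  have hnorm : ∀ s ∈ (Q : Set G) ∪ X, s ∈ Subgroup.normalizer (Q : Set G) := by
    rintro s (hs | hs)
    · exact Subgroup.le_normalizer hs
    · exact Subgroup.centralizer_le_normalizer _ (hX hs)
  have hι : FixBy ((Q : Set G) ∪ X) (iota hM (Subgroup.centralizer (Q : Set G)) f) := by
    rintro s (hs | hs)
    · exact fixBy_iota Q hfb s hs
    · exact commute_iota (bc_fixes_of_mem (hX hs) f)
  set x := j * iota hM _ f * j
  have hxfix : FixBy ((Q : Set G) ∪ X) x := fun s hs =>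
    ((hj.fix s hs).mul_right (hι s hs)).mul_right (hj.fix s hs)
  have hcomm : Commute (iota hM _ f) (br Q j) :=
    commute_iota_of_supp f fun g hg => br_apply_notMem Q j hg
  have hbrx : br Q x = w := by
    rw [br_mul hQ (fun s hs => (hjQ s hs).mul_right (fixBy_iota Q hfb s hs)) hjQ,
      br_mul hQ hjQ (fixBy_iota Q hfb), br_iota, mul_assoc, hcomm.eq, ← mul_assoc,
      ← br_mul hQ hjQ hjQ, hj.idem.eq]
  have hjx : j * x = x := by simp only [x, ← mul_assoc, hj.idem.eq]
  have hxj : x * j = x := by simp only [x, mul_assoc, hj.idem.eq]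
  have hw : IsIdempotentElem w := by
    show br Q j * iota hM _ f * (br Q j * iota hM _ f) = w
    rw [mul_assoc, ← mul_assoc (iota hM _ f), hcomm.eq, mul_assoc (br Q j) (iota hM _ f),
      (iota_idem hfb).eq, ← mul_assoc, ← br_mul hQ hjQ hjQ, hj.idem.eq]
  rcases hj.nilpotent_or_inv hxfix hjx hxj with ⟨n, hn⟩ | ⟨y, hy, -, -, hxy, -⟩
  · exfalso
    refine hfne (eq_zero_of_isNilpotent_idem ⟨n + 1, ?_⟩ hw)
    have hpow : ∀ m : ℕ, br Q (x ^ (m + 1)) = w ^ (m + 1) := by
      intro m
      induction m with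
      | zero => simpa using hbrx
      | succ m ih =>
        rw [pow_succ, br_mul hQ (fun s hs => (hxfix s (Or.inl hs)).pow_right _)
          (fun s hs => hxfix s (Or.inl hs)), ih, hbrx, ← pow_succ]
    rw [← hpow, pow_succ, hn, zero_mul, br_zero]
  · have h1 : br Q j = w * br Q y := by
      rw [← hbrx, ← br_mul hQ (fun s hs => hxfix s (Or.inl hs)) (fun s hs => hy s (Or.inl hs)), hxy]
    show w = br Q j
    calc w = br Q j * iota hM _ f := rfl
      _ = iota hM _ f * br Q j := hcomm.eq.symm
      _ = iota hM _ f * (w * br Q y) := by rw [← h1]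
      _ = w * br Q y := by
          have : iota hM _ f * w = w := by
            show iota hM _ f * (br Q j * iota hM _ f) = w
            rw [← mul_assoc, hcomm.eq, mul_assoc, (iota_idem hfb).eq]
          rw [← mul_assoc, this]
      _ = br Q j := h1.symm

/-- Alperin–Broué: the image of a primitive idempotent at a smaller subgroup lies in the block
below. -/
theorem PrimOn.br_mul_iota_below [Fact p.Prime] {Q : Subgroup G} (hQ : IsPGroup p Q) {X : Set G}
    (hX : X ⊆ (Subgroup.centralizer (Q : Set G) : Set G)) {j : KAlg hM G}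
    (hj : PrimOn ((Q : Set G) ∪ X) j) (hne : br Q j ≠ 0)
    {f : Set (IrrCharacter (Subgroup.centralizer (Q : Set G)))} (hf : IsPBlock M f)
    (hjf : br Q j * iota hM _ f = br Q j) {R : Subgroup G}
    {g : Set (IrrCharacter (Subgroup.centralizer (R : Set G)))} (hg : SubpairLE p M R g Q f) :
    br R j * iota hM _ g = br R j := by
  induction hn : Nat.card Q - Nat.card R using Nat.strong_induction_on generalizing R with
  | _ n ih =>
  have hQf : IsBrauerPair p M Q f := ⟨hQ, hf⟩
  have hRQ := subgroup_le_of_subpairLE hg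
  rcases hRQ.lt_or_eq with hlt | rfl
  swap
  · rw [eq_of_subpairLE_self hM hg]; exact hjf
  have hR : IsPGroup p R := hQ.to_le hRQ
  have hRg := isBrauerPair_of_subpairLE hg hQf
  set S := Q ⊓ Subgroup.normalizer (R : Set G) with hS
  have hXR : X ⊆ (Subgroup.centralizer (R : Set G) : Set G) := fun x hx =>
    Subgroup.centralizer_le hRQ (hX hx)
  obtain ⟨gS, hgS, -⟩ := existsUnique_below hM hQf (inf_le_left : S ≤ Q)
  have hRS : R ≤ S := le_inf hRQ Subgroup.le_normalizer
  have hgfix : ∀ s ∈ S, Fixes s (subgroupBlockCoeff (Subgroup.centralizer (R : Set G)) g) :=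
    (isNormalSubpair_iff.1 (normal_of_subpairLE hM (isBrauerPair_of_subpairLE hgS hQf)
      (subpairLE_mid hM hQf hg hgS hRS) inf_le_right)).2.2.2.2.1
  set ι := iota hM (Subgroup.centralizer (R : Set G)) g with hι
  set z := br R j - br R j * ι with hz
  have hjR : FixBy (R : Set G) j := fun s hs => hj.fix s (Or.inl (hRQ hs))
  have hzfix : ∀ s ∈ (S : Set G) ∪ X, Commute (MonoidAlgebra.single s 1) z := by
    rintro s (hs | hs)
    · have h1 := commute_br (Q := R) hs.2 (hj.fix s (Or.inl hs.1))
      exact h1.sub_right (h1.mul_right (commute_iota (hgfix s hs)))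
    · have h1 := commute_br (Q := R) (Subgroup.centralizer_le_normalizer _ (hXR hs))
        (hj.fix s (Or.inr hs))
      exact h1.sub_right (h1.mul_right (commute_iota (bc_fixes_of_mem (hXR hs) g)))
  have hcomm : Commute ι (br R j) := commute_iota_of_supp g fun c hc => br_apply_notMem R j hc
  have hzidem : IsIdempotentElem z := by
    have h1 := (br_idempotent hR hjR hj.idem).eq
    have h2 := (iota_idem (hM := hM) hRg.2).eq
    have h3 : br R j * ι * br R j = br R j * ι := by rw [mul_assoc, hcomm.eq, ← mul_assoc, h1]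
    show (br R j - br R j * ι) * (br R j - br R j * ι) = br R j - br R j * ι
    rw [sub_mul, mul_sub, mul_sub, h1, ← mul_assoc, h1, h3, ← mul_assoc, h3, mul_assoc _ ι ι, h2,
      sub_self, sub_zero]
  have hsupp : ∀ c ∉ Subgroup.centralizer (R : Set G), z.coeff c = 0 := by
    intro c hc
    have hbr : br R z = z := by
      rw [hz, br_sub, br_idem]
      congr 1
      refine br_eq_self R fun d hd => ?_
      rw [coeff_mul_sum]
      refine Finset.sum_eq_zero fun a _ => ?_
      by_cases ha : a ∈ Subgroup.centralizer (R : Set G)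
      · rw [hι, coeff_iota_notMem g (fun h => hd (by simpa using Subgroup.mul_mem _ ha h)), mul_zero]
      · rw [br_apply_notMem R j ha, zero_mul]
    rw [← hbr, br_apply_notMem R z hc]
  -- off the points with stabilizer `R`, the element `z` vanishes
  have hstab : ∀ c : G, z.coeff c ≠ 0 → ∀ q ∈ Q, Commute q c → q ∈ R := by
    intro c hc
    have hcR : c ∈ Subgroup.centralizer (R : Set G) := by_contra fun h => hc (hsupp c h)
    set T0 := Q ⊓ Subgroup.centralizer ({c} : Set G)
    have hRT0 : R ≤ T0 := le_inf hRQ fun r hr =>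
      Subgroup.mem_centralizer_singleton_iff.2 (Subgroup.mem_centralizer_iff.1 hcR r hr)
    by_contra hcon
    push Not at hcon
    obtain ⟨q, hq, hqc, hqR⟩ := hcon
    have hlt0 : R < T0 := lt_of_le_of_ne hRT0 fun h => hqR (h ▸ ⟨hq,
      Subgroup.mem_centralizer_singleton_iff.2 hqc.eq⟩)
    set T := T0 ⊓ Subgroup.normalizer (R : Set G)
    have hRT : R < T := CfsgLib.Fsys.lt_normalizerIn (hQ.to_le inf_le_left) hlt0
    have hTQ : T ≤ Q := inf_le_left.trans inf_le_left
    obtain ⟨gT, hgT, -⟩ := existsUnique_below hM hQf hTQ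
    have hcT : c ∈ Subgroup.centralizer (T : Set G) := Subgroup.mem_centralizer_iff.2 fun t ht =>
      Subgroup.mem_centralizer_singleton_iff.1 ht.1.2
    have hTcard : Nat.card R < Nat.card T := by
      by_contra hle
      exact hRT.ne (Subgroup.eq_of_le_of_card_ge hRT.le (not_lt.1 hle))
    have hih := ih (Nat.card Q - Nat.card T) (by
      have := Subgroup.card_le_of_le hTQ; omega) hgT rfl
    have hrel := br_iota_mul_iota (hM := hM) (normal_of_subpairLE hM
      (isBrauerPair_of_subpairLE hgT hQf) (subpairLE_mid hM hQf hg hgT hRT.le) inf_le_right)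
    have hTp : IsPGroup p T := hQ.to_le hTQ
    have hTS : ∀ t ∈ T, t ∈ S := fun t ht => ⟨hTQ ht, ht.2⟩
    have hzero : br T z = 0 := by
      have hfι : FixBy (T : Set G) ι := fun t ht => commute_iota (hgfix t (hTS t ht))
      have hfb : FixBy (T : Set G) (br R j) := fun t ht =>
        commute_br (hTS t ht).2 (hj.fix t (Or.inl (hTQ ht)))
      rw [hz, br_sub, br_mul hTp hfb hfι, br_br hRT.le]
      have hgT2 : IsPBlock M gT := (isBrauerPair_of_subpairLE hgT hQf).2
      rw [sub_eq_zero]
      calc br T j = br T j * iota hM _ gT := hih.symm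
        _ = br T j * (br T ι * iota hM _ gT) := by rw [hrel]
        _ = br T j * (iota hM _ gT * br T ι) := by
            rw [(commute_iota_of_supp gT fun d hd => br_apply_notMem T ι hd).eq]
        _ = br T j * br T ι := by rw [← mul_assoc, hih]
    have := congrArg (fun w : KAlg hM G => w.coeff c) hzero
    simp only [coeff_br, if_pos hcT] at this
    exact hc (by simpa using this)
  -- spread `z` over the `Q`-orbit
  set wf : G → Residue hM := fun c =>
    if h : ∃ q ∈ Q, z.coeff (q⁻¹ * c * q) ≠ 0 then z.coeff (h.choose⁻¹ * c * h.choose) else 0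
  have hwf : ∀ c, ∀ q ∈ Q, z.coeff (q⁻¹ * c * q) ≠ 0 → wf c = z.coeff (q⁻¹ * c * q) := by
    intro c q hq hne'
    have h : ∃ q ∈ Q, z.coeff (q⁻¹ * c * q) ≠ 0 := ⟨q, hq, hne'⟩
    simp only [wf, dif_pos h]
    obtain ⟨hq', hne''⟩ := h.choose_spec
    set q' := h.choose
    set r := q'⁻¹ * q
    have hrQ : r ∈ Q := Q.mul_mem (Q.inv_mem hq') hq
    have hrS : r ∈ S := by
      refine ⟨hrQ, ?_⟩
      -- both stabilizers are `R`, and `r` carries one point to the other
      refine Subgroup.mem_normalizer_iff.2 fun x => ?_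
      constructor
      · intro hx
        refine hstab _ hne'' _ (Q.mul_mem (Q.mul_mem hrQ (hRQ hx)) (Q.inv_mem hrQ)) ?_
        have hcx : Commute x (q⁻¹ * c * q) :=
          Subgroup.mem_centralizer_iff.1 (by_contra fun h => hne' (hsupp _ h)) x hx
        have := hcx.map (MulAut.conj r).toMonoidHom
        simpa [r, mul_assoc] using this
      · intro hx
        have hxQ : x ∈ Q := by
          have := Q.mul_mem (Q.mul_mem (Q.inv_mem hrQ) (hRQ hx)) hrQ
          simpa [mul_assoc] using this
        refine hstab _ hne' _ hxQ ?_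
        have hcx : Commute (r * x * r⁻¹) (q'⁻¹ * c * q') :=
          Subgroup.mem_centralizer_iff.1 (by_contra fun h => hne'' (hsupp _ h)) _ hx
        have := hcx.map (MulAut.conj r⁻¹).toMonoidHom
        simpa [r, mul_assoc] using this
    have h2 := (commute_single_iff r z).1 (hzfix r (Or.inl hrS)) (q⁻¹ * c * q)
    rw [← h2]
    congr 1
    simp [r, mul_assoc]
  have hwf0 : ∀ c, (¬ ∃ q ∈ Q, z.coeff (q⁻¹ * c * q) ≠ 0) → wf c = 0 := fun c h => dif_neg h
  set w : KAlg hM G := MonoidAlgebra.ofCoeff (Finsupp.equivFunOnFinite.symm wf)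
  have hwc : ∀ c, w.coeff c = wf c := fun c => by simp [w]
  have hwfix : FixBy ((Q : Set G) ∪ X) w := by
    rintro s hs
    refine (commute_single_iff s w).2 fun c => ?_
    rw [hwc, hwc]
    rcases hs with hs | hs
    · by_cases h : ∃ q ∈ Q, z.coeff (q⁻¹ * c * q) ≠ 0
      · obtain ⟨q, hq, hne'⟩ := h
        rw [hwf c q hq hne', hwf _ (s * q) (Q.mul_mem hs hq) (by simpa [mul_assoc] using hne')]
        simp [mul_assoc]
      · rw [hwf0 c h, hwf0]
        rintro ⟨q, hq, hne'⟩
        exact h ⟨s⁻¹ * q, Q.mul_mem (Q.inv_mem hs) hq, by simpa [mul_assoc] using hne'⟩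
    · have key : ∀ q ∈ Q, z.coeff (q⁻¹ * (s * c * s⁻¹) * q) = z.coeff (q⁻¹ * c * q) := by
        intro q hq
        rw [← (commute_single_iff s z).1 (hzfix s (Or.inr hs)) (q⁻¹ * c * q)]
        congr 1
        have h1 : Commute q s := Subgroup.mem_centralizer_iff.1 (hX hs) q hq
        calc q⁻¹ * (s * c * s⁻¹) * q = (q⁻¹ * s) * c * (s⁻¹ * q) := by simp [mul_assoc]
          _ = (s * q⁻¹) * c * (q * s⁻¹) := by rw [h1.inv_left.eq, h1.inv_right.eq]
          _ = _ := by simp [mul_assoc]
      by_cases h : ∃ q ∈ Q, z.coeff (q⁻¹ * c * q) ≠ 0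
      · obtain ⟨q, hq, hne'⟩ := h
        rw [hwf c q hq hne', hwf _ q hq (by rw [key q hq]; exact hne'), key q hq]
      · rw [hwf0 c h, hwf0]
        rintro ⟨q, hq, hne'⟩
        exact h ⟨q, hq, by rwa [key q hq] at hne'⟩
  have hbrw : br R w = z := by
    refine ext_coeff fun c => ?_
    rw [coeff_br]
    by_cases hc : c ∈ Subgroup.centralizer (R : Set G)
    · rw [if_pos hc, hwc]
      by_cases h : ∃ q ∈ Q, z.coeff (q⁻¹ * c * q) ≠ 0
      · obtain ⟨q, hq, hne'⟩ := h
        rw [hwf c q hq hne']
        have hqS : q⁻¹ ∈ S := by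
          refine ⟨Q.inv_mem hq, ?_⟩
          have hle : R.map (MulAut.conj q⁻¹).toMonoidHom ≤ R := by
            rintro _ ⟨x, hx, rfl⟩
            refine hstab _ hne' _ (Q.mul_mem (Q.mul_mem (Q.inv_mem hq) (hRQ hx))
              (by simpa using hq)) ?_
            have := (show Commute x c from Subgroup.mem_centralizer_iff.1 hc x hx).map
              (MulAut.conj q⁻¹).toMonoidHom
            simpa [mul_assoc] using this
          have heq : R.map (MulAut.conj q⁻¹).toMonoidHom = R :=
            Subgroup.eq_of_le_of_card_ge hle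
              (Subgroup.card_map_of_injective (MulAut.conj q⁻¹).injective).ge
          refine Subgroup.mem_normalizer_iff.2 fun x => ⟨fun hx => hle ⟨x, hx, rfl⟩, fun hx => ?_⟩
          rw [← heq] at hx
          obtain ⟨y, hy, hyx⟩ := hx
          rwa [← (MulAut.conj q⁻¹).injective hyx]
        have := (commute_single_iff q⁻¹ z).1 (hzfix q⁻¹ (Or.inl hqS)) c
        simpa using this
      · rw [hwf0 c h]
        by_contra hne'
        exact h ⟨1, Q.one_mem, by simpa using Ne.symm hne'⟩
    · rw [if_neg hc, hsupp c hc]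
  have hbrQ : br Q w = 0 := by
    refine ext_coeff fun c => ?_
    rw [coeff_br]
    split
    · rename_i hc
      rw [hwc, hwf0]
      · rfl
      rintro ⟨q, hq, hne'⟩
      have hcq : q⁻¹ * c * q = c := by
        rw [mul_assoc, ← Subgroup.mem_centralizer_iff.1 hc q hq, inv_mul_cancel_left]
      rw [hcq] at hne'
      exact hlt.not_ge fun x hx => hstab c hne' x hx (Subgroup.mem_centralizer_iff.1 hc x hx)
    · rfl
  set x := j * w * j
  have hjQ : FixBy (Q : Set G) j := fun s hs => hj.fix s (Or.inl hs)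
  have hxfix : FixBy ((Q : Set G) ∪ X) x := fun s hs =>
    ((hj.fix s hs).mul_right (hwfix s hs)).mul_right (hj.fix s hs)
  have hjx : j * x = x := by simp only [x, ← mul_assoc, hj.idem.eq]
  have hxj : x * j = x := by simp only [x, mul_assoc, hj.idem.eq]
  have hwQ : FixBy (Q : Set G) w := fun s hs => hwfix s (Or.inl hs)
  have hxQ : br Q x = 0 := by
    rw [br_mul hQ (fun s hs => (hjQ s hs).mul_right (hwQ s hs)) hjQ, br_mul hQ hjQ hwQ, hbrQ,
      mul_zero, zero_mul]
  obtain ⟨n', hn'⟩ := hj.nilpotent_of_br_zero hQ Set.subset_union_left hne hxfix hjx hxj hxQ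
  have hbrx : br R x = z := by
    have hb := (br_idempotent hR hjR hj.idem).eq
    have hzb : br R j * z = z := by rw [hz, mul_sub, ← mul_assoc, hb]
    have hbz : z * br R j = z := by rw [hz, sub_mul, mul_assoc, hcomm.eq, ← mul_assoc, hb]
    rw [br_mul hR (fun s hs => (hjR s hs).mul_right (hwQ s (hRQ hs))) hjR,
      br_mul hR hjR (fun s hs => hwQ s (hRQ hs)), hbrw, hzb, hbz]
  have hz0 : z = 0 := by
    refine eq_zero_of_isNilpotent_idem ⟨n' + 1, ?_⟩ hzidem
    have hpow : ∀ m : ℕ, br R (x ^ (m + 1)) = z ^ (m + 1) := by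
      intro m
      induction m with
      | zero => simpa using hbrx
      | succ m ih' =>
        rw [pow_succ, br_mul hR (fun s hs => (hxfix s (Or.inl (hRQ hs))).pow_right _)
          (fun s hs => hxfix s (Or.inl (hRQ hs))), ih', hbrx, ← pow_succ]
    rw [← hpow, pow_succ, hn', zero_mul, br_zero]
  exact (sub_eq_zero.1 hz0).symm

end CfsgLib.BrouePuig
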