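import Cfsg.Agent.Lib.BrouePuig.Inner
import Cfsg.Agent.Lib.BrauerPairs.Fusion

/-!
# Fusion-stable functions on a maximal pair give compatible families
-/

set_option autoImplicit false

namespace CfsgLib.BrouePuig

open Cfsg CfsgLib.Blocks CfsgLib.Blocks.ResidueAlgebra CfsgLib.BrauerPairs
open scoped Classical ComplexConjugate

universe u

variable {p : ℕ} {M : Ideal AlgInt} {G : Type u} [Group G] [Fintype G]
  {B : Set (IrrCharacter G)} {P : Subgroup G}
  {e : Set (IrrCharacter (Subgroup.centralizer (P : Set G)))}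

/-- `ζ` takes equal values at elements of `P` fused in the block. -/
def Stable (p : ℕ) (M : Ideal AlgInt) (P : Subgroup G)
    (e : Set (IrrCharacter (Subgroup.centralizer (P : Set G)))) (ζ : P → ℂ) : Prop :=
  ∀ (w w' : P) (k : G), Moves p M P e (Subgroup.zpowers (w : G)) k →
    k * (w : G) * k⁻¹ = (w' : G) → ζ w' = ζ w

omit [Fintype G] in
theorem below_mem [Finite G] {a : BElem G} (h : Below p M P e a.pair) : a.1 ∈ P := by
  haveI := Fintype.ofFinite G
  exact h.le (Subgroup.mem_zpowers a.1)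

theorem mem_of_below_act {a : BElem G} {y : G} (h : Below p M P e (act y a).pair) :
    y * a.1 * y⁻¹ ∈ P :=
  below_mem h

/-- The family of functions on Brauer elements defined by `ζ`. -/
noncomputable def etaOf (p : ℕ) (M : Ideal AlgInt) (P : Subgroup G)
    (e : Set (IrrCharacter (Subgroup.centralizer (P : Set G)))) (ζ : P → ℂ) (a : BElem G) : ℂ :=
  if h : ∃ y : G, Below p M P e (act y a).pair then
    ζ ⟨h.choose * a.1 * h.choose⁻¹, mem_of_below_act h.choose_spec⟩ else 0

theorem isElemOf_of_below (hM : IsPModular p M) (hmax : IsMaximalBrauerPair p M B P e)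
    {a : BElem G} (h : Below p M P e a.pair) : IsElemOf p M B a :=
  isBrauerPairOf_down hM h hmax.1

theorem exists_below_iff [Fact p.Prime] (hM : IsPModular p M)
    (hmax : IsMaximalBrauerPair p M B P e) (a : BElem G) :
    (∃ y : G, Below p M P e (act y a).pair) ↔ IsElemOf p M B a := by
  constructor
  · rintro ⟨y, h⟩
    exact (isElemOf_act_iff y a).1 (isElemOf_of_below hM hmax h)
  · intro h
    obtain ⟨x, hx⟩ := exists_conj_subpairLE hM hmax h
    refine ⟨x, ?_⟩
    rw [pair_act]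
    exact hx

theorem etaOf_eq {ζ : P → ℂ} (hζ : Stable p M P e ζ) {a : BElem G} {y : G}
    (h : Below p M P e (act y a).pair) :
    etaOf p M P e ζ a = ζ ⟨y * a.1 * y⁻¹, mem_of_below_act h⟩ := by
  have hex : ∃ y : G, Below p M P e (act y a).pair := ⟨y, h⟩
  rw [etaOf, dif_pos hex]
  set y0 := hex.choose
  have h0 : Below p M P e (act y0 a).pair := hex.choose_spec
  refine (hζ ⟨y0 * a.1 * y0⁻¹, mem_of_below_act h0⟩ ⟨y * a.1 * y⁻¹, mem_of_below_act h⟩
    (y * y0⁻¹) ⟨(act y0 a).2, h0, ?_⟩ (by simp [mul_assoc])).symm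
  show Below p M P e (conjPair (y * y0⁻¹) (act y0 a).pair)
  rw [← pair_act, ← act_mul, inv_mul_cancel_right]
  exact h

theorem etaOf_eq_zero [Fact p.Prime] (hM : IsPModular p M)
    (hmax : IsMaximalBrauerPair p M B P e) (ζ : P → ℂ) {a : BElem G} (h : ¬ IsElemOf p M B a) :
    etaOf p M P e ζ a = 0 := by
  rw [etaOf, dif_neg fun hex => h ((exists_below_iff hM hmax a).1 hex)]

theorem etaOf_act {ζ : P → ℂ} (hζ : Stable p M P e ζ) (y : G) (a : BElem G) :
    etaOf p M P e ζ (act y a) = etaOf p M P e ζ a := by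
  by_cases h : ∃ x : G, Below p M P e (act x a).pair
  · obtain ⟨x, hx⟩ := h
    have hx' : Below p M P e (act (x * y⁻¹) (act y a)).pair := by
      rw [← act_mul, inv_mul_cancel_right]; exact hx
    rw [etaOf_eq hζ hx, etaOf_eq hζ hx']
    congr 1
    exact Subtype.ext (by
      show x * y⁻¹ * (y * a.1 * y⁻¹) * (x * y⁻¹)⁻¹ = x * a.1 * x⁻¹
      simp [mul_assoc])
  · rw [etaOf, etaOf, dif_neg h, dif_neg]
    rintro ⟨x, hx⟩
    exact h ⟨x * y, by rw [act_mul]; exact hx⟩

theorem etaOf_compatible [Fact p.Prime] (hM : IsPModular p M)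
    (hmax : IsMaximalBrauerPair p M B P e) {ζ : P → ℂ} (hζ : Stable p M P e ζ)
    (hgen : IsGeneralizedCharacter P ζ) : Compatible p M (etaOf p M P e ζ) := by
  refine ⟨etaOf_act hζ, fun Q f hQf => ?_⟩
  by_cases hB : IsBrauerPairOf p M B Q f
  · obtain ⟨x, hx⟩ := exists_conj_subpairLE hM hmax hB
    have hxP : ∀ v : Q, x * (v : G) * x⁻¹ ∈ P := fun v =>
      subgroup_le_of_subpairLE hx ⟨v, v.2, rfl⟩
    let π : Q →* P :=
      { toFun := fun v => ⟨x * (v : G) * x⁻¹, hxP v⟩
        map_one' := Subtype.ext (by simp)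
        map_mul' := fun a b => Subtype.ext (by simp [mul_assoc]) }
    refine ⟨fun v => ζ (π v), gen_comp hgen π, fun v g hg => ?_⟩
    have hb : Below p M P e (act x (⟨(v : G), g⟩ : BElem G)).pair := by
      rw [pair_act]
      exact (conjPair_subpair x hg).trans hx
    rw [etaOf_eq hζ hb]
    rfl
  · refine ⟨fun _ => 0, gen_zero Q, fun v g hg => etaOf_eq_zero hM hmax ζ fun h => hB ?_⟩
    exact isBrauerPairOf_up hM hg h

/-- The Brauer element below `(P, e)` over an element of `P`. -/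
noncomputable def bel [Fact p.Prime] (hM : IsPModular p M) (hP : IsBrauerPair p M P e) (w : P) :
    BElem G :=
  ⟨(w : G), (existsUnique_below hM hP (Subgroup.zpowers_le.2 w.2)).choose⟩

theorem bel_below [Fact p.Prime] (hM : IsPModular p M) (hP : IsBrauerPair p M P e) (w : P) :
    Below p M P e (bel hM hP w).pair :=
  (existsUnique_below hM hP (Subgroup.zpowers_le.2 w.2)).choose_spec.1

theorem eq_bel [Fact p.Prime] (hM : IsPModular p M) (hP : IsBrauerPair p M P e) {a : BElem G}
    (h : Below p M P e a.pair) (w : P) (hw : a.1 = (w : G)) : a = bel hM hP w := by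
  obtain ⟨u, f⟩ := a
  simp only at hw
  subst hw
  exact congrArg (Sigma.mk _) ((existsUnique_below hM hP (Subgroup.zpowers_le.2 w.2)).unique h
    (bel_below hM hP w))

theorem act_bel [Fact p.Prime] (hM : IsPModular p M) (hP : IsBrauerPair p M P e) (v w : P) :
    act (v : G) (bel hM hP w) = bel hM hP (v * w * v⁻¹) := by
  refine eq_bel hM hP ?_ _ ?_
  · rw [pair_act]
    exact Below.conj_mem hM hP (bel_below hM hP w) v.2
  · simp [act, bel]

theorem act_bel_of_centralizer [Fact p.Prime] (hM : IsPModular p M) (hP : IsBrauerPair p M P e)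
    (w : P) {c : G} (hc : Commute c (w : G)) : act c (bel hM hP w) = bel hM hP w :=
  act_of_mem_centralizer (by
    show c ∈ Subgroup.centralizer ((Subgroup.zpowers (w : G) : Subgroup G) : Set G)
    rw [centralizer_zpowers, Subgroup.mem_centralizer_singleton_iff]
    exact hc.eq)

theorem etaOf_bel [Fact p.Prime] (hM : IsPModular p M) (hP : IsBrauerPair p M P e) {ζ : P → ℂ}
    (hζ : Stable p M P e ζ) (w : P) : etaOf p M P e ζ (bel hM hP w) = ζ w := by
  have h : Below p M P e (act 1 (bel hM hP w)).pair := by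
    rw [act_one]; exact bel_below hM hP w
  rw [etaOf_eq hζ h]
  congr 1
  exact Subtype.ext (by simp [bel])

theorem card_centralizer_conj {H : Type*} [Group H] (v w : H) :
    Nat.card (Subgroup.centralizer ({v * w * v⁻¹} : Set H))
      = Nat.card (Subgroup.centralizer ({w} : Set H)) := by
  refine Nat.card_congr (Equiv.subtypeEquiv (MulAut.conj v⁻¹).toEquiv fun c => ?_)
  simp only [Subgroup.mem_centralizer_singleton_iff, MulEquiv.toEquiv_eq_coe,
    EquivLike.coe_coe, MulAut.conj_apply, inv_inv]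
  constructor <;> intro h
  · have := congrArg (fun z => v⁻¹ * z * v) h
    simpa [mul_assoc] using this
  · have := congrArg (fun z => v * z * v⁻¹) h
    simpa [mul_assoc] using this

/-- The weight of an element of `P`. -/
noncomputable def ratio (P : Subgroup G) (w : P) : ℂ :=
  (Nat.card (Subgroup.centralizer ({w} : Set P)) : ℂ) *
    (Nat.card (Subgroup.centralizer ({(w : G)} : Set G)) : ℂ)⁻¹

theorem ratio_conj (v w : P) : ratio P (v * w * v⁻¹) = ratio P w := by
  rw [ratio, ratio, card_centralizer_conj]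
  congr 3
  exact card_centralizer_conj (v : G) (w : G)

/-- When fusion is inner, a sum over the Brauer elements of `B` is a sum over `P`. -/
theorem sum_elems_eq [Fact p.Prime] (hM : IsPModular p M) (hmax : IsMaximalBrauerPair p M B P e)
    (hfus : ∀ (w : P) (k : G), Moves p M P e (Subgroup.zpowers (w : G)) k →
      ∃ v : P, k * (w : G) * k⁻¹ = ((v * w * v⁻¹ : P) : G))
    (F : BElem G → ℂ) (hF : ∀ y a, IsElemOf p M B a → F (act y a) = F a) :
    ∑ a : BElem G with IsElemOf p M B a, F a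
      = (Nat.card G : ℂ) * (Nat.card P : ℂ)⁻¹ *
          ∑ w : P, ratio P w * F (bel hM hmax.1.1 w) := by
  set hP := hmax.1.1
  set S := Finset.univ.filter fun a : BElem G => IsElemOf p M B a
  let Φ : G × P → BElem G := fun yw => act yw.1 (bel hM hP yw.2)
  have hmem : ∀ w, IsElemOf p M B (bel hM hP w) := fun w =>
    isElemOf_of_below hM hmax (bel_below hM hP w)
  have hΦ : ∀ yw ∈ (Finset.univ : Finset (G × P)), Φ yw ∈ S := fun yw _ =>
    Finset.mem_filter.2 ⟨Finset.mem_univ _, isElemOf_act _ (hmem _)⟩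
  have h1 : ∑ yw : G × P, ratio P yw.2 * F (Φ yw)
      = (Nat.card G : ℂ) * ∑ w : P, ratio P w * F (bel hM hP w) := by
    rw [Fintype.sum_prod_type]
    simp only [Φ, hF _ _ (hmem _), Finset.sum_const, nsmul_eq_mul, Finset.card_univ,
      Fintype.card_eq_nat_card]
  suffices h2 : ∑ yw : G × P, ratio P yw.2 * F (Φ yw) = (Nat.card P : ℂ) * ∑ a ∈ S, F a by
    have h3 := h1.symm.trans h2
    calc ∑ a ∈ S, F a = (Nat.card P : ℂ)⁻¹ * ((Nat.card P : ℂ) * ∑ a ∈ S, F a) := by
          rw [inv_mul_cancel_left₀ Char.card_ne_zero]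
      _ = _ := by rw [← h3]; ring
  rw [← Finset.sum_fiberwise_of_maps_to hΦ, Finset.mul_sum]
  refine Finset.sum_congr rfl fun a ha => ?_
  obtain ⟨x, hx⟩ := (exists_below_iff hM hmax a).2 (Finset.mem_filter.1 ha).2
  set w0 : P := ⟨x * a.1 * x⁻¹, mem_of_below_act hx⟩
  have hb0 : act x a = bel hM hP w0 := eq_bel hM hP hx w0 rfl
  have ha0 : act x⁻¹ (bel hM hP w0) = a := by rw [← hb0, act_inv_act]
  set T := Finset.univ.filter fun yw : G × P => Φ yw = a
  set C := Subgroup.centralizer ({(w0 : G)} : Set G)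
  set D := Subgroup.centralizer ({w0} : Set P)
  let Ψ : C × P → G × P := fun cu => (x⁻¹ * (cu.1 : G) * (cu.2 : G), cu.2⁻¹ * w0 * cu.2)
  have hΨ : ∀ cu ∈ (Finset.univ : Finset (C × P)), Ψ cu ∈ T := by
    rintro ⟨c, u⟩ -
    refine Finset.mem_filter.2 ⟨Finset.mem_univ _, ?_⟩
    show act (x⁻¹ * (c : G) * (u : G)) (bel hM hP (u⁻¹ * w0 * u)) = a
    rw [act_mul, act_bel, act_mul, show u * (u⁻¹ * w0 * u) * u⁻¹ = w0 by simp [mul_assoc],
      act_bel_of_centralizer hM hP w0 (Subgroup.mem_centralizer_singleton_iff.1 c.2), ha0]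
  have hfib : ∀ yw ∈ T, ((Finset.univ : Finset (C × P)).filter fun cu => Ψ cu = yw).card
      = Nat.card D := by
    intro yw hyw
    have hyw' : act yw.1 (bel hM hP yw.2) = a := (Finset.mem_filter.1 hyw).2
    -- a preimage
    have hk : act (x * yw.1) (bel hM hP yw.2) = bel hM hP w0 := by rw [act_mul, hyw', hb0]
    have hmv : Moves p M P e (Subgroup.zpowers (yw.2 : G)) (x * yw.1) := by
      refine ⟨(bel hM hP yw.2).2, bel_below hM hP yw.2, ?_⟩
      show Below p M P e (conjPair (x * yw.1) (bel hM hP yw.2).pair)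
      rw [← pair_act, hk]
      exact bel_below hM hP w0
    obtain ⟨v, hv⟩ := hfus yw.2 _ hmv
    have hv' : v * yw.2 * v⁻¹ = w0 := Subtype.ext (hv.symm.trans (congrArg Sigma.fst hk))
    have hcC : x * yw.1 * (v : G)⁻¹ ∈ C := by
      refine Subgroup.mem_centralizer_singleton_iff.2 ?_
      have e1 : x * yw.1 * (yw.2 : G) * (x * yw.1)⁻¹ = (w0 : G) := congrArg Sigma.fst hk
      have e2 : (v : G)⁻¹ * (w0 : G) = (yw.2 : G) * (v : G)⁻¹ := by
        rw [← hv']; simp [mul_assoc]
      rw [mul_assoc (x * yw.1), e2, ← mul_assoc, ← mul_assoc (w0 : G), ← e1]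
      simp [mul_assoc]
    rw [Nat.card_eq_fintype_card, ← Finset.card_univ]
    have hpre : Ψ (⟨_, hcC⟩, v) = yw := by
      refine Prod.ext ?_ ?_
      · simp [Ψ, mul_assoc]
      · show v⁻¹ * w0 * v = yw.2
        rw [← hv']; simp [mul_assoc]
    symm
    refine Finset.card_bij
      (fun d _ => (⟨x * yw.1 * (v : G)⁻¹ * ((d : P) : G)⁻¹, C.mul_mem hcC (C.inv_mem ?_)⟩,
        (d : P) * v)) ?_ ?_ ?_
    · exact Subgroup.mem_centralizer_singleton_iff.2
        (congrArg Subtype.val (Subgroup.mem_centralizer_singleton_iff.1 d.2))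
    · intro d _
      refine Finset.mem_filter.2 ⟨Finset.mem_univ _, Prod.ext ?_ ?_⟩
      · simp [Ψ, mul_assoc]
      · show ((d : P) * v)⁻¹ * w0 * ((d : P) * v) = yw.2
        have hd := Subgroup.mem_centralizer_singleton_iff.1 d.2
        rw [mul_inv_rev, show v⁻¹ * (d : P)⁻¹ * w0 * ((d : P) * v)
          = v⁻¹ * ((d : P)⁻¹ * (w0 * (d : P))) * v by simp [mul_assoc], ← hd, inv_mul_cancel_left,
          ← hv']
        simp [mul_assoc]
    · intro d _ d' _ h
      exact Subtype.ext (mul_right_cancel (congrArg Prod.snd h))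
    · rintro ⟨c, u⟩ hcu
      have he := (Finset.mem_filter.1 hcu).2
      have h1' : x⁻¹ * (c : G) * (u : G) = yw.1 := congrArg Prod.fst he
      have h2' : u⁻¹ * w0 * u = yw.2 := congrArg Prod.snd he
      have hd : u * v⁻¹ ∈ D := by
        refine Subgroup.mem_centralizer_singleton_iff.2 ?_
        have e3 : v⁻¹ * w0 = yw.2 * v⁻¹ := by rw [← hv']; simp [mul_assoc]
        rw [mul_assoc u, e3, ← h2']
        simp [mul_assoc]
      refine ⟨⟨u * v⁻¹, hd⟩, Finset.mem_univ _, Prod.ext (Subtype.ext ?_) (by simp [mul_assoc])⟩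
      show x * yw.1 * (v : G)⁻¹ * ((u * v⁻¹ : P) : G)⁻¹ = (c : G)
      rw [← h1']
      simp [mul_assoc]
  have hcount := Finset.card_eq_sum_card_fiberwise hΨ
  rw [Finset.sum_congr rfl hfib, Finset.sum_const, smul_eq_mul, Finset.card_univ,
    Fintype.card_prod, Fintype.card_eq_nat_card, Fintype.card_eq_nat_card] at hcount
  have hr : ∀ yw ∈ T, ratio P yw.2 * F (Φ yw) = ratio P w0 * F a := by
    intro yw hyw
    rw [(Finset.mem_filter.1 hyw).2]
    obtain ⟨cu, hcu⟩ : ∃ cu, Ψ cu = yw := by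
      have h := hfib yw hyw
      have hpos : 0 < ((Finset.univ : Finset (C × P)).filter fun cu => Ψ cu = yw).card := by
        rw [h]; exact Nat.card_pos
      obtain ⟨cu, hcu⟩ := Finset.card_pos.1 hpos
      exact ⟨cu, (Finset.mem_filter.1 hcu).2⟩
    rw [← hcu]
    show ratio P (cu.2⁻¹ * w0 * cu.2) * F a = _
    rw [show cu.2⁻¹ * w0 * cu.2 = cu.2⁻¹ * w0 * cu.2⁻¹⁻¹ by simp, ratio_conj]
  rw [Finset.sum_congr rfl hr, Finset.sum_const, nsmul_eq_mul, ratio, ← mul_assoc, ← mul_assoc]
  congr 1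
  have hC : (Nat.card C : ℂ) ≠ 0 := Char.card_ne_zero
  field_simp
  exact_mod_cast (by rw [hcount] : T.card * Nat.card D = Nat.card C * Nat.card P)

end CfsgLib.BrouePuig
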