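import Cfsg.Agent.Lib.BrauerPairs.Nilpotent
import Cfsg.Agent.Lib.BrauerPairs.MaximalCriterion

/-!
# Inertial data: from "c induces B" to maximal Brauer pairs and the pairs below
-/

set_option autoImplicit false
set_option maxHeartbeats 800000

namespace CfsgLib.BrouePuig

open Cfsg CfsgLib.Blocks CfsgLib.BrauerPairs
open scoped Classical ComplexConjugate

variable {G : Type*} [Group G] [Fintype G] {p : ℕ} {M : Ideal AlgInt}

/-- A defect group with a block of its centralizer inducing `B` is a maximal Brauer pair. -/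
theorem maximal_of_induced (hM : IsPModular p M) {B : Set (IrrCharacter G)} {P : Subgroup G}
    (hPD : IsDefectGroup p M B P) (hPp : IsPGroup p P)
    {c : Set (IrrCharacter (Subgroup.centralizer (P : Set G)))}
    (hc : IsInducedBlock M (Subgroup.centralizer (P : Set G)) c B) :
    IsMaximalBrauerPair p M B P c :=
  isMaximal_of_defectGroup hM hPD ((isBrauerPairOf_iff_induced hM hPp hc.1).2 hc)

omit [Fintype G] in
theorem centralizer_le_centralizer {P Q : Subgroup G} (hQP : Q ≤ P) :
    Subgroup.centralizer (P : Set G) ≤ Subgroup.centralizer (Q : Set G) :=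
  fun _ hx => Subgroup.mem_centralizer_iff.2 fun q hq =>
    Subgroup.mem_centralizer_iff.1 hx q (hQP hq)

omit [Fintype G] in
theorem le_centralizer_of_abelian {P Q : Subgroup G} (hab : ∀ x ∈ P, ∀ y ∈ P, x * y = y * x)
    (hQP : Q ≤ P) : P ≤ Subgroup.centralizer (Q : Set G) :=
  fun _ hx => Subgroup.mem_centralizer_iff.2 fun q hq => hab q (hQP hq) _ hx

omit [Fintype G] in
theorem abelian_of_isCyclic {P : Subgroup G} (hcyc : IsCyclic P) :
    ∀ x ∈ P, ∀ y ∈ P, x * y = y * x := fun x hx y hy => by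
  obtain ⟨g, hg⟩ := hcyc.exists_zpow_surjective
  obtain ⟨m, hm⟩ := hg ⟨x, hx⟩
  obtain ⟨n, hn⟩ := hg ⟨y, hy⟩
  have h1 : (⟨x, hx⟩ : P) * ⟨y, hy⟩ = ⟨y, hy⟩ * ⟨x, hx⟩ := by
    rw [← hm, ← hn, ← zpow_add, ← zpow_add, add_comm]
  exact congrArg Subtype.val h1

theorem omega_incl_eq_sum {H K : Subgroup G} (hle : K ≤ H) (ξ : K → ℂ) {F : H → ℂ}
    (hF : IsClassFunction H F) :
    omega ξ (fun k : K => F (⟨(k : G), hle k.2⟩ : H))
      = ∑ C : ConjClasses H, F C.out * inducedCentralCharIn H K ξ (C.out : G) := by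
  have hcl : ∀ h : H, inducedCentralCharIn H K ξ (h : G)
      = omega ξ (fun k : K => classInd h (⟨(k : G), hle k.2⟩ : H)) := by
    intro h
    rw [inducedCentralCharIn, omega, finsum_mem_eq_toFinset_sum, Finset.sum_div,
      Set.toFinset_ofPred, Finset.sum_filter]
    refine Finset.sum_congr rfl fun k _ => ?_
    have e : (∃ x : H, (x : G) * (k : G) * (x : G)⁻¹ = h)
        ↔ IsConj h (⟨(k : G), hle k.2⟩ : H) := by
      rw [isConj_comm, isConj_iff]
      exact exists_congr fun x => by rw [Subtype.ext_iff]; simp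
    unfold classInd
    by_cases hc : IsConj h (⟨(k : G), hle k.2⟩ : H)
    · rw [if_pos (e.2 hc), if_pos hc, one_mul]
    · rw [if_neg (fun h' => hc (e.1 h')), if_neg hc, zero_mul, zero_div]
  simp only [hcl, omega, mul_div, ← Finset.sum_div]
  congr 1
  simp only [Finset.mul_sum]
  rw [Finset.sum_comm]
  refine Finset.sum_congr rfl fun k _ => ?_
  rw [show F (⟨(k : G), hle k.2⟩ : H) = ∑ C : ConjClasses H, F C.out
      * classInd C.out (⟨(k : G), hle k.2⟩ : H) from by
    convert classFunction_eq_sum_classInd hF (⟨(k : G), hle k.2⟩ : H) using 2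
    ext; simp,
    Finset.sum_mul]
  refine Finset.sum_congr rfl fun C _ => ?_
  ring

theorem omega_incl_congr (hM : IsPModular p M) {H K : Subgroup G} (hle : K ≤ H) (ξ : K → ℂ)
    (χ : IrrCharacter H) {F : H → ℂ} (hF : IsClassFunction H F) (hR : ∀ x, MemLocalRing M (F x))
    (h : ∀ x : H, MemLocalIdeal M
      (inducedCentralCharIn H K ξ (x : G) - centralChar (χ : H → ℂ) x)) :
    MemLocalIdeal M (omega ξ (fun k : K => F (⟨(k : G), hle k.2⟩ : H))
      - omega (χ : H → ℂ) F) := by
  rw [omega_incl_eq_sum hle ξ hF,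
    show omega (χ : H → ℂ) F = ∑ C : ConjClasses H, F C.out * centralChar (χ : H → ℂ) C.out from by
      convert omega_eq_sum_centralChar χ hF using 2
      ext; simp,
    ← Finset.sum_sub_distrib]
  refine LI.sum hM fun C _ => ?_
  rw [← mul_sub]
  exact LI.mul_left hM (hR _) (h _)

/-- Induction inside `C_G(Q)` from `C_G(P)` is inclusion of Brauer pairs (`P` abelian). -/
theorem normalSubpair_of_inducedIn (hM : IsPModular p M) {P Q : Subgroup G} (hQP : Q ≤ P)
    (hab : ∀ x ∈ P, ∀ y ∈ P, x * y = y * x) (hPp : IsPGroup p P)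
    {c : Set (IrrCharacter (Subgroup.centralizer (P : Set G)))}
    {f : Set (IrrCharacter (Subgroup.centralizer (Q : Set G)))}
    (hf : IsInducedBlockIn M (Subgroup.centralizer (Q : Set G))
      (Subgroup.centralizer (P : Set G)) c f) :
    IsNormalSubpair p M Q f P c := by
  have hPC := le_centralizer_of_abelian hab hQP
  have hPN : P ≤ Subgroup.normalizer (Q : Set G) := fun x hx =>
    Subgroup.centralizer_le_normalizer _ (hPC hx)
  refine ⟨⟨hPp.to_le hQP, hf.2.1⟩, ⟨hPp, hf.1⟩, hQP, hPN, fun x hx => ?_, fun ξ hξ => ?_⟩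
  · refine (stabilizesBlock_iff _ f x).2
      ⟨normalizer_le_normalizer_centralizer Q (hPN hx), fun g => ?_⟩
    by_cases hg : g ∈ Subgroup.centralizer (Q : Set G)
    · have hxg : x * g * x⁻¹ ∈ Subgroup.centralizer (Q : Set G) :=
        Subgroup.mul_mem _ (Subgroup.mul_mem _ (hPC hx) hg) (Subgroup.inv_mem _ (hPC hx))
      rw [bc_of_mem hxg, bc_of_mem hg]
      exact blockCoeff_isClassFunction f ⟨g, hg⟩ ⟨x, hPC hx⟩
    · have hxg : x * g * x⁻¹ ∉ Subgroup.centralizer (Q : Set G) := fun h => hg (by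
        simpa [mul_assoc] using Subgroup.mul_mem _ (Subgroup.mul_mem _
          (Subgroup.inv_mem _ (hPC hx)) h) (hPC hx))
      rw [bc_of_notMem hxg, bc_of_notMem hg]
  obtain ⟨χ, hχ⟩ := IsPBlock.nonempty hM hf.2.1
  have hle := centralizer_le_centralizer hQP
  have h1 := omega_incl_congr hM hle (ξ : Subgroup.centralizer (P : Set G) → ℂ) χ
    (blockCoeff_isClassFunction f) (blockCoeff_LR hM hf.2.1) (hf.2.2 ξ hξ χ hχ)
  rw [omega_blockCoeff, blockInd_of_mem hχ] at h1
  rw [brauerOmega_eq_omega,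
    show (fun k : Subgroup.centralizer (P : Set G) =>
        subgroupBlockCoeff (Subgroup.centralizer (Q : Set G)) f (k : G))
      = fun k : Subgroup.centralizer (P : Set G) =>
        blockCoeff f (⟨(k : G), hle k.2⟩ : Subgroup.centralizer (Q : Set G)) from
      funext fun k => bc_of_mem (hle k.2) f]
  exact h1

theorem stab_eq_pairStab {P : Subgroup G}
    {c : Set (IrrCharacter (Subgroup.centralizer (P : Set G)))} {T : Subgroup G}
    (hT : ∀ g : G, g ∈ T ↔ (g ∈ Subgroup.normalizer (P : Set G)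
      ∧ StabilizesBlock (Subgroup.centralizer (P : Set G)) c g)) :
    T = pairStab P c :=
  SetLike.ext fun g => (hT g).trans (mem_pairStab g).symm

theorem centralizer_le_pairStab {P : Subgroup G}
    (c : Set (IrrCharacter (Subgroup.centralizer (P : Set G)))) :
    Subgroup.centralizer (P : Set G) ≤ pairStab P c := fun x hx => by
  refine (mem_pairStab x).2 ⟨Subgroup.centralizer_le_normalizer _ hx,
    (stabilizesBlock_iff _ c x).2 ⟨Subgroup.le_normalizer hx, fun g => ?_⟩⟩
  by_cases hg : g ∈ Subgroup.centralizer (P : Set G)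
  · rw [bc_of_mem (Subgroup.mul_mem _ (Subgroup.mul_mem _ hx hg) (Subgroup.inv_mem _ hx)),
      bc_of_mem hg]
    exact blockCoeff_isClassFunction c ⟨g, hg⟩ ⟨x, hx⟩
  · rw [bc_of_notMem hg, bc_of_notMem fun h => hg (by
      simpa [mul_assoc] using Subgroup.mul_mem _ (Subgroup.mul_mem _
        (Subgroup.inv_mem _ hx) h) hx)]

omit [Fintype G] in
theorem pairStab_le_normalizer {P : Subgroup G}
    (c : Set (IrrCharacter (Subgroup.centralizer (P : Set G)))) :
    pairStab P c ≤ Subgroup.normalizer (P : Set G) := fun _ hx => hx.1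

end CfsgLib.BrouePuig
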