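import Cfsg.Agent.Lib.BrouePuig.Major
import Cfsg.Agent.Lib.BrouePuig.Inertial
import Cfsg.Agent.Lib.BrouePuig.Fusion
import Cfsg.Agent.Lib.Blocks.MajorContrib
import Cfsg.Agent.Lib.Blocks.CyclotomicDivide
import Cfsg.Agent.Lib.Blocks.GaloisProduct

/-!
# Heights and the centre of a defect group

The major subsections at the central elements of a defect group: their contributions to one
character form a Galois-stable family, each a positive multiple of `p ^ h`, and add up to at most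
`e * p ^ d`.
-/

set_option autoImplicit false

namespace CfsgLib.BrouePuig.CentralHeight

open Cfsg CfsgLib.Blocks CfsgLib.BrauerPairs
open scoped Classical ComplexConjugate

universe u

variable {p : ℕ} [Fact p.Prime] {M : Ideal AlgInt} {G : Type u} [Group G] [Fintype G]
  {B : Set (IrrCharacter G)} {P : Subgroup G}
  {e : Set (IrrCharacter (Subgroup.centralizer (P : Set G)))}

omit [Fact p.Prime] in
theorem card_cenZ_conj (y u : G) : Nat.card (cenZ (y * u * y⁻¹)) = Nat.card (cenZ u) := by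
  show Nat.card (Subgroup.centralizer
    ((Subgroup.zpowers (y * u * y⁻¹) : Subgroup G) : Set G)) = _
  rw [← map_conj_zpowers]
  exact (Nat.card_congr (centIso (Subgroup.zpowers u) y).toEquiv).symm

omit [Fact p.Prime] in
theorem le_cenZ (z : Subgroup.center P) : P ⊔ Subgroup.centralizer (P : Set G) ≤ cenZ ((z : P) : G) := by
  refine sup_le (fun x hx => ?_) (Subgroup.centralizer_le (Subgroup.zpowers_le.2 (z : P).2))
  rw [cenZ_eq, Subgroup.mem_centralizer_singleton_iff]
  exact congrArg Subtype.val (Subgroup.mem_center_iff.1 z.2 ⟨x, hx⟩)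

/-- The Brauer element below the maximal pair over a central element. -/
noncomputable def el (hM : IsPModular p M) (hP : IsBrauerPair p M P e) (z : Subgroup.center P) :
    BElem G :=
  bel hM hP (z : P)

variable (hM : IsPModular p M) (hmax : IsMaximalBrauerPair p M B P e)

include hmax in
theorem isElemOf_el (z : Subgroup.center P) : IsElemOf p M B (el hM hmax.1.1 z) :=
  isElemOf_of_below hM hmax (bel_below hM _ _)

include hmax in
theorem inf_cenZ (z : Subgroup.center P) : P ⊓ cenZ ((z : P) : G) = P :=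
  inf_eq_left.2 (le_sup_left.trans (le_cenZ z))

theorem defect_el (z : Subgroup.center P) :
    blockDefect p (el hM hmax.1.1 z).2 = blockDefect p B := by
  have hel := isElemOf_el hM hmax z
  have hP := card_defectGroup hM hmax.1.2.1 (isDefectGroup_of_isMaximal hM hmax)
  refine le_antisymm
    (blockDefect_le_of_induced hM ((isBrauerPairOf_iff_induced hM hel.1.1 hel.1.2).1 hel)) ?_
  obtain ⟨D, hD, hle⟩ := exists_defect_ge_centralizer hM hmax.1.1 (bel_below hM hmax.1.1 (z : P))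
  have h1 := Subgroup.card_le_of_le hle
  rw [Nat.card_congr (Subgroup.subgroupOfEquivOfLe inf_le_right).toEquiv] at h1
  have h2 : Nat.card (P ⊓ cenZ ((z : P) : G) : Subgroup G) ≤ p ^ blockDefect p (el hM hmax.1.1 z).2 :=
    h1.trans (card_defectGroup hM hel.1.2 hD).le
  rw [inf_cenZ hmax z, hP] at h2
  exact (Nat.pow_le_pow_iff_right (Fact.out : p.Prime).one_lt).1 h2

/-- Fusion between central elements of the defect group is realised by the stabilizer of the
maximal pair. -/
theorem exists_stab {z z₀ : Subgroup.center P} {y : G}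
    (h : act y (el hM hmax.1.1 z) = el hM hmax.1.1 z₀) :
    ∃ g ∈ pairStab P e, g * ((z : P) : G) * g⁻¹ = y * ((z : P) : G) * y⁻¹ := by
  have hP := hmax.1.1
  set F := blockFusion hM hP
  have hF := isBlockFusionSystemOn_blockFusion hM hmax
  have hzle : Subgroup.zpowers ((z : P) : G) ≤ P := Subgroup.zpowers_le.2 (z : P).2
  have hz₀ : y * ((z : P) : G) * y⁻¹ = ((z₀ : P) : G) := congrArg Sigma.fst h
  have hfn : CfsgLib.Fsys.Fn F (Subgroup.zpowers ((z : P) : G)) (fun x => y * x * y⁻¹) := by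
    refine (fn_iff hF).2 ⟨hzle, y, fun _ _ => rfl, (el hM hP z).2, bel_below hM hP _, ?_⟩
    show Below p M P e (conjPair y (el hM hP z).pair)
    rw [← pair_act, h]
    exact bel_below hM hP _
  have himg : CfsgLib.Fsys.img (fun x => y * x * y⁻¹) (Subgroup.zpowers ((z : P) : G))
      = Subgroup.zpowers ((z₀ : P) : G) := by
    rw [CfsgLib.Fsys.img_conj, map_conj_zpowers, hz₀]
  have hrec : F.IsReceptive (Subgroup.zpowers ((z₀ : P) : G)) := by
    refine receptive_of_card hM hF (bel_below hM hP (z₀ : P)) ?_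
    show Nat.card (P ⊓ cenZ ((z₀ : P) : G) : Subgroup G) = p ^ blockDefect p (el hM hP z₀).2
    rw [inf_cenZ hmax z₀, defect_el hM hmax z₀,
      card_defectGroup hM hmax.1.2.1 (isDefectGroup_of_isMaximal hM hmax)]
  obtain ⟨N, f, hf, hle, hN, hfe⟩ := CfsgLib.Fsys.receptive_extend hrec hfn himg
  have hcomm : ∀ n ∈ P, ∀ x ∈ Subgroup.zpowers ((z : P) : G), x * n = n * x := fun n hn x hx =>
    (Subgroup.mem_centralizer_iff.1 (le_cenZ z (Subgroup.mem_sup_left hn)) x hx)
  have hPN : P ≤ N := fun n hn => (hN n).2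
    ⟨hn, Subgroup.centralizer_le_normalizer _ (Subgroup.mem_centralizer_iff.2 (hcomm n hn)),
      1, P.one_mem, fun x hx => by
        show y * (n * x * n⁻¹) * y⁻¹ = 1 * (y * x * y⁻¹) * 1⁻¹
        rw [← hcomm n hn x hx, mul_inv_cancel_right, one_mul, inv_one, mul_one]⟩
  obtain rfl : N = P := le_antisymm (fun n hn => ((hN n).1 hn).1) hPN
  obtain ⟨-, g, hg, f₀, hf₀, hgf₀⟩ := (fn_iff hF).1 hf
  obtain rfl : f₀ = e :=
    eq_of_heq (Sigma.mk.inj_iff.1 (Below.eq hM hP hf₀ Relation.ReflTransGen.refl rfl)).2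
  have hmap : N.map (MulAut.conj g).toMonoidHom = N := by
    refine Subgroup.eq_of_le_of_card_ge hgf₀.le ?_
    rw [Subgroup.card_map_of_injective (MulAut.conj g).injective]
  have hpair : conjPair g ⟨N, f₀⟩ = ⟨N, f₀⟩ :=
    Below.eq hM hP hgf₀ Relation.ReflTransGen.refl hmap
  refine ⟨g, ⟨CfsgLib.Fsys.mem_normalizer_of_map_le fun x hx => hmap.le ⟨x, hx, rfl⟩, fun c => ?_⟩, ?_⟩
  · have h1 := congrArg (fun a : BrauerPairIdx G =>
      subgroupBlockCoeff (Subgroup.centralizer (a.1 : Set G)) a.2 (g * c * g⁻¹)) hpair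
    refine h1.symm.trans ?_
    exact bc_conjBlock N g f₀ c
  · have hzN : ((z : N) : G) ∈ N := (z : N).2
    rw [← hg _ hzN]
    exact hfe _ (Subgroup.mem_zpowers _)

/-- The scaled contribution at a pair, as a function of the pair and the element. -/
noncomputable def val (p : ℕ) (χ : IrrCharacter G) (a : BrauerPairIdx G) (x : G) : ℂ :=
  contrib p x (Subgroup.centralizer (a.1 : Set G)) a.2 χ χ / (p : ℂ) ^ minDegVal p a.2

omit [Fact p.Prime] in
theorem exists_poly {K : Subgroup G} {b : Set (IrrCharacter K)} {x : G} {z : K}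
    (hzx : (z : G) = x) (hz : z ∈ Subgroup.center K) (hM : IsPModular p M) {ζ : ℂ} {n : ℕ}
    [NeZero n] (hζ : IsPrimitiveRoot ζ n) (hn : z ^ n = 1) (χ : IrrCharacter G) :
    ∃ Q : Polynomial ℤ, ∀ j : ℕ,
      Polynomial.aeval (ζ ^ j) Q = contrib p (x ^ j) K b χ χ / (p : ℂ) ^ minDegVal p b := by
  have hc : ∀ ψ η : IrrCharacter K, ∃ w : ℤ,
      blockInd b ψ * blockInd b η * (resMult χ ψ * resMult χ η) *
        regInner p (ψ : K → ℂ) (η : K → ℂ) / (p : ℂ) ^ minDegVal p b = (w : ℂ) := by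
    intro ψ η
    by_cases hψ : ψ ∈ b
    · by_cases hη : η ∈ b
      · obtain ⟨a, ha⟩ := resMult_nat χ ψ
        obtain ⟨c, hc⟩ := resMult_nat χ η
        obtain ⟨w, hw⟩ := (pow_dvd_pow (p : ℤ) (minDegVal_le (p := p) hη)).trans
          (regInt_mod hM ψ η).1
        refine ⟨(a * c : ℕ) * w, ?_⟩
        rw [blockInd_of_mem hψ, blockInd_of_mem hη, ha, hc, ← cast_regInt hM.1, hw]
        push_cast
        field_simp [hM.1.ne_zero]
      · exact ⟨0, by simp [blockInd_of_notMem hη]⟩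
    · exact ⟨0, by simp [blockInd_of_notMem hψ]⟩
  choose w hw using hc
  have hi : ∀ {k : K}, k ^ n = 1 → ∀ ψ : IrrCharacter K, k ∈ Subgroup.center K →
      ∃ i : ℕ, centScalar ψ k = ζ ^ i := fun hk ψ hkc => by
    obtain ⟨i, -, hi⟩ := hζ.eq_pow_of_pow_eq_one (centScalar_pow_eq_one ψ hkc hk)
    exact ⟨i, hi.symm⟩
  choose i hi₁ using fun ψ => hi hn ψ hz
  choose i' hi₂ using fun ψ => hi (k := z⁻¹) (by rw [inv_pow, hn, inv_one]) ψ (inv_mem hz)
  have hpow : ∀ (ψ : IrrCharacter K) {k : K}, k ∈ Subgroup.center K → ∀ j : ℕ,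
      centScalar ψ (k ^ j) = centScalar ψ k ^ j := fun ψ k hk j => by
    conv_lhs => rw [centScalar, centScalar_pow ψ hk j, mul_div_assoc, div_self (irr_one_ne_zero ψ), mul_one]
  refine ⟨∑ ψ, ∑ η, Polynomial.C (w ψ η) * Polynomial.X ^ (i ψ + i' η), fun j => ?_⟩
  rw [contrib_eq_sum (z := z ^ j) (by rw [Subgroup.coe_pow, hzx]) (pow_mem hz j), Finset.sum_div]
  simp only [map_sum, map_mul, map_pow, Polynomial.aeval_X, Finset.sum_div, eq_intCast]
  refine Finset.sum_congr rfl fun ψ _ => Finset.sum_congr rfl fun η _ => ?_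
  rw [hpow ψ hz, ← inv_pow, hpow η (inv_mem hz), hi₁, hi₂]
  rw [map_intCast, ← hw]
  simp only [← pow_mul, pow_add, mul_comm j]
  ring

include hM hmax in
/-- **`p ^ (h + c) ≤ e * p ^ d`.** -/
theorem height_add_center_le {χ : IrrCharacter G} (hχ : χ ∈ B) :
    p ^ (degVal p χ - minDegVal p B) * Nat.card (Subgroup.center P)
      ≤ (P ⊔ Subgroup.centralizer (P : Set G)).relIndex (pairStab P e) * p ^ blockDefect p B := by
  have hp : p.Prime := hM.1
  have hP := hmax.1.1
  set d := blockDefect p B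
  set h := degVal p χ - minDegVal p B
  set Z := Subgroup.center P
  set H := P ⊔ Subgroup.centralizer (P : Set G)
  set T := pairStab P e
  let a : Z → BElem G := el hM hP
  let S : BElem G → ℝ := fun b =>
    ∑ c : cenZ b.1 with IsPRegular p c, Complex.normSq (secPart b.1 (cenZ b.1) b.2 χ c)
  have hS : ∀ b, secInner p χ χ b = (S b : ℂ) := fun b => by
    simp only [secInner, S, Complex.ofReal_sum, Complex.mul_conj]
  have hS0 : ∀ b, 0 ≤ S b := fun b => Finset.sum_nonneg fun c _ => Complex.normSq_nonneg _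
  have hel : ∀ z, IsElemOf p M B (a z) := isElemOf_el hM hmax
  have hd : ∀ z, blockDefect p (a z).2 = d := defect_el hM hmax
  have hSpos : ∀ z, 0 < S (a z) := fun z => by
    obtain ⟨c, hc, hne⟩ := exists_secPart_ne_zero_of_major hM (hel z) (hd z).ge hχ
    exact Finset.sum_pos' (fun c _ => Complex.normSq_nonneg _)
      ⟨c, Finset.mem_filter.2 ⟨Finset.mem_univ _, hc⟩, Complex.normSq_pos.2 hne⟩
  let Y : Z → ℝ := fun z => (p : ℝ) ^ d * S (a z) / Nat.card (cenZ (a z).1)
  have hpR : (0 : ℝ) < (p : ℝ) ^ d := pow_pos (Nat.cast_pos.2 hp.pos) d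
  have hK : ∀ b : BElem G, (0 : ℝ) < Nat.card (cenZ b.1) := fun b => Nat.cast_pos.2 Nat.card_pos
  have hYpos : ∀ z, 0 < Y z := fun z => div_pos (mul_pos hpR (hSpos z)) (hK _)
  have hY : ∀ z, (Y z : ℂ) = val p χ (a z).pair (a z).1 := fun z => by
    have h1 := secInner_eq_contrib hM χ χ (a := a z) (hel z).1.2
    rw [hS, pPartCard, Nat.cast_pow, ← blockDefect_add_min (p := p)
      (IsPBlock.nonempty hM (hel z).1.2), pow_add, hd z] at h1
    have hK0 : (Nat.card (cenZ (a z).1) : ℂ) ≠ 0 := Nat.cast_ne_zero.2 Nat.card_pos.ne'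
    have hm0 : (p : ℂ) ^ minDegVal p (a z).2 ≠ 0 := pow_ne_zero _ (Nat.cast_ne_zero.2 hp.ne_zero)
    show ((Y z : ℝ) : ℂ) = contrib p (a z).1 (cenZ (a z).1) (a z).2 χ χ /
      (p : ℂ) ^ minDegVal p (a z).2
    rw [show Y z = (p : ℝ) ^ d * S (a z) / Nat.card (cenZ (a z).1) from rfl, Complex.ofReal_div,
      Complex.ofReal_mul, Complex.ofReal_pow, Complex.ofReal_natCast, Complex.ofReal_natCast]
    refine (div_eq_div_iff hK0 hm0).2 ?_
    linear_combination h1
  -- upper bound
  let Φ : G × Z → BElem G := fun yz => act yz.1 (a yz.2)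
  have hmem : ∀ yz, Φ yz ∈ elems p M G := fun yz =>
    IsElemOf.mem hp (isElemOf_act yz.1 (hel yz.2))
  have hfib : ∀ b : BElem G, ∑ yz ∈ Finset.univ.filter (fun yz => Φ yz = b), Y yz.2
      ≤ (H.relIndex T : ℝ) * (p : ℝ) ^ d * S b := by
    intro b
    set Fb := Finset.univ.filter (fun yz => Φ yz = b)
    rcases Fb.eq_empty_or_nonempty with hemp | ⟨⟨y₀, z₀⟩, h₀⟩
    · rw [hemp, Finset.sum_empty]
      exact mul_nonneg (mul_nonneg (Nat.cast_nonneg _) hpR.le) (hS0 b)
    have h₀' : act y₀ (a z₀) = b := (Finset.mem_filter.1 h₀).2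
    set K₀ := cenZ (a z₀).1
    have hYb : ∀ yz ∈ Fb, Y yz.2 = (p : ℝ) ^ d * S b / Nat.card K₀ := by
      intro yz hyz
      have h1 : act yz.1 (a yz.2) = b := (Finset.mem_filter.1 hyz).2
      have h2 : Complex.ofReal (S (a yz.2)) = S b := by
        rw [← hS, ← hS, ← h1, secInner_act hM χ χ yz.1 (hel yz.2).1.2]
      have h3 : Nat.card (cenZ (a yz.2).1) = Nat.card K₀ := by
        rw [← card_cenZ_conj yz.1 (a yz.2).1, show K₀ = cenZ (a z₀).1 from rfl,
          ← card_cenZ_conj y₀ (a z₀).1]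
        exact congrArg (fun u : G => Nat.card (cenZ u))
          (congrArg Sigma.fst (h1.trans h₀'.symm))
      simp only [Y, Complex.ofReal_injective h2, h3]
    have hcard : (Fb.card : ℝ) ≤ (H.relIndex T : ℝ) * Nat.card K₀ := by
      let J : (T ⧸ H.subgroupOf T) × K₀ → G × G := fun rc =>
        (y₀ * (rc.2 : G) * ((rc.1.out : T) : G)⁻¹,
          ((rc.1.out : T) : G) * (a z₀).1 * ((rc.1.out : T) : G)⁻¹)
      have hle : Fb.card ≤ (Finset.univ.image J).card := by
        refine Finset.card_le_card_of_injOn (fun yz => (yz.1, ((yz.2 : P) : G))) ?_ ?_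
        · rintro ⟨y, z⟩ hyz
          have h1 : act y (a z) = b := (Finset.mem_filter.1 hyz).2
          have h2 : act (y₀⁻¹ * y) (a z) = a z₀ := by
            rw [act_mul, h1, ← h₀', act_inv_act]
          obtain ⟨g, hgT, hg⟩ := exists_stab hM hmax (z := z) (z₀ := z₀) h2
          have hz₀ : y₀⁻¹ * y * ((z : P) : G) * (y₀⁻¹ * y)⁻¹ = (a z₀).1 := congrArg Sigma.fst h2
          rw [hz₀] at hg
          set r : T ⧸ H.subgroupOf T := QuotientGroup.mk (⟨g, hgT⟩ : T)⁻¹
          obtain ⟨k, hk⟩ := QuotientGroup.mk_out_eq_mul (H.subgroupOf T) (⟨g, hgT⟩ : T)⁻¹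
          have hr : ((r.out : T) : G) = g⁻¹ * ((k : T) : G) := congrArg Subtype.val hk
          have hkK : ((k : T) : G) ∈ K₀ := le_cenZ z₀ k.2
          have hkz : ((k : T) : G) * (a z₀).1 = (a z₀).1 * ((k : T) : G) := by
            rw [show K₀ = cenZ (a z₀).1 from rfl, cenZ_eq,
              Subgroup.mem_centralizer_singleton_iff] at hkK
            exact hkK
          have hc : y₀⁻¹ * y * g⁻¹ * ((k : T) : G) ∈ K₀ := by
            refine K₀.mul_mem ?_ hkK
            rw [show K₀ = cenZ (a z₀).1 from rfl, cenZ_eq, Subgroup.mem_centralizer_singleton_iff]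
            conv_lhs => rw [← hg]
            conv_rhs => rw [← hz₀]
            group
          refine Finset.mem_image.2 ⟨(r, ⟨_, hc⟩), Finset.mem_univ _, Prod.ext ?_ ?_⟩
          · show y₀ * (y₀⁻¹ * y * g⁻¹ * ((k : T) : G)) * ((r.out : T) : G)⁻¹ = y
            rw [hr]
            group
          · show ((r.out : T) : G) * (a z₀).1 * ((r.out : T) : G)⁻¹ = ((z : P) : G)
            rw [hr, mul_assoc g⁻¹, hkz, ← hg]
            group
        · rintro ⟨y, z⟩ _ ⟨y', z'⟩ _ hyz
          obtain ⟨h1, h2⟩ := Prod.ext_iff.1 hyz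
          exact Prod.ext h1 (Subtype.ext (Subtype.ext h2))
      have h2 := hle.trans Finset.card_image_le
      rw [Finset.card_univ, Fintype.card_prod, ← Nat.card_eq_fintype_card,
        ← Nat.card_eq_fintype_card, ← Subgroup.index_eq_card] at h2
      exact_mod_cast h2
    rw [Finset.sum_congr rfl hYb, Finset.sum_const, nsmul_eq_mul]
    calc (Fb.card : ℝ) * ((p : ℝ) ^ d * S b / Nat.card K₀)
        ≤ ((H.relIndex T : ℝ) * Nat.card K₀) * ((p : ℝ) ^ d * S b / Nat.card K₀) :=
          mul_le_mul_of_nonneg_right hcard (div_nonneg (mul_nonneg hpR.le (hS0 b)) (Nat.cast_nonneg _))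
      _ = _ := by
          have := (hK (a z₀)).ne'
          field_simp
  have htot : ∑ b ∈ elems p M G, S b = Nat.card G := by
    apply Complex.ofReal_injective
    have h1 := classInner_star (hM := hM) (fun _ => (1 : ℂ)) (fun _ => (1 : ℂ)) χ χ
    simp only [map_one, one_mul, hS, ← Complex.ofReal_sum] at h1
    rw [show star hM (fun _ => (1 : ℂ)) χ = (χ : G → ℂ) from funext (star_one χ),
      CfsgLib.Char.classInner_irr_self χ.2] at h1
    rw [Complex.ofReal_natCast]
    have hG : (Nat.card G : ℂ) ≠ 0 := Nat.cast_ne_zero.2 Nat.card_pos.ne'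
    field_simp at h1
    exact h1.symm
  have hup : ∑ z, Y z ≤ (H.relIndex T : ℝ) * (p : ℝ) ^ d := by
    refine le_of_mul_le_mul_left ?_ (Nat.cast_pos.2 (Nat.card_pos (α := G)) : (0 : ℝ) < Nat.card G)
    calc (Nat.card G : ℝ) * ∑ z, Y z = ∑ yz : G × Z, Y yz.2 := by
          rw [Fintype.sum_prod_type]
          show _ = ∑ _y : G, ∑ z : Z, Y z
          rw [Finset.sum_const, Finset.card_univ, nsmul_eq_mul, Nat.card_eq_fintype_card]
      _ = ∑ b ∈ elems p M G, ∑ yz ∈ Finset.univ.filter (fun yz => Φ yz = b), Y yz.2 :=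
          (Finset.sum_fiberwise_of_maps_to (fun yz _ => hmem yz) _).symm
      _ ≤ ∑ b ∈ elems p M G, (H.relIndex T : ℝ) * (p : ℝ) ^ d * S b :=
          Finset.sum_le_sum fun b _ => hfib b
      _ = (Nat.card G : ℝ) * ((H.relIndex T : ℝ) * (p : ℝ) ^ d) := by
          rw [← Finset.mul_sum, htot]; ring
  -- lower bound
  haveI : NeZero (p ^ (d + 1)) := ⟨pow_ne_zero _ hp.ne_zero⟩
  obtain ⟨ζ, hζ⟩ : ∃ ζ : ℂ, IsPrimitiveRoot ζ (p ^ (d + 1)) :=
    ⟨_, Complex.isPrimitiveRoot_exp _ (NeZero.ne _)⟩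
  have hcardP : Nat.card P = p ^ d :=
    card_defectGroup hM hmax.1.2.1 (isDefectGroup_of_isMaximal hM hmax)
  have hord : ∀ z : Z, ((z : P) : G) ^ p ^ (d + 1) = 1 := fun z => by
    have h1 : ((z : P)) ^ p ^ d = 1 := hcardP ▸ pow_card_eq_one'
    rw [pow_succ, pow_mul, ← Subgroup.coe_pow, h1, Subgroup.coe_one, one_pow]
  have hQ : ∀ z : Z, ∃ Q : Polynomial ℤ, ∀ j : ℕ,
      Polynomial.aeval (ζ ^ j) Q = val p χ (a z).pair ((a z).1 ^ j) := fun z => by
    obtain ⟨zK, hzK, hzc⟩ := center_zpowers_mem (a z).1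
    exact exists_poly hzK hzc hM hζ
      (Subtype.ext (by rw [Subgroup.coe_pow, hzK]; exact hord z)) χ
  choose Q hQ using hQ
  have hint : ∀ z, IsIntegral ℤ ((Y z : ℂ) / ((p ^ h : ℕ) : ℂ)) := fun z => by
    obtain ⟨zK, hzK, hzc⟩ := center_zpowers_mem (a z).1
    obtain ⟨wf, hwf, -⟩ := MajorContrib.exists_scaled hM
      ((isBrauerPairOf_iff_induced hM (hel z).1.1 (hel z).1.2).1 (hel z)) (hd z) hzK hzc χ
    have hYA : (Y z : ℂ) ∈ Algebra.adjoin ℤ ({ζ} : Set ℂ) := by
      rw [hY, ← pow_one (a z).1, ← hQ z 1, pow_one]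
      exact Polynomial.aeval_mem_adjoin_singleton ℤ ζ
    have hR : MemLocalRing M ((Y z : ℂ) / (p : ℂ) ^ h) := by
      rw [hY]
      show MemLocalRing M (contrib p (a z).1 (cenZ (a z).1) (a z).2 χ χ /
        (p : ℂ) ^ minDegVal p (a z).2 / (p : ℂ) ^ h)
      rw [(hwf χ hχ).2, mul_div_cancel_left₀ _ (pow_ne_zero _ (Nat.cast_ne_zero.2 hp.ne_zero))]
      exact (hwf χ hχ).1
    rw [Nat.cast_pow]
    exact adjoin_le_integralClosure (CycloDiv.isIntegral_root hp hζ)
      (CycloDiv.div_prime_pow_mem hM hζ h hYA hR)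
  have hperm : ∀ j : ℕ, j.Coprime (p ^ (d + 1)) →
      ∃ σ : Z ≃ Z, ∀ z, Polynomial.aeval (ζ ^ j) (Q z) = (Y (σ z) : ℂ) := by
    intro j hj
    have hco : (Nat.card Z).Coprime j := by
      refine (Nat.Coprime.of_dvd_right ((Subgroup.card_subgroup_dvd_card Z).trans ?_) hj).symm
      rw [hcardP]
      exact pow_dvd_pow p (Nat.le_succ d)
    refine ⟨powCoprime hco, fun z => ?_⟩
    rw [hQ z j, hY]
    have hgen : Subgroup.zpowers ((a z).1 ^ j) = Subgroup.zpowers (a z).1 := by
      refine le_antisymm (Subgroup.zpowers_le.2 (pow_mem (Subgroup.mem_zpowers _) j)) ?_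
      have hc2 : j.Coprime (orderOf (a z).1) :=
        Nat.Coprime.of_dvd_right (orderOf_dvd_of_pow_eq_one (hord z)) hj
      obtain ⟨m, hm⟩ := exists_pow_eq_self_of_coprime hc2
      have h5 := pow_mem (Subgroup.mem_zpowers ((a z).1 ^ j)) m
      rw [hm] at h5
      exact Subgroup.zpowers_le.2 h5
    have e1 : (a (powCoprime hco z)).1 = (a z).1 ^ j := by
      show (((powCoprime hco z : Z) : P) : G) = _
      simp [powCoprime]
      rfl
    have e2 : (a (powCoprime hco z)).pair = (a z).pair :=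
      Below.eq hM hP (bel_below hM hP _) (bel_below hM hP _) (by
        show Subgroup.zpowers (a (powCoprime hco z)).1 = Subgroup.zpowers (a z).1
        rw [e1, hgen])
    rw [e2, e1]
  have hlow := GaloisProduct.card_mul_le_sum (pow_pos hp.pos (d + 1)) hζ Y hYpos Q hperm
    (pow_pos hp.pos h) hint
  have h3 := hlow.trans hup
  rw [← Nat.card_eq_fintype_card] at h3
  exact_mod_cast h3

end CfsgLib.BrouePuig.CentralHeight
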