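import Mathlib.Algebra.Polynomial.AlgebraMap
import Mathlib.Algebra.Polynomial.Roots
import Mathlib.FieldTheory.IsAlgClosed.Basic
import Mathlib.RingTheory.Nakayama
import Mathlib.RingTheory.IntegralClosure.IsIntegral.Basic
import Mathlib.RingTheory.IntegralClosure.Algebra.Basic
import Mathlib.RingTheory.Coprime.Lemmas
import Mathlib.Algebra.CharP.Basic
import Mathlib.Data.ZMod.Basic
import Mathlib.GroupTheory.Coset.Defs

/-!
# Idempotents in finite algebras

Spectral idempotents, lifting of idempotents from the residue algebra, and the splitting of an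
idempotent of trace type into `p` orthogonal conjugates.
-/

set_option autoImplicit false

namespace CfsgLib.BrouePuig

open Polynomial

/-! ### Spectral idempotents -/

section Field

variable {k : Type*} [Field k] {B : Type*} [Ring B] [Algebra k B] [Module.Finite k B]

/-- Every element has an idempotent polynomial in it, divisible by a power of it, off which it is
nilpotent. -/
theorem exists_spectral (x : B) :
    ∃ (n : ℕ) (h : k[X]), 0 < n ∧ IsIdempotentElem (x ^ n * aeval x h) ∧
      x ^ n * (1 - x ^ n * aeval x h) = 0 := by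
  obtain ⟨f, hf, hfx⟩ : ∃ f : k[X], f.Monic ∧ aeval x f = 0 := Algebra.IsIntegral.isIntegral x
  obtain ⟨g, hg, hgd⟩ := exists_eq_pow_rootMultiplicity_mul_and_not_dvd f hf.ne_zero 0
  simp only [map_zero, sub_zero] at hg hgd
  set n := rootMultiplicity 0 f + 1
  have hco : IsCoprime ((X : k[X]) ^ n) g :=
    ((Polynomial.prime_X.irreducible.coprime_iff_not_dvd).2 hgd).pow_left
  obtain ⟨a, b, hab⟩ := hco
  have h0 : aeval x (X ^ n * g) = 0 := by
    have : (X : k[X]) ^ n * g = X * f := by
      conv_rhs => rw [hg]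
      rw [← mul_assoc, ← pow_succ']
    rw [this, map_mul, hfx, mul_zero]
  refine ⟨n, a, Nat.succ_pos _, ?_, ?_⟩
  · show _ * _ = _
    have e : (X ^ n * a) * (X ^ n * a) = X ^ n * a - (X ^ n * g) * (a * b) := by
      linear_combination (X ^ n * a) * hab
    have := congrArg (aeval x) e
    rw [map_sub, map_mul (aeval x) (X ^ n * g), h0, zero_mul, sub_zero] at this
    simpa [map_mul, map_pow, aeval_X] using this
  · have e : (X : k[X]) ^ n * (1 - X ^ n * a) = (X ^ n * g) * b := by
      linear_combination -((X : k[X]) ^ n) * hab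
    have := congrArg (aeval x) e
    rw [map_mul (aeval x) (X ^ n * g), h0, zero_mul] at this
    simpa [map_mul, map_pow, map_sub, aeval_X] using this

theorem commute_aeval {R : Type*} [CommSemiring R] {A : Type*} [Semiring A] [Algebra R A] {x y : A}
    (h : Commute y x) (q : R[X]) : Commute y (aeval x q) := by
  induction q using Polynomial.induction_on' with
  | add a b ha hb => rw [map_add]; exact ha.add_right hb
  | monomial n r =>
    rw [aeval_monomial]
    exact (Algebra.commute_algebraMap_right r y).mul_right (h.pow_right n)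

variable (k) in
include k in
/-- An element of a corner is nilpotent, invertible in the corner, or splits the corner. -/
theorem corner_trichotomy {j x : B} (hj : IsIdempotentElem j) (hjx : j * x = x) (hxj : x * j = x) :
    IsNilpotent x ∨ (∃ y, j * y = y ∧ y * j = y ∧ x * y = j ∧ y * x = j ∧
        ∀ z, Commute z x → Commute z j → Commute z y) ∨
      ∃ e, IsIdempotentElem e ∧ e ≠ 0 ∧ e ≠ j ∧ j * e = e ∧ e * j = e ∧
        ∀ z, Commute z x → Commute z e := by
  obtain ⟨n, h, hn, he, hnil⟩ := exists_spectral (k := k) x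
  set e := x ^ n * aeval x h with hedef
  obtain ⟨m, rfl⟩ : ∃ m, n = m + 1 := ⟨n - 1, by omega⟩
  have hje : j * e = e := by rw [hedef, pow_succ', ← mul_assoc, ← mul_assoc, hjx]
  have hcomm : ∀ z, Commute z x → Commute z e := fun z hz =>
    (hz.pow_right _).mul_right (commute_aeval hz h)
  have hjxc : Commute j x := by show j * x = x * j; rw [hjx, hxj]
  have hej : e * j = e := by rw [← (hcomm j hjxc).eq, hje]
  by_cases he0 : e = 0
  · left
    rw [he0, sub_zero, mul_one] at hnil
    exact ⟨_, hnil⟩
  by_cases hej' : e = j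
  · right; left
    set y := x ^ m * aeval x h * j
    have hcy : Commute x y :=
      (((Commute.refl x).pow_right m).mul_right (commute_aeval (Commute.refl x) h)).mul_right
        hjxc.symm
    have hxy : x * y = j := by
      show x * (x ^ m * aeval x h * j) = j
      rw [← mul_assoc, ← mul_assoc, ← pow_succ', ← hedef, hej', hj.eq]
    refine ⟨y, ?_, ?_, hxy, by rw [← hcy.eq, hxy],
      fun z hz hzj => ((hz.pow_right m).mul_right (commute_aeval hz h)).mul_right hzj⟩
    · show j * (x ^ m * aeval x h * j) = x ^ m * aeval x h * j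
      rw [← mul_assoc, ((hjxc.pow_right m).mul_right (commute_aeval hjxc h)).eq, mul_assoc, hj.eq]
    · show x ^ m * aeval x h * j * j = _
      rw [mul_assoc, hj.eq]
  · exact Or.inr (Or.inr ⟨e, he, he0, hej', hje, hej, hcomm⟩)

end Field

/-! ### Lifting -/

section Lift

variable {R k : Type*} [CommRing R] [Field k] (π : R →+* k)
  {A B : Type*} [Ring A] [Ring B] [Algebra R A] [Algebra k B] [Module.Finite R A]
  (φ : A →+* B)

/-- An element reducing to `1` is a unit. -/
theorem isUnit_of_map_eq_one (hunit : ∀ r, π r ≠ 0 → IsUnit r)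
    (hker : ∀ z : A, φ z = 0 → z ∈ RingHom.ker π • (⊤ : Submodule R A))
    {x : A} (hx : φ x = 1) : IsUnit x := by
  set L : A →ₗ[R] A := LinearMap.mulLeft R x
  have hJ : RingHom.ker π ≤ Ideal.jacobson ⊥ := fun r hr =>
    Ideal.mem_jacobson_bot.2 fun s => hunit _ (by
      rw [map_add, map_mul, map_one, RingHom.mem_ker.1 hr, zero_mul, zero_add]
      exact one_ne_zero)
  have hle : (⊤ : Submodule R A) ≤ LinearMap.range L ⊔ RingHom.ker π • (⊤ : Submodule R A) := by
    intro a _
    have h : φ (a - x * a) = 0 := by rw [map_sub, map_mul, hx, one_mul, sub_self]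
    exact Submodule.mem_sup.2 ⟨x * a, ⟨a, rfl⟩, a - x * a, hker _ h, add_sub_cancel _ _⟩
  have htop : (⊤ : Submodule R A) ≤ LinearMap.range L :=
    Submodule.le_of_le_smul_of_le_jacobson_bot Module.Finite.fg_top hJ hle
  have hsurj : Function.Surjective L := fun a => htop (Submodule.mem_top (x := a))
  obtain ⟨b, hb⟩ := hsurj 1
  have hb' : x * b = 1 := hb
  have hinj : Function.Injective L := OrzechProperty.injective_of_surjective_endomorphism L hsurj
  refine ⟨⟨x, b, hb', hinj ?_⟩, rfl⟩
  show x * (b * x) = x * 1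
  rw [← mul_assoc, hb', one_mul, mul_one]

variable (hφ : ∀ (r : R) (a : A), φ (r • a) = π r • φ a)

include hφ in
theorem map_aeval (a : A) (q : R[X]) : φ (aeval a q) = aeval (φ a) (q.map π) := by
  induction q using Polynomial.induction_on' with
  | add q q' hq hq' => rw [map_add, map_add, Polynomial.map_add, map_add, hq, hq']
  | monomial n r =>
    rw [aeval_monomial, map_monomial, aeval_monomial, ← Algebra.smul_def, ← Algebra.smul_def, hφ,
      map_pow]

theorem aeval_idem {e : B} (he : IsIdempotentElem e) (q : k[X]) :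
    aeval e q = q.eval 0 • (1 - e) + q.eval 1 • e := by
  induction q using Polynomial.induction_on' with
  | add q q' hq hq' => rw [map_add, eval_add, eval_add, hq, hq', add_smul, add_smul]; abel
  | monomial n r =>
    rw [aeval_monomial, eval_monomial, eval_monomial, one_pow, mul_one, ← Algebra.smul_def]
    rcases Nat.eq_zero_or_pos n with rfl | hn
    · rw [pow_zero, pow_zero, mul_one, ← smul_add, sub_add_cancel]
    · obtain ⟨m, rfl⟩ := Nat.exists_eq_succ_of_ne_zero hn.ne'
      rw [he.pow_succ_eq, zero_pow (Nat.succ_ne_zero m), mul_zero, zero_smul, zero_add]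

include hφ in
/-- Lifting of an idempotent to a polynomial in a given preimage. -/
theorem exists_idem_lift (hunit : ∀ r, π r ≠ 0 → IsUnit r)
    (hsplit : ∀ f : R[X], f.Monic → ∃ s : Multiset R, f = (s.map fun r => X - C r).prod)
    {a : A} (ha : IsIdempotentElem (φ a)) :
    ∃ q : R[X], IsIdempotentElem (aeval a q) ∧ φ (aeval a q) = φ a := by
  classical
  obtain ⟨f, hf, hfa⟩ : ∃ f : R[X], f.Monic ∧ aeval a f = 0 := IsIntegral.of_finite R a
  set f' := X * (X - C 1) * f with hf'
  have hf'm : f'.Monic := (monic_X.mul (monic_X_sub_C 1)).mul hf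
  obtain ⟨s, hs⟩ := hsplit f' hf'm
  set f0 := ((s.filter fun r => π r = 0).map fun r => X - C r).prod with hf0
  set f1 := ((s.filter fun r => ¬ π r = 0).map fun r => X - C r).prod with hf1
  have h01 : f' = f0 * f1 := by
    rw [hs, hf0, hf1, ← Multiset.prod_add, ← Multiset.map_add, Multiset.filter_add_not]
  have hco : IsCoprime f0 f1 := by
    rw [hf0]
    refine Multiset.prod_induction (fun z => IsCoprime z f1) _ (fun a b ha hb => ha.mul_left hb)
      isCoprime_one_left fun z hz => ?_
    obtain ⟨r, hr, rfl⟩ := Multiset.mem_map.1 hz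
    rw [hf1]
    refine Multiset.prod_induction (fun w => IsCoprime (X - C r) w) _
      (fun a b ha hb => ha.mul_right hb) isCoprime_one_right fun w hw => ?_
    obtain ⟨r', hr', rfl⟩ := Multiset.mem_map.1 hw
    refine isCoprime_X_sub_C_of_isUnit_sub (hunit _ ?_)
    rw [map_sub, (Multiset.mem_filter.1 hr).2, zero_sub, neg_ne_zero]
    exact (Multiset.mem_filter.1 hr').2
  obtain ⟨u, v, huv⟩ := hco
  have hkill : aeval a (f0 * f1) = 0 := by rw [← h01, hf', map_mul, hfa, mul_zero]
  refine ⟨u * f0, ?_, ?_⟩
  · have e : (u * f0) * (u * f0) = u * f0 - (f0 * f1) * (u * v) := by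
      linear_combination (u * f0) * huv
    have := congrArg (aeval a) e
    rw [map_sub, map_mul (aeval a) (f0 * f1), hkill, zero_mul, sub_zero, map_mul] at this
    exact this
  · rw [map_aeval π φ hφ, aeval_idem ha]
    -- `0` and `1` are roots of `f'`
    have hroot : ∀ c : k, f'.map π ≠ 0 → (f'.map π).eval c = 0 → ∃ r ∈ s, π r = c := by
      intro c _ hc
      rw [hs, Polynomial.map_multiset_prod, eval_multiset_prod, Multiset.prod_eq_zero_iff] at hc
      simp only [Multiset.map_map, Multiset.mem_map, Function.comp_apply] at hc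
      obtain ⟨r, hr, h⟩ := hc
      refine ⟨r, hr, ?_⟩
      rw [Polynomial.map_sub, map_X, map_C, eval_sub, eval_X, eval_C, sub_eq_zero] at h
      exact h.symm
    have hne : f'.map π ≠ 0 := (hf'm.map π).ne_zero
    obtain ⟨r0, hr0, hr00⟩ := hroot 0 hne (by simp [hf'])
    obtain ⟨r1, hr1, hr11⟩ := hroot 1 hne (by simp [hf'])
    have e0 : (f0.map π).eval 0 = 0 := by
      rw [hf0, Polynomial.map_multiset_prod, eval_multiset_prod, Multiset.prod_eq_zero_iff]
      simp only [Multiset.map_map, Multiset.mem_map, Function.comp_apply]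
      exact ⟨r0, Multiset.mem_filter.2 ⟨hr0, hr00⟩, by simp [hr00]⟩
    have e1 : (f1.map π).eval 1 = 0 := by
      rw [hf1, Polynomial.map_multiset_prod, eval_multiset_prod, Multiset.prod_eq_zero_iff]
      simp only [Multiset.map_map, Multiset.mem_map, Function.comp_apply]
      exact ⟨r1, Multiset.mem_filter.2 ⟨hr1, by rw [hr11]; exact one_ne_zero⟩, by simp [hr11]⟩
    have h1 := congrArg (fun z : R[X] => (z.map π).eval 1) huv
    simp only [Polynomial.map_add, Polynomial.map_mul, eval_add, eval_mul, e1, mul_zero, add_zero,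
      Polynomial.map_one, eval_one] at h1
    rw [Polynomial.map_mul, eval_mul, eval_mul, e0, mul_zero, zero_smul, zero_add, h1, one_smul]

end Lift

/-! ### Splitting an idempotent of trace type -/

section Split

variable {k : Type*} [Field k] {p : ℕ} [hp : Fact p.Prime] [CharP k p]
  {B : Type*} [Ring B] [Algebra k B] [Module.Finite k B]

/-- A shift-closed polynomial with split roots separates into `p` shifted coprime factors. -/
theorem exists_shift_idem (hsplit : ∀ f : k[X], f.Monic → ∃ s : Multiset k, f = (s.map fun r => X - C r).prod)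
    (f : k[X]) (hf : f.Monic) :
    ∃ F g : k[X], f ∣ F ∧
      F ∣ (∑ c ∈ Finset.range p, g.comp (X - C (c : k))) - 1 ∧
      (∀ c < p, ∀ d < p, c ≠ d → F ∣ g.comp (X - C (c : k)) * g.comp (X - C (d : k))) ∧
      ∀ c < p, F ∣ g.comp (X - C (c : k)) * g.comp (X - C (c : k)) - g.comp (X - C (c : k)) := by
  classical
  obtain ⟨s, hs⟩ := hsplit f hf
  let rep : k → k := fun z => (z : k ⧸ AddSubgroup.zmultiples (1 : k)).out
  set S0 := s.toFinset.image rep
  set m := Multiset.card s
  set Φ : ℕ → k[X] := fun c => ∏ z ∈ S0, (X - C (z + (c : k))) ^ m with hΦ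
  set F := ∏ c ∈ Finset.range p, Φ c with hF
  have hrep : ∀ z : k, ∃ c < p, z = rep z + (c : k) := by
    intro z
    have h := QuotientAddGroup.eq.1
      (Quotient.out_eq (z : k ⧸ AddSubgroup.zmultiples (1 : k)))
    obtain ⟨i, hi⟩ := AddSubgroup.mem_zmultiples_iff.1 h
    have hp0 : (0 : ℤ) < p := by exact_mod_cast hp.out.pos
    refine ⟨(i % p).toNat, by
      have := Int.emod_lt_of_pos i hp0
      have := Int.emod_nonneg i hp0.ne'
      omega, ?_⟩
    have h2 : (((i % p).toNat : ℕ) : k) = (i : k) := by
      have e : ((i % p).toNat : ℤ) = i % p := Int.toNat_of_nonneg (Int.emod_nonneg i hp0.ne')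
      have h3 : (((i % p).toNat : ℤ) : k) = ((i % p : ℤ) : k) := by rw [e]
      rw [Int.cast_natCast] at h3
      rw [h3]
      conv_rhs => rw [← Int.emod_add_mul_ediv i p]
      simp
    rw [zsmul_one] at hi
    show z = _ + _
    rw [h2, hi]
    abel
  have hfdvd : f ∣ F := by
    rw [hs]
    refine dvd_trans (b := ∏ z ∈ s.toFinset, (X - C z) ^ m) ?_ ?_
    · rw [Finset.prod_multiset_map_count]
      exact Finset.prod_dvd_prod_of_dvd _ _ fun z hz => pow_dvd_pow _ (Multiset.count_le_card z s)
    · have hFe : F = ∏ x ∈ Finset.range p ×ˢ S0, (X - C (x.2 + (x.1 : k))) ^ m := by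
        rw [hF, hΦ, Finset.prod_product]
      rw [hFe]
      choose c hc hz using hrep
      have hinj : Set.InjOn (fun z => (c z, rep z)) s.toFinset := by
        intro z _ z' _ h
        simp only [Prod.mk.injEq] at h
        rw [hz z, hz z', h.1, h.2]
      calc ∏ z ∈ s.toFinset, (X - C z) ^ m
          = ∏ x ∈ s.toFinset.image (fun z => (c z, rep z)), (X - C (x.2 + (x.1 : k))) ^ m := by
            rw [Finset.prod_image hinj]
            exact Finset.prod_congr rfl fun z _ => by rw [← hz z]
        _ ∣ _ := Finset.prod_dvd_prod_of_subset _ _ _ fun x hx => by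
            obtain ⟨z, hz', rfl⟩ := Finset.mem_image.1 hx
            exact Finset.mem_product.2 ⟨Finset.mem_range.2 (hc z), Finset.mem_image_of_mem _ hz'⟩
  have hcastinj : ∀ c < p, ∀ d < p, (c : k) = d → c = d := fun c hc d hd h =>
    CharP.natCast_injOn_Iio k p (Set.mem_Iio.2 hc) (Set.mem_Iio.2 hd) h
  have hco : ∀ c < p, ∀ d < p, c ≠ d → IsCoprime (Φ c) (Φ d) := by
    intro c hc d hd hcd
    refine IsCoprime.prod_left fun z hz => IsCoprime.prod_right fun w hw => ?_
    refine (isCoprime_X_sub_C_of_isUnit_sub (isUnit_iff_ne_zero.2 fun h => hcd ?_)).pow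
    have hzw : z = w := by
      obtain ⟨z₀, -, rfl⟩ := Finset.mem_image.1 hz
      obtain ⟨w₀, -, rfl⟩ := Finset.mem_image.1 hw
      have hq : ((rep z₀ : k) : k ⧸ AddSubgroup.zmultiples (1 : k)) = (rep w₀ : k) := by
        refine QuotientAddGroup.eq.2 ⟨(c : ℤ) - d, ?_⟩
        show ((c : ℤ) - d) • (1 : k) = _
        rw [zsmul_one, Int.cast_sub, Int.cast_natCast, Int.cast_natCast]
        linear_combination h
      simp only [rep, Quotient.out_eq] at hq
      show rep z₀ = rep w₀
      simp only [rep, hq]
    subst hzw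
    exact hcastinj c hc d hd (by linear_combination h)
  have hshift : ∀ c d e : ℕ, (e : k) = (d : k) + c → (Φ d).comp (X - C (c : k)) = Φ e := by
    intro c d e he
    simp only [hΦ, prod_comp, pow_comp, sub_comp, X_comp, C_comp]
    refine Finset.prod_congr rfl fun z _ => ?_
    rw [sub_sub, ← C_add, he]
    ring_nf
  have hF0 : IsCoprime (∏ c ∈ Finset.Ico 1 p, Φ c) (Φ 0) :=
    IsCoprime.prod_left fun c hc => hco c (Finset.mem_Ico.1 hc).2 0 hp.out.pos
      (by have := (Finset.mem_Ico.1 hc).1; omega)
  obtain ⟨u, v, huv⟩ := hF0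
  obtain ⟨g, hg⟩ : ∃ g, g = u * ∏ c ∈ Finset.Ico 1 p, Φ c := ⟨_, rfl⟩
  set G' : ℕ → k[X] := fun c => g.comp (X - C (c : k))
  have hmodsum : ∀ c : ℕ, ∀ d < p, ∃ e < p, (e : k) = (d : k) + c := fun c d _ =>
    ⟨(d + c) % p, Nat.mod_lt _ hp.out.pos, by
      rw [← Nat.cast_add]
      conv_rhs => rw [← Nat.mod_add_div (d + c) p]
      push_cast
      rw [CharP.cast_eq_zero k p, zero_mul, add_zero]⟩
  -- `G' c` is `1` modulo `Φ c` and `0` modulo the others
  have hone : ∀ c < p, Φ c ∣ G' c - 1 := by
    intro c hc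
    refine ⟨-v.comp (X - C (c : k)), ?_⟩
    have h := congrArg (fun z : k[X] => z.comp (X - C (c : k))) huv
    simp only [add_comp, mul_comp, one_comp, hshift c 0 c (by simp)] at h
    show g.comp _ - 1 = _
    rw [hg, mul_comp]
    linear_combination h
  have hzero : ∀ c < p, ∀ d < p, d ≠ c → Φ d ∣ G' c := by
    intro c hc d hd hdc
    obtain ⟨e, he, hec⟩ := hmodsum (p - c) d hd
    have hde : (d : k) = (e : k) + c := by
      rw [hec, Nat.cast_sub hc.le, CharP.cast_eq_zero k p]; ring
    have he1 : e ∈ Finset.Ico 1 p := Finset.mem_Ico.2 ⟨Nat.one_le_iff_ne_zero.2 fun h => by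
      subst h
      simp only [Nat.cast_zero, zero_add] at hde
      exact hdc (hcastinj d hd c hc hde), he⟩
    rw [← hshift c e d hde]
    show _ ∣ g.comp _
    rw [hg, mul_comp]
    refine dvd_mul_of_dvd_right ?_ _
    exact map_dvd (compRingHom (X - C (c : k))) (Finset.dvd_prod_of_mem Φ he1)
  have hF' : ∀ q : k[X], (∀ d < p, Φ d ∣ q) → F ∣ q := fun q hq =>
    Finset.prod_dvd_of_coprime
      (fun c hc d hd hcd => hco c (Finset.mem_range.1 hc) d (Finset.mem_range.1 hd) hcd)
      fun d hd => hq d (Finset.mem_range.1 hd)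
  refine ⟨F, g, hfdvd, hF' _ fun d hd => ?_, fun c hc d hd hcd => hF' _ fun e he => ?_,
    fun c hc => hF' _ fun e he => ?_⟩
  · rw [← Finset.sum_erase_add _ _ (Finset.mem_range.2 hd), add_sub_assoc]
    exact dvd_add (Finset.dvd_sum fun c hc => hzero c
      (Finset.mem_range.1 (Finset.mem_erase.1 hc).2) d hd (Finset.mem_erase.1 hc).1.symm) (hone d hd)
  · by_cases hec : e = c
    · subst hec; exact dvd_mul_of_dvd_right (hzero d hd e he hcd) _
    · exact dvd_mul_of_dvd_left (hzero c hc e he hec) _
  · by_cases hec : e = c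
    · subst hec
      rw [← mul_sub_one]
      exact dvd_mul_of_dvd_right (hone e he) _
    · rw [← mul_sub_one]
      exact dvd_mul_of_dvd_left (hzero c hc e he hec) _

theorem aeval_mul_idem_sub {j y : B} (hj : IsIdempotentElem j) (hjy : Commute j y) (c : k) (q : k[X]) :
    aeval (y - c • j) q * j = aeval y (q.comp (X - C c)) * j := by
  rw [aeval_comp, map_sub, aeval_X, aeval_C, Algebra.algebraMap_eq_smul_one]
  induction q using Polynomial.induction_on' with
  | add q q' hq hq' => rw [map_add, map_add, add_mul, add_mul, hq, hq']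
  | monomial n r =>
    rw [aeval_monomial, aeval_monomial, mul_assoc, mul_assoc]
    congr 1
    induction n with
    | zero => simp
    | succ n ih =>
      have e1 : (y - c • j) * j = (y - c • 1) * j := by
        rw [sub_mul, sub_mul, smul_mul_assoc, smul_mul_assoc, hj.eq, one_mul]
      have hc : Commute (y - c • (1 : B)) j :=
        hjy.symm.sub_left ((Commute.one_left j).smul_left c)
      rw [pow_succ, pow_succ, mul_assoc, mul_assoc, e1, hc.eq, ← mul_assoc, ih, mul_assoc,
        ← hc.eq]

/-- An idempotent which is a sum of `p` conjugates is a sum of `p` orthogonal conjugate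
idempotents. -/
theorem exists_split (hsplit : ∀ f : k[X], f.Monic → ∃ s : Multiset k, f = (s.map fun r => X - C r).prod)
    (t : B →ₐ[k] B) {j a : B} (hj : IsIdempotentElem j) (htj : t j = j) (hja : j * a = a)
    (haj : a * j = a) (hta : (t^[p]) a = a) (hsum : ∑ c ∈ Finset.range p, (t^[c]) a = j) :
    ∃ i : B, IsIdempotentElem i ∧ j * i = i ∧ i * j = i ∧
      (∑ c ∈ Finset.range p, (t^[c]) i = j) ∧
      (∀ c < p, ∀ d < p, c ≠ d → (t^[c]) i * (t^[d]) i = 0) ∧ (t^[p]) i = i ∧
      ∀ S : Subalgebra k B, j ∈ S → (∀ c, (t^[c]) a ∈ S) → i ∈ S := by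
  set y := ∑ c ∈ Finset.range p, (c : k) • (t^[c]) a with hy
  have hp1 := hp.out.pos
  have hjt : ∀ c, j * (t^[c]) a = (t^[c]) a ∧ (t^[c]) a * j = (t^[c]) a := by
    intro c
    induction c with
    | zero => exact ⟨hja, haj⟩
    | succ c ih =>
      rw [Function.iterate_succ_apply']
      constructor
      · conv_lhs => rw [← htj, ← map_mul, ih.1]
      · conv_lhs => rw [← htj, ← map_mul, ih.2]
  have hjy : j * y = y := by
    rw [hy, Finset.mul_sum]
    exact Finset.sum_congr rfl fun c _ => by rw [mul_smul_comm, (hjt c).1]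
  have hyj : y * j = y := by
    rw [hy, Finset.sum_mul]
    exact Finset.sum_congr rfl fun c _ => by rw [smul_mul_assoc, (hjt c).2]
  have hcy : Commute j y := by show j * y = y * j; rw [hjy, hyj]
  have hty : t y = y - j := by
    have e1 : t y + j = ∑ c ∈ Finset.range p, ((c + 1 : ℕ) : k) • (t^[c + 1]) a := by
      have htj' : j = t j := htj.symm
      rw [htj', ← map_add, ← hsum, hy, ← Finset.sum_add_distrib, map_sum]
      refine Finset.sum_congr rfl fun c _ => ?_
      rw [map_add, map_smul, Function.iterate_succ_apply']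
      push_cast
      rw [add_smul, one_smul]
    have e2 : ∑ c ∈ Finset.range p, ((c + 1 : ℕ) : k) • (t^[c + 1]) a = y := by
      have h1 := Finset.sum_range_succ' (fun c => (c : k) • (t^[c]) a) p
      have h2 := Finset.sum_range_succ (fun c => (c : k) • (t^[c]) a) p
      simp only [Nat.cast_zero, zero_smul, add_zero, CharP.cast_eq_zero k p] at h1 h2
      rw [← h1, h2]
    rw [eq_sub_iff_add_eq, e1, e2]
  have hiter : ∀ c : ℕ, (t^[c]) y = y - (c : k) • j := by
    intro c
    induction c with
    | zero => simp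
    | succ c ih =>
      rw [Function.iterate_succ_apply', ih, map_sub, map_smul, htj, hty]
      push_cast
      rw [add_smul, one_smul]; abel
  obtain ⟨f, hf, hfy⟩ : ∃ f : k[X], f.Monic ∧ aeval y f = 0 := Algebra.IsIntegral.isIntegral y
  obtain ⟨F, g, hfF, hs1, hs2, hs3⟩ := exists_shift_idem (p := p) hsplit f hf
  have hzero : ∀ q, F ∣ q → aeval y q = 0 := by
    intro q hq
    obtain ⟨w, rfl⟩ := hfF.trans hq
    rw [map_mul, hfy, zero_mul]
  set i := aeval y g * j
  have hci : ∀ q : k[X], Commute j (aeval y q) := fun q => commute_aeval hcy q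
  have htaeval : ∀ (c : ℕ) (z : B) (q : k[X]), (t^[c]) (aeval z q) = aeval ((t^[c]) z) q := by
    intro c z q
    induction c with
    | zero => rfl
    | succ c ih => rw [Function.iterate_succ_apply', ih, Function.iterate_succ_apply', aeval_algHom_apply]
  have htmul : ∀ (c : ℕ) (z w : B), (t^[c]) (z * w) = (t^[c]) z * (t^[c]) w := by
    intro c z w
    induction c with
    | zero => rfl
    | succ c ih => simp only [Function.iterate_succ_apply', ih, map_mul]
  have hti : ∀ c : ℕ, (t^[c]) i = aeval y (g.comp (X - C (c : k))) * j := by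
    intro c
    have htjc : (t^[c]) j = j := Function.iterate_fixed htj c
    rw [htmul, htaeval, hiter, htjc, aeval_mul_idem_sub hj hcy]
  have hmul : ∀ q q' : k[X], aeval y q * j * (aeval y q' * j) = aeval y (q * q') * j := by
    intro q q'
    rw [mul_assoc, ← mul_assoc j, (hci q').eq, mul_assoc (aeval y q') j j, hj.eq, ← mul_assoc, ← map_mul]
  refine ⟨i, ?_, ?_, ?_, ?_, ?_, ?_, ?_⟩
  · have h := hzero _ (hs3 0 hp1)
    simp only [Nat.cast_zero, map_zero, sub_zero, comp_X] at h
    rw [map_sub, sub_eq_zero] at h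
    show i * i = i
    rw [hmul, h]
  · show j * (aeval y g * j) = aeval y g * j
    rw [← mul_assoc, (hci g).eq, mul_assoc, hj.eq]
  · show aeval y g * j * j = _
    rw [mul_assoc, hj.eq]
  · have h := hzero _ hs1
    rw [map_sub, map_one, sub_eq_zero, map_sum] at h
    simp only [hti, ← Finset.sum_mul, h, one_mul]
  · intro c hc d hd hcd
    rw [hti, hti, hmul, hzero _ (hs2 c hc d hd hcd), zero_mul]
  · rw [hti, CharP.cast_eq_zero k p, map_zero, sub_zero, comp_X]
  · intro S hjS haS
    have hyS : y ∈ S := sum_mem fun c _ => Subalgebra.smul_mem S (haS c) _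
    refine S.mul_mem ?_ hjS
    have : aeval y g = ((aeval (⟨y, hyS⟩ : S) g : S) : B) := by
      rw [show ((aeval (⟨y, hyS⟩ : S) g : S) : B) = S.val (aeval (⟨y, hyS⟩ : S) g) from rfl,
        ← aeval_algHom_apply]
      rfl
    rw [this]
    exact Subtype.coe_prop _

end Split

end CfsgLib.BrouePuig
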