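import Cfsg.Agent.Lib.BrouePuig.Tau
import Mathlib.GroupTheory.Sylow
import Mathlib.GroupTheory.IndexNormal

/-!
# A primitive idempotent killed by the Brauer map is induced from a maximal subgroup
-/

set_option autoImplicit false

namespace CfsgLib.BrouePuig

open Cfsg CfsgLib.Blocks CfsgLib.Blocks.ResidueAlgebra CfsgLib.BrauerPairs
open scoped Classical

variable {p : ℕ} {M : Ideal AlgInt} {G : Type*} [Group G] [Fintype G] {hM : IsPModular p M}

omit [Fintype G] in
theorem commute_left_of_commute_mul [Finite G] (hp : p.Prime) {q x z : G} {k : ℕ}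
    (hq : q ^ p ^ k = 1) (hx : ¬ p ∣ orderOf x) (hqx : Commute q x) (h : Commute (q * x) z) :
    Commute q z := by
  have hcop : (p ^ k).Coprime (orderOf x) := (hp.coprime_iff_not_dvd.2 hx).pow_left k
  obtain ⟨m, hm⟩ := Nat.chineseRemainder hcop 1 0
  have h1 : q ^ m = q := by
    conv_rhs => rw [← pow_one q]
    exact pow_eq_pow_iff_modEq.2 (hm.1.of_dvd (orderOf_dvd_of_pow_eq_one hq))
  have h2 : x ^ m = 1 := by
    rw [← pow_zero x]; exact pow_eq_pow_iff_modEq.2 hm.2
  have h3 := h.pow_left m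
  rwa [hqx.mul_pow, h1, h2, mul_one] at h3

/-- A normal subgroup of index `p` with a generator modulo it. -/
structure IdxP (p : ℕ) (Q S : Subgroup G) (t : G) : Prop where
  le : S ≤ Q
  mem : t ∈ Q
  norm : ∀ q ∈ Q, ∀ s ∈ S, q * s * q⁻¹ ∈ S
  pow : t ^ p ∈ S
  cov : ∀ q ∈ Q, ∃ c < p, (t ^ c)⁻¹ * q ∈ S
  uniq : ∀ c < p, ∀ d < p, (t ^ c)⁻¹ * t ^ d ∈ S → c = d

theorem IdxP.card_lt [hp : Fact p.Prime] {Q S : Subgroup G} {t : G} (h : IdxP p Q S t) :
    Nat.card S < Nat.card Q := by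
  by_contra hle
  have : S = Q := Subgroup.eq_of_le_of_card_ge h.le (not_lt.1 hle)
  have ht : (t ^ 0)⁻¹ * t ^ 1 ∈ S := by simpa using this.symm ▸ h.mem
  exact zero_ne_one (h.uniq 0 hp.out.pos 1 hp.out.one_lt ht)

theorem IdxP.norm' {Q S : Subgroup G} {t : G} (h : IdxP p Q S t) {q s : G} (hq : q ∈ Q) (hs : s ∈ S) :
    q⁻¹ * s * q ∈ S := by
  simpa using h.norm q⁻¹ (Q.inv_mem hq) s hs

theorem exists_idxP [hp : Fact p.Prime] {Q T : Subgroup G} (hQ : IsPGroup p Q) (hT : T < Q) :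
    ∃ (S : Subgroup G) (t : G), IdxP p Q S t ∧ T ≤ S := by
  obtain ⟨n, hn⟩ := IsPGroup.iff_card.1 hQ
  set T' := T.subgroupOf Q
  have hTc : Nat.card T' = Nat.card T := Nat.card_congr (Subgroup.subgroupOfEquivOfLe hT.le).toEquiv
  obtain ⟨m, hm⟩ := IsPGroup.iff_card.1 (hQ.to_le hT.le)
  have hmn : m < n := by
    by_contra hle
    refine hT.ne (Subgroup.eq_of_le_of_card_ge hT.le ?_)
    rw [hn, hm]
    exact Nat.pow_le_pow_right hp.out.pos (not_lt.1 hle)
  obtain ⟨S', hS'c, hS'⟩ := Sylow.exists_subgroup_card_pow_prime_le (G := Q) p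
    (n := m) (m := n - 1) (by rw [hn]; exact pow_dvd_pow p (Nat.sub_le n 1)) T' (hTc.trans hm)
    (by omega)
  have hidx : S'.index = p := by
    have h1 := S'.card_mul_index
    rw [hS'c, hn] at h1
    have h2 : p ^ n = p ^ (n - 1) * p := by
      rw [← pow_succ]; congr 1; omega
    rw [h2] at h1
    exact Nat.eq_of_mul_eq_mul_left (pow_pos hp.out.pos _) h1
  haveI hnorm : S'.Normal := Subgroup.normal_of_index_eq_minFac_card (by
    rw [hidx, hn, hp.out.pow_minFac (by omega)])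
  have hcard : Nat.card (Q ⧸ S') = p := hidx
  haveI : Nontrivial (Q ⧸ S') := Finite.one_lt_card_iff_nontrivial.1 (hcard ▸ hp.out.one_lt)
  obtain ⟨a, ha⟩ := exists_ne (1 : Q ⧸ S')
  obtain ⟨t, rfl⟩ := QuotientGroup.mk_surjective a
  have hord : orderOf (t : Q ⧸ S') = p :=
    (hp.out.eq_one_or_self_of_dvd _ (hcard ▸ orderOf_dvd_natCard _)).resolve_left
      fun h => ha (orderOf_eq_one_iff.1 h)
  have hmem : ∀ q : Q, (q : G) ∈ S'.map Q.subtype ↔ q ∈ S' := fun q => by simp
  refine ⟨S'.map Q.subtype, (t : G), ⟨?_, t.2, ?_, ?_, ?_, ?_⟩, ?_⟩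
  · rintro _ ⟨s, -, rfl⟩; exact s.2
  · rintro q hq _ ⟨s, hs, rfl⟩
    exact ⟨⟨q, hq⟩ * s * (⟨q, hq⟩ : Q)⁻¹, hnorm.conj_mem s hs _, rfl⟩
  · rw [← SubgroupClass.coe_pow, hmem, ← QuotientGroup.eq_one_iff]
    simpa [hord] using pow_orderOf_eq_one (t : Q ⧸ S')
  · intro q hq
    have : ((⟨q, hq⟩ : Q) : Q ⧸ S') ∈ Subgroup.zpowers (t : Q ⧸ S') := by
      have htop : Subgroup.zpowers (t : Q ⧸ S') = ⊤ :=
        Subgroup.eq_top_of_card_eq _ (by rw [Nat.card_zpowers, hord, hcard])
      rw [htop]; exact Subgroup.mem_top _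
    obtain ⟨c, hc, hceq⟩ := Finset.mem_image.1
      ((isOfFinOrder_of_finite (t : Q ⧸ S')).mem_zpowers_iff_mem_range_orderOf.1 this)
    refine ⟨c, hord ▸ Finset.mem_range.1 hc, ?_⟩
    have h2 : (t ^ c)⁻¹ * (⟨q, hq⟩ : Q) ∈ S' := QuotientGroup.eq.1 hceq
    exact (hmem ((t ^ c)⁻¹ * ⟨q, hq⟩)).2 h2
  · intro c hc d hd h
    have h2 : (t ^ c)⁻¹ * t ^ d ∈ S' := (hmem _).1 (by simpa using h)
    have h3 : (t : Q ⧸ S') ^ c = (t : Q ⧸ S') ^ d := QuotientGroup.eq.2 h2
    exact pow_injOn_Iio_orderOf (Set.mem_Iio.2 (hord.symm ▸ hc)) (Set.mem_Iio.2 (hord.symm ▸ hd)) h3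
  · intro x hx
    exact (hmem ⟨x, hT.le hx⟩).2 (hS' hx)

/-- The elements `q x`, acting by conjugation. -/
def SameOrbit (Q X : Subgroup G) (a b : G) : Prop :=
  ∃ q ∈ Q, ∃ x ∈ X, b = (q * x) * a * (q * x)⁻¹

theorem sameOrbit_equivalence {Q X : Subgroup G}
    (hQX : X ≤ Subgroup.centralizer (Q : Set G)) : Equivalence (SameOrbit Q X) := by
  refine ⟨fun a => ⟨1, Q.one_mem, 1, X.one_mem, by simp⟩, ?_, ?_⟩
  · rintro a b ⟨q, hq, x, hx, rfl⟩
    refine ⟨q⁻¹, Q.inv_mem hq, x⁻¹, X.inv_mem hx, ?_⟩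
    have h : Commute q⁻¹ x⁻¹ :=
      ((show Commute q x from Subgroup.mem_centralizer_iff.1 (hQX hx) q hq).inv_inv)
    rw [h.eq]; simp [mul_assoc]
  · rintro a b c ⟨q, hq, x, hx, rfl⟩ ⟨q', hq', x', hx', rfl⟩
    refine ⟨q' * q, Q.mul_mem hq' hq, x' * x, X.mul_mem hx' hx, ?_⟩
    have h : Commute q x' := Subgroup.mem_centralizer_iff.1 (hQX hx') q hq
    rw [show q' * q * (x' * x) = q' * x' * (q * x) by
      rw [mul_assoc, ← mul_assoc q, h.eq]; simp [mul_assoc]]
    simp [mul_assoc]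

/-- An element of trace type decomposes along the maximal subgroups. -/
theorem exists_trace_parts [hp : Fact p.Prime] {Q X : Subgroup G} (hQ : IsPGroup p Q)
    (hQX : X ≤ Subgroup.centralizer (Q : Set G)) (hX : ∀ x ∈ X, ¬ p ∣ orderOf x) {j : KAlg hM G}
    (hj : FixBy ((Q : Set G) ∪ X) j) (h0 : br Q j = 0) :
    ∃ (T : Finset G) (S : G → Subgroup G) (t : G → G) (a : G → KAlg hM G),
      (∀ r ∈ T, IdxP p Q (S r) (t r) ∧ FixBy ((S r : Set G) ∪ X) (a r)) ∧
      ∑ r ∈ T, ∑ c ∈ Finset.range p, cj (t r ^ c) (a r) = j := by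
  let st : Setoid G := ⟨SameOrbit Q X, sameOrbit_equivalence hQX⟩
  let rep : G → G := fun g => (Quotient.mk st g).out
  have hrep : ∀ g, SameOrbit Q X (rep g) g := fun g => Quotient.mk_out (s := st) g
  have hrep_eq : ∀ g g', SameOrbit Q X g g' → rep g = rep g' := fun g g' h =>
    congrArg Quotient.out (Quotient.sound (s := st) h)
  have hcent : ∀ g, g ∈ Subgroup.centralizer (Q : Set G) → ∀ q ∈ Q, ∀ x ∈ X,
      (q * x) * g * (q * x)⁻¹ ∈ Subgroup.centralizer (Q : Set G) := by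
    intro g hg q hq x hx
    refine Subgroup.mem_centralizer_iff.2 fun u hu => ?_
    have hx' : ∀ v ∈ Q, v * x = x * v := fun v hv => Subgroup.mem_centralizer_iff.1 (hQX hx) v hv
    have hu' : q⁻¹ * u * q ∈ Q := Q.mul_mem (Q.mul_mem (Q.inv_mem hq) hu) hq
    have hcx : Commute (q⁻¹ * u * q) x := hx' _ hu'
    have hc : Commute (q⁻¹ * u * q) (x * g * x⁻¹) :=
      (hcx.mul_right (Subgroup.mem_centralizer_iff.1 hg _ hu')).mul_right hcx.inv_right
    have := (hc.map (MulAut.conj q).toMonoidHom).eq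
    simpa [mul_assoc] using this
  set T := (Finset.univ.filter fun g => g ∉ Subgroup.centralizer (Q : Set G)).image rep
  have hT : ∀ r ∈ T, Q ⊓ Subgroup.centralizer ({r} : Set G) < Q ∧ rep r = r := by
    intro r hr
    obtain ⟨g, hg, rfl⟩ := Finset.mem_image.1 hr
    refine ⟨lt_of_le_of_ne inf_le_left fun h => (Finset.mem_filter.1 hg).2 ?_,
      hrep_eq _ _ (hrep g)⟩
    obtain ⟨q, hq, x, hx, hgq⟩ := hrep g
    rw [hgq]
    refine hcent _ (Subgroup.mem_centralizer_iff.2 fun u hu => ?_) q hq x hx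
    have : u ∈ Q ⊓ Subgroup.centralizer ({rep g} : Set G) := by rw [h]; exact hu
    exact Subgroup.mem_centralizer_singleton_iff.1 this.2
  have hch : ∀ r ∈ T, ∃ (S : Subgroup G) (t : G), IdxP p Q S t ∧
      Q ⊓ Subgroup.centralizer ({r} : Set G) ≤ S := fun r hr => exists_idxP hQ (hT r hr).1
  choose! S t hSt hstab using hch
  set a : G → KAlg hM G := fun r => MonoidAlgebra.ofCoeff (Finsupp.equivFunOnFinite.symm fun g =>
    if ∃ s ∈ S r, ∃ x ∈ X, g = (s * x) * r * (s * x)⁻¹ then j.coeff g else 0)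
  have hac : ∀ r g, (a r).coeff g
      = if ∃ s ∈ S r, ∃ x ∈ X, g = (s * x) * r * (s * x)⁻¹ then j.coeff g else 0 :=
    fun r g => by simp [a]
  refine ⟨T, S, t, a, fun r hr => ⟨hSt r hr, ?_⟩, ?_⟩
  · intro u hu
    refine (commute_single_iff u _).2 fun g => ?_
    rw [hac, hac, (commute_single_iff u j).1 (hj u (hu.imp (fun h => (hSt r hr).le h) id)) g]
    refine if_congr ⟨?_, ?_⟩ rfl rfl
    all_goals rintro ⟨s, hs, x, hx, h⟩
    · rcases hu with hu | hu
      · refine ⟨u⁻¹ * s, (S r).mul_mem ((S r).inv_mem hu) hs, x, hx, ?_⟩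
        have : g = u⁻¹ * (u * g * u⁻¹) * u := by simp [mul_assoc]
        rw [this, h]; simp [mul_assoc]
      · refine ⟨s, hs, u⁻¹ * x, X.mul_mem (X.inv_mem hu) hx, ?_⟩
        have hc : Commute u s :=
          (Subgroup.mem_centralizer_iff.1 (hQX hu) s ((hSt r hr).le hs)).symm
        rw [← mul_assoc s u⁻¹ x, ← hc.inv_left.eq]
        have : g = u⁻¹ * (u * g * u⁻¹) * u := by simp [mul_assoc]
        rw [this, h]; simp [mul_assoc]
    · rcases hu with hu | hu
      · exact ⟨u * s, (S r).mul_mem hu hs, x, hx, by rw [h]; simp [mul_assoc]⟩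
      · refine ⟨s, hs, u * x, X.mul_mem hu hx, ?_⟩
        have hc : Commute u s :=
          (Subgroup.mem_centralizer_iff.1 (hQX hu) s ((hSt r hr).le hs)).symm
        rw [← mul_assoc s u x, ← hc.eq, h]; simp [mul_assoc]
  · refine ext_coeff fun g => ?_
    simp only [MonoidAlgebra.coeff_sum, Finsupp.coe_finsetSum, Finset.sum_apply, coeff_cj, hac]
    by_cases hg : g ∈ Subgroup.centralizer (Q : Set G)
    · have hj0 : j.coeff g = 0 := by
        have := congrArg (fun z : KAlg hM G => z.coeff g) h0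
        simpa [coeff_br, hg] using this
      rw [hj0]
      refine Finset.sum_eq_zero fun r hr => Finset.sum_eq_zero fun c _ => ?_
      have htQ : t r ^ c ∈ Q := Q.pow_mem (hSt r hr).mem c
      rw [if_neg]
      rintro ⟨s, hs, x, hx, h⟩
      refine (hT r hr).1.ne (inf_eq_left.2 fun u hu => ?_)
      have hr' : r ∈ Subgroup.centralizer (Q : Set G) := by
        have h1 : (t r ^ c)⁻¹ * g * t r ^ c = g := by
          rw [mul_assoc, ← Subgroup.mem_centralizer_iff.1 hg _ htQ, inv_mul_cancel_left]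
        rw [h1] at h
        obtain ⟨q, hq, y, hy, hry⟩ := (sameOrbit_equivalence hQX).symm
          ⟨s, (hSt r hr).le hs, x, hx, h⟩
        rw [hry]; exact hcent g hg q hq y hy
      exact Subgroup.mem_centralizer_singleton_iff.2 (Subgroup.mem_centralizer_iff.1 hr' u hu)
    · have hrT : rep g ∈ T :=
        Finset.mem_image_of_mem _ (Finset.mem_filter.2 ⟨Finset.mem_univ _, hg⟩)
      obtain ⟨q, hq, x, hx, hgq⟩ := hrep g
      have hI := hSt _ hrT
      obtain ⟨c, hc, hcs⟩ := hI.cov q hq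
      have hval : ∀ r ∈ T, ∀ d : ℕ, (∃ s ∈ S r, ∃ y ∈ X,
          (t r ^ d)⁻¹ * g * t r ^ d = (s * y) * r * (s * y)⁻¹) →
          r = rep g ∧ (d < p → d = c) := by
        rintro r hr d ⟨s, hs, y, hy, h⟩
        have hg' : g = (t r ^ d * s * y) * r * (t r ^ d * s * y)⁻¹ := by
          have : g = t r ^ d * ((t r ^ d)⁻¹ * g * t r ^ d) * (t r ^ d)⁻¹ := by simp [mul_assoc]
          rw [this, h]; simp [mul_assoc]
        have hdQ : t r ^ d * s ∈ Q := Q.mul_mem (Q.pow_mem (hSt r hr).mem d) ((hSt r hr).le hs)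
        have hre : r = rep g := by
          rw [← hrep_eq r g ⟨_, hdQ, y, hy, hg'⟩, (hT r hr).2]
        refine ⟨hre, fun hd => ?_⟩
        subst hre
        -- the difference centralizes the representative
        set w := q⁻¹ * (t (rep g) ^ d * s)
        have hwQ : w ∈ Q := Q.mul_mem (Q.inv_mem hq) hdQ
        have hcomm : ∀ v ∈ Q, ∀ z ∈ X, Commute v z := fun v hv z hz =>
          Subgroup.mem_centralizer_iff.1 (hQX hz) v hv
        have hwr : Commute (w * (x⁻¹ * y)) (rep g) := by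
          set r := rep g
          set α := t r ^ d * s
          have h1 : α * y * r * (α * y)⁻¹ = q * x * r * (q * x)⁻¹ := hg'.symm.trans hgq
          have e : w * (x⁻¹ * y) = (q * x)⁻¹ * (α * y) := by
            rw [mul_inv_rev]
            show q⁻¹ * α * (x⁻¹ * y) = x⁻¹ * q⁻¹ * (α * y)
            rw [((hcomm q hq x hx).inv_inv.symm).eq, mul_assoc q⁻¹ α,
              ← mul_assoc α, (hcomm α hdQ _ (X.inv_mem hx)).eq]
            simp [mul_assoc]
          rw [e]
          have h2 := congrArg (fun z => (q * x)⁻¹ * z * (α * y)) h1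
          show (q * x)⁻¹ * (α * y) * r = r * ((q * x)⁻¹ * (α * y))
          simpa [mul_assoc] using h2
        obtain ⟨k, hk⟩ := hQ ⟨w, hwQ⟩
        have hwk : w ^ p ^ k = 1 := congrArg Subtype.val hk
        have hwr' := commute_left_of_commute_mul hp.out hwk (hX _ (X.mul_mem (X.inv_mem hx) hy))
          (hcomm w hwQ _ (X.mul_mem (X.inv_mem hx) hy)) hwr
        have hwS : w ∈ S (rep g) := hstab _ hrT ⟨hwQ, Subgroup.mem_centralizer_singleton_iff.2 hwr'.eq⟩
        refine (hI.uniq c hc d hd ?_).symm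
        have := (S (rep g)).mul_mem ((S (rep g)).mul_mem hcs hwS) ((S (rep g)).inv_mem hs)
        simpa [w, mul_assoc] using this
      rw [Finset.sum_eq_single (rep g)]
      · rw [Finset.sum_eq_single c]
        · rw [if_pos]
          · exact (commute_single_iff (t (rep g) ^ c)⁻¹ j).1
              (hj _ (Or.inl (Q.inv_mem (Q.pow_mem hI.mem c)))) g |> fun h => by simpa using h
          · refine ⟨_, hcs, x, hx, ?_⟩
            rw [show (t (rep g) ^ c)⁻¹ * g * t (rep g) ^ c =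
              (t (rep g) ^ c)⁻¹ * (q * x * rep g * (q * x)⁻¹) * t (rep g) ^ c from
              congrArg (fun z => (t (rep g) ^ c)⁻¹ * z * t (rep g) ^ c) hgq]
            simp [mul_assoc]
        · intro d hd hdc
          rw [if_neg fun h => hdc ((hval _ hrT d h).2 (Finset.mem_range.1 hd))]
        · exact fun h => absurd (Finset.mem_range.2 hc) h
      · intro r hr hne
        refine Finset.sum_eq_zero fun d _ => ?_
        rw [if_neg fun h => hne (hval r hr d h).1]
      · exact fun h => absurd hrT h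

/-- In a primitive corner a sum of nilpotent elements is not the unit. -/
theorem PrimOn.exists_inv_of_sum {S : Set G} {j : KAlg hM G} (hj : PrimOn S j) {ι : Type*}
    (T : Finset ι) (f : ι → KAlg hM G)
    (hf : ∀ r ∈ T, FixBy S (f r) ∧ j * f r = f r ∧ f r * j = f r) (hsum : ∑ r ∈ T, f r = j) :
    ∃ r ∈ T, ∃ y, FixBy S y ∧ j * y = y ∧ y * j = y ∧ f r * y = j := by
  suffices H : ∀ z, FixBy S z → j * z = z → z * j = z → (∃ w, FixBy S w ∧ j * w = w ∧ w * j = w ∧
      z * w = j) → z = ∑ r ∈ T, f r →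
      ∃ r ∈ T, ∃ y, FixBy S y ∧ j * y = y ∧ y * j = y ∧ f r * y = j from
    H j hj.fix hj.idem.eq hj.idem.eq ⟨j, hj.fix, hj.idem.eq, hj.idem.eq, hj.idem.eq⟩ hsum.symm
  clear hsum
  induction T using Finset.induction_on with
  | empty =>
    rintro z - - - ⟨w, -, -, -, hw⟩ hz
    exact absurd (by rw [← hw, hz, Finset.sum_empty, zero_mul]) hj.ne
  | insert a T' ha ih =>
    rintro z hz hjz hzj ⟨w, hw, hjw, hwj, hzw⟩ hzs
    rw [Finset.sum_insert ha] at hzs
    obtain ⟨hfa, hja, haj⟩ := hf a (Finset.mem_insert_self a T')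
    rcases hj.nilpotent_or_inv (x := f a * w) (fun s hs => (hfa s hs).mul_right (hw s hs))
      (by rw [← mul_assoc, hja]) (by rw [mul_assoc, hwj]) with ⟨n, hn⟩ | ⟨y, hy, hjy, hyj, hxy, -⟩
    · -- the rest is invertible
      have hrest : ∃ v, FixBy S v ∧ j * v = v ∧ v * j = v ∧ (z - f a) * v = j := by
        -- `(z - f a) w = j - f a w` is invertible
        set x := f a * w
        set G' := ∑ i ∈ Finset.range n, x ^ i
        have hxG : (1 - x) * G' = 1 := by rw [mul_neg_geom_sum, hn, sub_zero]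
        have hfix : FixBy S G' := fun s hs =>
          Commute.sum_right _ _ _ fun i _ => ((hfa s hs).mul_right (hw s hs)).pow_right i
        have hjx : Commute j x := by
          show j * x = x * j
          rw [show j * x = x by simp only [x, ← mul_assoc, hja],
            show x * j = x by simp only [x, mul_assoc, hwj]]
        have hjG : Commute j G' := Commute.sum_right _ _ _ fun i _ => hjx.pow_right i
        refine ⟨w * G' * j, fun s hs => ((hw s hs).mul_right (hfix s hs)).mul_right (hj.fix s hs),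
          by rw [← mul_assoc, ← mul_assoc, hjw], by rw [mul_assoc, hj.idem.eq], ?_⟩
        calc (z - f a) * (w * G' * j) = (z * w - f a * w) * G' * j := by
              simp only [← mul_assoc, sub_mul]
          _ = (1 - x) * (j * G') * j := by
              rw [hzw]
              have : j - f a * w = (1 - x) * j := by
                rw [sub_mul, one_mul]
                show j - x = j - x * j
                rw [show x * j = x by simp only [x, mul_assoc, hwj]]
              rw [this]; simp only [mul_assoc]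
          _ = _ := by rw [hjG.eq, ← mul_assoc, hxG, one_mul, hj.idem.eq]
      obtain ⟨r, hr, h⟩ := ih (fun r hr => hf r (Finset.mem_insert_of_mem hr)) (z - f a)
        (fun s hs => (hz s hs).sub_right (hfa s hs)) (by rw [mul_sub, hjz, hja])
        (by rw [sub_mul, hzj, haj]) hrest (by rw [hzs, add_sub_cancel_left])
      exact ⟨r, Finset.mem_insert_of_mem hr, h⟩
    · exact ⟨a, Finset.mem_insert_self a T', w * y, fun s hs => (hw s hs).mul_right (hy s hs),
        by rw [← mul_assoc, hjw], by rw [mul_assoc, hyj], by rw [← mul_assoc, hxy]⟩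

/-- A primitive idempotent with vanishing Brauer image is a sum of `p` conjugates of an
idempotent fixed by a maximal subgroup. -/
theorem PrimOn.exists_induced [hp : Fact p.Prime] {Q X : Subgroup G} (hQ : IsPGroup p Q)
    (hQX : X ≤ Subgroup.centralizer (Q : Set G)) (hX : ∀ x ∈ X, ¬ p ∣ orderOf x) {j : KAlg hM G}
    (hj : PrimOn ((Q : Set G) ∪ X) j) (h0 : br Q j = 0) :
    ∃ (S : Subgroup G) (t : G) (i : KAlg hM G), IdxP p Q S t ∧ IsIdempotentElem i ∧
      FixBy ((S : Set G) ∪ X) i ∧ ∑ c ∈ Finset.range p, cj (t ^ c) i = j ∧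
      ∀ c < p, ∀ d < p, c ≠ d → cj (t ^ c) i * cj (t ^ d) i = 0 := by
  obtain ⟨T, S, t, a, hTa, hsum⟩ := exists_trace_parts hQ hQX hX hj.fix h0
  have hjQ : ∀ q ∈ Q, cj q j = j := fun q hq => (cj_eq_self_iff q j).2 (hj.fix q (Or.inl hq))
  set f : G → KAlg hM G := fun r => ∑ c ∈ Finset.range p, cj (t r ^ c) (j * a r * j) with hf
  have hfsum : ∑ r ∈ T, f r = j := by
    have e : ∀ r ∈ T, f r = j * (∑ c ∈ Finset.range p, cj (t r ^ c) (a r)) * j := by
      intro r hr
      rw [hf, Finset.mul_sum, Finset.sum_mul]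
      refine Finset.sum_congr rfl fun c _ => ?_
      rw [map_mul, map_mul, hjQ _ (Q.pow_mem (hTa r hr).1.mem c)]
    rw [Finset.sum_congr rfl e, ← Finset.sum_mul, ← Finset.mul_sum, hsum, hj.idem.eq, hj.idem.eq]
  have haj : ∀ r ∈ T, FixBy ((S r : Set G) ∪ X) (j * a r * j) := fun r hr s hs =>
    ((hj.fix s (hs.imp (fun h => (hTa r hr).1.le h) id)).mul_right ((hTa r hr).2 s hs)).mul_right
      (hj.fix s (hs.imp (fun h => (hTa r hr).1.le h) id))
  -- the relative trace is fixed by `Q` and `X`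
  have hffix : ∀ r ∈ T, FixBy ((Q : Set G) ∪ X) (f r) ∧ j * f r = f r ∧ f r * j = f r := by
    intro r hr
    have hI := (hTa r hr).1
    set b := j * a r * j
    refine ⟨?_, ?_, ?_⟩
    · rintro s (hs | hs)
      · refine (cj_eq_self_iff s _).1 ?_
        rw [hf, map_sum]
        simp only [← cj_mul]
        have hexi : ∀ c, ∃ d, d < p ∧ (t r ^ d)⁻¹ * (s * t r ^ c) ∈ S r := fun c =>
          hI.cov _ (Q.mul_mem hs (Q.pow_mem hI.mem c))
        choose σ hσ hσS using hexi
        refine Finset.sum_bij (fun c _ => σ c) (fun c _ => Finset.mem_range.2 (hσ c)) ?_ ?_ ?_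
        · intro c hc d hd h
          refine hI.uniq c (Finset.mem_range.1 hc) d (Finset.mem_range.1 hd) ?_
          have h1 := (S r).mul_mem ((S r).inv_mem (hσS c)) (h.symm ▸ hσS d :
            (t r ^ σ c)⁻¹ * (s * t r ^ d) ∈ S r)
          simpa [mul_assoc] using h1
        · intro d hd
          obtain ⟨c, hc, hc'⟩ := hI.cov _ (Q.mul_mem (Q.inv_mem hs) (Q.pow_mem hI.mem d))
          refine ⟨c, Finset.mem_range.2 hc, hI.uniq _ (hσ c) d (Finset.mem_range.1 hd) ?_⟩
          have h1 := (S r).mul_mem (hσS c) hc'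
          simpa [mul_assoc] using h1
        · intro c _
          conv_lhs => rw [show s * t r ^ c = t r ^ σ c * ((t r ^ σ c)⁻¹ * (s * t r ^ c)) by simp]
          rw [cj_mul, (cj_eq_self_iff _ b).2 (haj r hr _ (Or.inl (hσS c)))]
      · refine Commute.sum_right _ _ _ fun c _ => (cj_eq_self_iff s _).1 ?_
        rw [← cj_mul, (Subgroup.mem_centralizer_iff.1 (hQX hs) _ (Q.pow_mem hI.mem c)).symm, cj_mul,
          (cj_eq_self_iff s b).2 (haj r hr s (Or.inr hs))]
    · rw [hf, Finset.mul_sum]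
      refine Finset.sum_congr rfl fun c _ => ?_
      conv_lhs => arg 1; rw [← hjQ _ (Q.pow_mem hI.mem c)]
      rw [← map_mul]; simp only [b, ← mul_assoc, hj.idem.eq]
    · rw [hf, Finset.sum_mul]
      refine Finset.sum_congr rfl fun c _ => ?_
      conv_lhs => arg 2; rw [← hjQ _ (Q.pow_mem hI.mem c)]
      rw [← map_mul]; simp only [b, mul_assoc, hj.idem.eq]
  obtain ⟨r, hr, y, hy, hjy, hyj, hfy⟩ := hj.exists_inv_of_sum T f hffix hfsum
  have hI := (hTa r hr).1
  set b := j * a r * j * y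
  have hyQ : ∀ q ∈ Q, cj q y = y := fun q hq => (cj_eq_self_iff q y).2 (hy q (Or.inl hq))
  have hbS : FixBy ((S r : Set G) ∪ X) b := fun s hs =>
    (haj r hr s hs).mul_right (hy s (hs.imp (fun h => hI.le h) id))
  have hsb : ∑ c ∈ Finset.range p, (cj (t r))^[c] b = j := by
    simp only [cj_iterate]
    rw [← hfy, hf, Finset.sum_mul]
    refine Finset.sum_congr rfl fun c _ => ?_
    rw [map_mul, hyQ _ (Q.pow_mem hI.mem c)]
  haveI := charP_residue hM
  obtain ⟨i, hi, -, -, hisum, horth, -, hiS⟩ := exists_split (p := p) (splits_residue hM)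
    (cj (t r)) hj.idem (hjQ _ hI.mem)
    (a := b) (by simp only [b, ← mul_assoc, hj.idem.eq]) (by simp only [b, mul_assoc, hyj])
    (by rw [cj_iterate]; exact (cj_eq_self_iff _ b).2 (hbS _ (Or.inl hI.pow))) hsb
  simp only [cj_iterate] at hisum horth
  refine ⟨S r, t r, i, hI, hi, fun s hs => ?_, hisum, horth⟩
  have hmem := hiS (Subalgebra.centralizer (Residue hM)
      ((fun u : G => (MonoidAlgebra.single u 1 : KAlg hM G)) '' ((S r : Set G) ∪ X))) ?_ fun c => ?_
  · exact (Subalgebra.mem_centralizer_iff (Residue hM)).1 hmem _ ⟨s, hs, rfl⟩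
  · rw [Subalgebra.mem_centralizer_iff]
    rintro _ ⟨u, hu, rfl⟩
    exact hj.fix u (hu.imp (fun h => hI.le h) id)
  · rw [Subalgebra.mem_centralizer_iff, cj_iterate]
    rintro _ ⟨u, hu, rfl⟩
    refine (cj_eq_self_iff u _).1 ?_
    rw [← cj_mul]
    rcases hu with hu | hu
    · rw [show u * t r ^ c = t r ^ c * ((t r ^ c)⁻¹ * u * t r ^ c) by simp [mul_assoc], cj_mul,
        (cj_eq_self_iff _ b).2 (hbS _ (Or.inl (hI.norm' (Q.pow_mem hI.mem c) hu)))]
    · rw [(Subgroup.mem_centralizer_iff.1 (hQX hu) _ (Q.pow_mem hI.mem c)).symm, cj_mul,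
        (cj_eq_self_iff u b).2 (hbS u (Or.inr hu))]

end CfsgLib.BrouePuig
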