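import Cfsg.Agent.Lib.BrouePuig.Inertial
import Cfsg.Agent.Lib.Blocks.CoverBasics
import Cfsg.Agent.Lib.Blocks.PCentralizer
import Cfsg.Agent.Lib.Blocks.Complement

/-!
# Blocks of `D C_G(D)` and maximal Brauer pairs

A block of `D C_G(D)` inducing `B` covers a block of `C_G(D)` that is a Brauer pair of `B`; the
stabilizer of the latter stabilizes the former.
-/

set_option autoImplicit false

namespace CfsgLib.BrouePuig.StabilizerBridge

open Cfsg CfsgLib.Blocks CfsgLib.BrauerPairs
open scoped Classical ComplexConjugate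

universe u

variable {p : ℕ} [Fact p.Prime] {M : Ideal AlgInt} {G : Type u} [Group G] [Fintype G]
  {B : Set (IrrCharacter G)} {D H : Subgroup G}

omit [Fact p.Prime] in
theorem mem_normalizer_sup {g : G} (hH : H = D ⊔ Subgroup.centralizer (D : Set G))
    (hg : g ∈ Subgroup.normalizer (D : Set G)) : H.map (MulAut.conj g).toMonoidHom = H := by
  rw [hH, Subgroup.map_sup, map_conj_of_mem_normalizer hg,
    map_conj_of_mem_normalizer (normalizer_le_normalizer_centralizer D hg)]

theorem exists_pair (hM : IsPModular p M) (hD : IsPGroup p D)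
    (hH : H = D ⊔ Subgroup.centralizer (D : Set G)) {b : Set (IrrCharacter H)}
    (hind : IsInducedBlock M H b B) :
    ∃ c : Set (IrrCharacter (Subgroup.centralizer (D : Set G))),
      IsBrauerPairOf p M B D c ∧ ∀ g ∈ pairStab D c, ∀ θ ∈ b, ∀ θ' : IrrCharacter H,
        (∀ h h' : H, (h' : G) = g * h * g⁻¹ → (θ' : H → ℂ) h' = (θ : H → ℂ) h) → θ' ∈ b := by
  set C := Subgroup.centralizer (D : Set G) with hC
  have hCH : C ≤ H := hH ▸ le_sup_right
  have hDH : D ≤ H := hH ▸ le_sup_left
  have hHN : H ≤ Subgroup.normalizer (C : Set G) := hH ▸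
    sup_le (Subgroup.le_normalizer.trans (normalizer_le_normalizer_centralizer D))
      Subgroup.le_normalizer
  set P := D.subgroupOf H
  set N := C.subgroupOf H
  haveI : N.Normal := (Subgroup.normal_subgroupOf_iff_le_normalizer hCH).2 hHN
  have hPC : Subgroup.centralizer (P : Set H) = N := Subgroup.ext fun x =>
    (mem_centralizer_subgroupOf_iff hDH x).trans Iff.rfl
  haveI : P.Normal := (Subgroup.normal_subgroupOf_iff_le_normalizer hDH).2
    (hH ▸ sup_le Subgroup.le_normalizer (centralizer_le_normalizer D))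
  have hP : IsPGroup p P := hD.of_injective (Subgroup.subgroupOfEquivOfLe hDH).toMonoidHom
    (Subgroup.subgroupOfEquivOfLe hDH).injective
  have htop : P ⊔ Subgroup.centralizer (P : Set H) = ⊤ := by
    rw [hPC, ← Subgroup.subgroupOf_sup hDH hCH, Subgroup.subgroupOf_eq_top]
    exact hH.le
  have hidx : ∃ k : ℕ, N.index = p ^ k := hPC ▸ index_centralizer_of_sup_eq_top hM.1 hP htop
  obtain ⟨ξ, hξ⟩ := IsPBlock.nonempty hM hind.1
  obtain ⟨θ₀, hover⟩ := CfsgLib.Blocks.exists_over (N := N) ξ
  set c₀ := blockOf M (θ₀ : N → ℂ) with hc₀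
  have hc₀b : IsPBlock M c₀ := isPBlock_blockOf θ₀
  have hθ₀ : θ₀ ∈ c₀ := SameBlock_refl hM _
  let φ : C ≃* N := (Subgroup.subgroupOfEquivOfLe hCH).symm
  have hφ : ∀ x : C, ((φ x : H) : G) = (x : G) := fun x => rfl
  set c := irrEquiv φ '' c₀
  have hcb : IsPBlock M c := isPBlock_image φ hc₀b
  refine ⟨c, ⟨⟨hD, hcb⟩, hind.2.1, fun ζ hζ => ?_⟩, fun g hg θ hθ θ' hθ' => ?_⟩
  · have hmem : irrEquiv φ θ₀ ∈ c := Set.mem_image_of_mem _ hθ₀
    have hgood := goodAt_blockCoeff hM hind.2.1 D
    refine LI.trans hM (brauerOmega_sameBlock (ξ := ζ) hM hgood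
      (IsPBlock.sameBlock hM hcb hζ hmem)) ?_
    set f : N → ℂ := fun n => blockCoeff B ((n : H) : G)
    have e1 : brauerOmega D (blockCoeff B) (irrEquiv φ θ₀ : C → ℂ) = omega (θ₀ : N → ℂ) f := by
      rw [brauerOmega_eq_omega, omega, omega, irrEquiv_apply, map_one]
      congr 1
      refine Fintype.sum_equiv φ.toEquiv _ _ fun x => ?_
      rw [irrEquiv_apply]
      rfl
    have hfinv : ∀ (y : H) (n : N), f (MulAut.conjNormal y n) = f n := fun y n => by
      show blockCoeff B _ = blockCoeff B _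
      rw [MulAut.conjNormal_apply, Subgroup.coe_mul, Subgroup.coe_mul, Subgroup.coe_inv]
      exact blockCoeff_isClassFunction B _ _
    rw [e1, ← omega_eq_of_over hover hfinv, ← omega_extend]
    obtain ⟨χ, hχ⟩ := IsPBlock.nonempty hM hind.2.1
    have h1 := IsInducedBlock.omega_congr hM hind hξ hχ (blockCoeff_isClassFunction B)
      (blockCoeff_LR hM hind.2.1)
    rw [omega_blockCoeff, blockInd_of_mem hχ] at h1
    refine LI.trans hM (LI.sub_comm ?_) h1
    set F : H → ℂ := fun x => if hx : x ∈ N then f ⟨x, hx⟩ else 0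
    show MemLocalIdeal M (omega (ξ : H → ℂ) (fun x : H => blockCoeff B (x : G)) - omega (ξ : H → ℂ) F)
    rw [← omega_sub]
    have hFeq : ∀ x : H, F x = if x ∈ N then blockCoeff B (x : G) else 0 := fun x => by
      simp only [F, f]
      split <;> rfl
    refine omega_LI_of_vanish_centralizer hM hP (fun x y => ?_) (fun x => ?_) (fun x hx => ?_) ξ
    · have hmemN : y * x * y⁻¹ ∈ N ↔ x ∈ N := ⟨fun h => by
        simpa [mul_assoc] using Subgroup.Normal.conj_mem (inferInstance : N.Normal) _ h y⁻¹,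
        fun h => Subgroup.Normal.conj_mem inferInstance _ h y⟩
      have hcl : blockCoeff B ((y * x * y⁻¹ : H) : G) = blockCoeff B (x : G) := by
        rw [Subgroup.coe_mul, Subgroup.coe_mul, Subgroup.coe_inv]
        exact blockCoeff_isClassFunction B _ _
      show blockCoeff B ((y * x * y⁻¹ : H) : G) - F (y * x * y⁻¹) = blockCoeff B (x : G) - F x
      simp only [hFeq, hmemN, hcl]
    · show MemLocalRing M (blockCoeff B (x : G) - F x)
      rw [hFeq]
      refine LR.sub hM (blockCoeff_LR hM hind.2.1 _) ?_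
      split
      · exact blockCoeff_LR hM hind.2.1 _
      · exact LR.zero hM
    · show MemLocalIdeal M (blockCoeff B (x : G) - F x)
      rw [hFeq, if_pos (hPC ▸ hx), sub_self]
      exact LI.zero hM
  · have hgD : g ∈ Subgroup.normalizer (D : Set G) := hg.1
    have hgH : ∀ x : G, g * x * g⁻¹ ∈ H ↔ x ∈ H := fun x => by
      conv_lhs => rw [← mem_normalizer_sup hH hgD]
      exact Subgroup.mem_map_iff_mem (f := (MulAut.conj g).toMonoidHom) (MulAut.conj g).injective
    let ψ : H ≃* H := conjIso g hgH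
    have hgN : ∀ n : H, ψ n ∈ N ↔ n ∈ N := fun n =>
      mem_iff_of_normalizer (normalizer_le_normalizer_centralizer D hgD) (n : G)
    let ψN : N ≃* N :=
      { toFun := fun n => ⟨ψ n, (hgN n).2 n.2⟩
        invFun := fun n => ⟨ψ.symm n, (hgN _).1 (by rw [ψ.apply_symm_apply]; exact n.2)⟩
        left_inv := fun n => Subtype.ext (ψ.symm_apply_apply _)
        right_inv := fun n => Subtype.ext (ψ.apply_symm_apply _)
        map_mul' := fun m n => Subtype.ext (map_mul ψ _ _) }
    have hbc : ∀ n : N, blockCoeff c₀ n = subgroupBlockCoeff C c ((n : H) : G) := fun n => by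
      rw [bc_of_mem (show ((n : H) : G) ∈ C from n.2), blockCoeff_image]
      exact congrArg _ (Subtype.ext (Subtype.ext rfl))
    have himg : irrEquiv ψN '' c₀ = c₀ := blockCoeff_injective (funext fun n => by
      show blockCoeff (irrEquiv ψN '' c₀) n = blockCoeff c₀ n
      rw [blockCoeff_image, hbc, hbc]
      exact hg.2 _)
    have hθeq : irrEquiv ψ θ' = θ := Subtype.ext (funext fun h => by
      rw [irrEquiv_apply]
      exact hθ' h (ψ h) rfl)
    obtain ⟨θ₁, hθ₁, h1⟩ := CoverBasics.exists_over_of_sameBlock' hM hc₀b hθ₀ hover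
      (IsPBlock.sameBlock hM hind.1 hξ hθ)
    rw [← himg] at hθ₁
    obtain ⟨θ₂, hθ₂, rfl⟩ := hθ₁
    have h2 : classInner (fun n : N => (θ' : H → ℂ) n) (θ₂ : N → ℂ) ≠ 0 := by
      convert h1 using 1
      rw [← hθeq]
      unfold classInner
      congr 1
      exact (Fintype.sum_equiv ψN.toEquiv _ _ fun n => by
        simp only [irrEquiv_apply, MulEquiv.toEquiv_eq_coe, MulEquiv.coe_toEquiv]
        rfl).symm
    have hu := (CoverBasics.existsUnique_cover hM hidx hc₀b).unique
      (y₁ := blockOf M (θ' : H → ℂ)) (y₂ := b)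
      ⟨isPBlock_blockOf θ', θ', SameBlock_refl hM _, θ₂, hθ₂, h2⟩
      ⟨hind.1, ξ, hξ, θ₀, hθ₀, hover⟩
    rw [← hu]
    exact SameBlock_refl hM _

end CfsgLib.BrouePuig.StabilizerBridge
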