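import Cfsg.Agent.Lib.BrouePuig.Split
import Cfsg.Agent.Lib.CharDeep.Brauer
import Cfsg.Agent.Lib.Char.Induced
import Cfsg.Agent.Lib.Blocks.PCentralizer
import Cfsg.Agent.Lib.Blocks.SectionGram

/-!
# The Broué–Puig product of a character with a compatible family of functions on Brauer elements
-/

set_option autoImplicit false

namespace CfsgLib.BrouePuig

open Cfsg CfsgLib.Blocks CfsgLib.Blocks.ResidueAlgebra CfsgLib.BrauerPairs
open scoped Classical ComplexConjugate

universe u

variable {p : ℕ} {M : Ideal AlgInt} {G : Type u} [Group G] [Fintype G] {hM : IsPModular p M}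

/-! ### Generalized characters -/

theorem gen_zero (H : Type u) [Group H] : IsGeneralizedCharacter H (fun _ : H => (0 : ℂ)) :=
  ⟨0, 0, Char.isCharacter_zero, Char.isCharacter_zero, by funext x; simp⟩

theorem gen_add {H : Type u} [Group H] {a b : H → ℂ} (ha : IsGeneralizedCharacter H a)
    (hb : IsGeneralizedCharacter H b) : IsGeneralizedCharacter H (fun x => a x + b x) := by
  obtain ⟨a1, a2, h1, h2, rfl⟩ := ha
  obtain ⟨b1, b2, h3, h4, rfl⟩ := hb
  exact ⟨a1 + b1, a2 + b2, Char.IsCharacter.add h1 h3, Char.IsCharacter.add h2 h4, by funext x; simp; ring⟩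

theorem gen_mul {H : Type u} [Group H] [Fintype H] {a b : H → ℂ} (ha : IsGeneralizedCharacter H a)
    (hb : IsGeneralizedCharacter H b) : IsGeneralizedCharacter H (fun x => a x * b x) := by
  obtain ⟨a1, a2, h1, h2, rfl⟩ := ha
  obtain ⟨b1, b2, h3, h4, rfl⟩ := hb
  exact ⟨a1 * b1 + a2 * b2, a1 * b2 + a2 * b1,
    Char.IsCharacter.add (Char.IsCharacter.mul h1 h3) (Char.IsCharacter.mul h2 h4),
    Char.IsCharacter.add (Char.IsCharacter.mul h1 h4) (Char.IsCharacter.mul h2 h3),
    by funext x; simp; ring⟩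

theorem gen_comp {H K : Type u} [Group H] [Group K] {a : H → ℂ} (ha : IsGeneralizedCharacter H a)
    (f : K →* H) : IsGeneralizedCharacter K (fun x => a (f x)) := by
  obtain ⟨a1, a2, h1, h2, rfl⟩ := ha
  exact ⟨_, _, Char.IsCharacter.comp h1 f, Char.IsCharacter.comp h2 f, rfl⟩

/-! ### Brauer elements -/

/-- A group element with a set of characters of its centralizer. -/
abbrev BElem (G : Type u) [Group G] : Type u :=
  Σ u : G, Set (IrrCharacter (Subgroup.centralizer ((Subgroup.zpowers u : Subgroup G) : Set G)))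

/-- The pair of a Brauer element. -/
abbrev BElem.pair (a : BElem G) : BrauerPairIdx G := ⟨Subgroup.zpowers a.1, a.2⟩

/-- The idempotent coefficients of a Brauer element. -/
noncomputable abbrev BElem.bc (a : BElem G) : G → ℂ :=
  subgroupBlockCoeff (Subgroup.centralizer ((Subgroup.zpowers a.1 : Subgroup G) : Set G)) a.2

theorem belem_ext {a b : BElem G} (h : a.1 = b.1) (hb : ∀ c, a.bc c = b.bc c) : a = b := by
  obtain ⟨u, e⟩ := a
  obtain ⟨v, f⟩ := b
  simp only at h
  subst h
  exact congrArg (Sigma.mk u) (bc_injective _ (funext hb))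

omit [Fintype G] in
theorem exists_snd_of_fst_eq {a : BrauerPairIdx G} {Q : Subgroup G} (h : a.1 = Q) :
    ∃ e, a = ⟨Q, e⟩ := by
  subst h
  exact ⟨a.2, rfl⟩

omit [Fintype G] in
theorem map_conj_zpowers (y u : G) :
    (Subgroup.zpowers u).map (MulAut.conj y).toMonoidHom = Subgroup.zpowers (y * u * y⁻¹) := by
  rw [MonoidHom.map_zpowers]; rfl

/-- The action of `G` on Brauer elements. -/
noncomputable def act (y : G) (a : BElem G) : BElem G :=
  ⟨y * a.1 * y⁻¹, (exists_snd_of_fst_eq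
    (show (conjPair y a.pair).1 = _ from map_conj_zpowers y a.1)).choose⟩

omit [Fintype G] in
theorem pair_act (y : G) (a : BElem G) : (act y a).pair = conjPair y a.pair :=
  (exists_snd_of_fst_eq
    (show (conjPair y a.pair).1 = _ from map_conj_zpowers y a.1)).choose_spec.symm

theorem bc_act (y : G) (a : BElem G) (c : G) : (act y a).bc c = a.bc (y⁻¹ * c * y) := by
  have h := congrArg (fun b : BrauerPairIdx G =>
    subgroupBlockCoeff (Subgroup.centralizer (b.1 : Set G)) b.2 c) (pair_act y a)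
  exact h.trans (bc_conjBlock' _ y a.2 c)

theorem act_mul (x y : G) (a : BElem G) : act (x * y) a = act x (act y a) :=
  belem_ext (by simp [act, mul_assoc]) fun c => by
    rw [bc_act, bc_act, bc_act]; simp [mul_assoc]

theorem act_one (a : BElem G) : act 1 a = a :=
  belem_ext (by simp [act]) fun c => by rw [bc_act]; simp

theorem act_inv_act (x : G) (a : BElem G) : act x⁻¹ (act x a) = a := by
  rw [← act_mul, inv_mul_cancel, act_one]

theorem isPBlock_act (y : G) {a : BElem G} (h : IsPBlock M a.2) : IsPBlock M (act y a).2 := by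
  have h2 : IsPBlock M (conjPair y a.pair).2 := isPBlock_conjBlock _ y h
  rw [← pair_act] at h2
  exact h2

theorem act_of_mem_centralizer {y : G} {a : BElem G}
    (hy : y ∈ Subgroup.centralizer ((Subgroup.zpowers a.1 : Subgroup G) : Set G)) : act y a = a := by
  refine belem_ext ?_ fun c => ?_
  · rw [centralizer_zpowers, Subgroup.mem_centralizer_singleton_iff] at hy
    show y * a.1 * y⁻¹ = a.1
    rw [hy, mul_inv_cancel_right]
  · rw [bc_act]
    have := bc_fixes_of_mem hy a.2 (y⁻¹ * c * y)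
    simpa [mul_assoc] using this.symm

/-- Functions on Brauer elements that restrict to generalized characters below each Brauer pair. -/
structure Compatible (p : ℕ) (M : Ideal AlgInt) (η : BElem G → ℂ) : Prop where
  inv : ∀ (y : G) (a : BElem G), η (act y a) = η a
  gen : ∀ (Q : Subgroup G) (f : Set (IrrCharacter (Subgroup.centralizer (Q : Set G)))),
    IsBrauerPair p M Q f → ∃ θ : Q → ℂ, IsGeneralizedCharacter Q θ ∧
      ∀ (u : Q) g, SubpairLE p M (Subgroup.zpowers (u : G)) g Q f → η ⟨(u : G), g⟩ = θ u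

theorem pPart_conj (hp : p.Prime) (g t : G) :
    pPart p (t * g * t⁻¹) = t * pPart p g * t⁻¹ :=
  pPart_eq hp (isPPart_conj (pPart_spec hp g) t)

theorem mem_centralizer_pPart (hp : p.Prime) (g : G) :
    g ∈ Subgroup.centralizer ((Subgroup.zpowers (pPart p g) : Subgroup G) : Set G) := by
  obtain ⟨y, hgy, huy, -, -⟩ := pPart_spec hp g
  rw [centralizer_zpowers, Subgroup.mem_centralizer_singleton_iff]
  have h : Commute (pPart p g) (pPart p g * y) := (Commute.refl _).mul_right huy
  rw [hgy] at h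
  exact h.symm.eq

theorem fixBy_pPart {g : G} {z : KAlg hM G} (hz : Commute (MonoidAlgebra.single g 1) z) :
    FixBy ((Subgroup.zpowers (pPart p g) : Subgroup G) : Set G) z := by
  obtain ⟨y, hgy, huy, ⟨k, hk⟩, hy⟩ := pPart_spec hM.1 g
  have hcop : (orderOf (pPart p g)).Coprime (orderOf y) := by
    rw [hk]; exact ((hM.1.coprime_iff_not_dvd.2 hy).pow_left k)
  obtain ⟨m, hm⟩ := Nat.chineseRemainder hcop 1 0
  have hu' : g ^ m = pPart p g := by
    conv_lhs => rw [← hgy]
    rw [huy.mul_pow, pow_eq_pow_iff_modEq.2 hm.1 |>.trans (pow_one _),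
      (pow_eq_pow_iff_modEq.2 hm.2).trans (pow_zero y), mul_one]
  intro s hs
  obtain ⟨l, -, rfl⟩ := Finset.mem_image.1
    ((isOfFinOrder_of_finite _).mem_zpowers_iff_mem_range_orderOf.1 hs)
  have := hz.pow_left (m * l)
  rwa [MonoidAlgebra.single_pow, one_pow, pow_mul, hu'] at this

theorem isPGroup_zpowers_pPart (hp : p.Prime) (g : G) :
    IsPGroup p (Subgroup.zpowers (pPart p g)) := by
  obtain ⟨y, -, -, ⟨k, hk⟩, -⟩ := pPart_spec hp g
  exact IsPGroup.of_card (n := k) (by rw [Nat.card_zpowers, hk])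

variable (hM) in
/-- The product of `χ` with `η`, cut down by `j`. -/
noncomputable def starFun (η : BElem G → ℂ) (χ : IrrCharacter G) (j : KAlg hM G) (g : G) : ℂ :=
  ∑ e ∈ blockSet M (Subgroup.centralizer ((Subgroup.zpowers (pPart p g) : Subgroup G) : Set G)),
    η ⟨pPart p g, e⟩ *
      tau hM χ g (br (Subgroup.zpowers (pPart p g)) j * iota hM _ e)

/-- The idempotents occurring in `starFun`. -/
theorem br_iota_props {j : KAlg hM G} (he : IsIdempotentElem j) {g : G}
    (hg : Commute (MonoidAlgebra.single g 1) j)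
    {e : Set (IrrCharacter (Subgroup.centralizer ((Subgroup.zpowers (pPart p g) : Subgroup G) : Set G)))}
    (hb : IsPBlock M e) :
    IsIdempotentElem (br (Subgroup.zpowers (pPart p g)) j * iota hM _ e) ∧
      Commute (MonoidAlgebra.single g 1) (br (Subgroup.zpowers (pPart p g)) j * iota hM _ e) := by
  have hgc := mem_centralizer_pPart (p := p) hM.1 g
  have hfix := fixBy_pPart hg
  have hU := isPGroup_zpowers_pPart (p := p) hM.1 g
  have hcomm : Commute (iota hM _ e) (br (Subgroup.zpowers (pPart p g)) j) :=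
    commute_iota_of_supp e fun c hc => br_apply_notMem _ j hc
  refine ⟨?_, (commute_br (Subgroup.centralizer_le_normalizer _ hgc) hg).mul_right
    (commute_iota (bc_fixes_of_mem hgc e))⟩
  show _ * _ = _
  rw [mul_assoc, ← mul_assoc (iota hM _ e), hcomm.eq, mul_assoc (br _ j) (iota hM _ e),
    (iota_idem hb).eq, ← mul_assoc, (br_idempotent hU hfix he).eq]

theorem starFun_add (η : BElem G → ℂ) (χ : IrrCharacter G) {j j' : KAlg hM G}
    (he : IsIdempotentElem j) (he' : IsIdempotentElem j') (h12 : j * j' = 0) (h21 : j' * j = 0)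
    {g : G} (hg : Commute (MonoidAlgebra.single g 1) j)
    (hg' : Commute (MonoidAlgebra.single g 1) j') :
    starFun hM η χ (j + j') g = starFun hM η χ j g + starFun hM η χ j' g := by
  rw [starFun, starFun, starFun, ← Finset.sum_add_distrib]
  set U := Subgroup.zpowers (pPart p g)
  refine Finset.sum_congr rfl fun e heb => ?_
  obtain ⟨h1, h2⟩ := br_iota_props he hg (mem_blockSet.1 heb)
  obtain ⟨h1', h2'⟩ := br_iota_props he' hg' (mem_blockSet.1 heb)
  have hU := isPGroup_zpowers_pPart (p := p) hM.1 g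
  have hfix : ∀ z : KAlg hM G, Commute (MonoidAlgebra.single g 1) z → FixBy (U : Set G) z :=
    fun z hz => fixBy_pPart hz
  have hc : ∀ z : KAlg hM G, Commute (iota hM _ e) (br U z) := fun z =>
    commute_iota_of_supp e fun c hc => br_apply_notMem _ z hc
  have horth : ∀ a b : KAlg hM G, Commute (MonoidAlgebra.single g 1) a →
      Commute (MonoidAlgebra.single g 1) b → a * b = 0 →
      br U a * iota hM _ e * (br U b * iota hM _ e) = 0 := by
    intro a b ha hb hab
    rw [mul_assoc, ← mul_assoc (iota hM _ e), (hc b).eq, ← mul_assoc, ← mul_assoc,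
      ← br_mul hU (hfix a ha) (hfix b hb), hab, br_zero, zero_mul, zero_mul]
  rw [br_add, add_mul, tau_add χ h1 h1' (horth j j' hg hg' h12) (horth j' j hg' hg h21) h2 h2']
  ring

theorem starFun_zero (η : BElem G → ℂ) (χ : IrrCharacter G) (g : G) :
    starFun hM η χ 0 g = 0 := by
  simp [starFun, br_zero, tau_zero]

theorem starFun_sum (η : BElem G → ℂ) (χ : IrrCharacter G) {g : G} {ι : Type*} (s : Finset ι)
    (ε : ι → KAlg hM G) (he : ∀ i ∈ s, IsIdempotentElem (ε i))
    (ho : ∀ i ∈ s, ∀ i' ∈ s, i ≠ i' → ε i * ε i' = 0)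
    (hg : ∀ i ∈ s, Commute (MonoidAlgebra.single g 1) (ε i)) :
    starFun hM η χ (∑ i ∈ s, ε i) g = ∑ i ∈ s, starFun hM η χ (ε i) g := by
  induction s using Finset.induction_on with
  | empty => simp [starFun_zero]
  | insert a s ha ih =>
    have haa := Finset.mem_insert_self a s
    have hs : ∀ i ∈ s, i ∈ insert a s := fun i hi => Finset.mem_insert_of_mem hi
    rw [Finset.sum_insert ha, Finset.sum_insert ha,
      starFun_add η χ (he a haa)
        (tau_sum χ s ε (fun i hi => he i (hs i hi))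
          (fun i hi i' hi' => ho i (hs i hi) i' (hs i' hi')) fun i hi => hg i (hs i hi)).1
        ?_ ?_ (hg a haa) (Commute.sum_right _ _ _ fun i hi => hg i (hs i hi)),
      ih (fun i hi => he i (hs i hi)) (fun i hi i' hi' => ho i (hs i hi) i' (hs i' hi'))
        fun i hi => hg i (hs i hi)]
    · rw [Finset.mul_sum]
      exact Finset.sum_eq_zero fun i hi => ho a haa i (hs i hi) fun h => ha (h ▸ hi)
    · rw [Finset.sum_mul]
      exact Finset.sum_eq_zero fun i hi => ho i (hs i hi) a haa fun h => ha (h ▸ hi)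

theorem cj_iota (y : G) (a : BElem G) :
    cj y (iota hM _ a.2) = iota hM _ (act y a).2 := by
  refine ext_coeff fun c => ?_
  rw [coeff_cj, coeff_iota, coeff_iota]
  exact congrArg _ (bc_act y a c).symm

theorem cj_br_zpowers (y u : G) (x : KAlg hM G) :
    cj y (br (Subgroup.zpowers u) x) = br (Subgroup.zpowers (y * u * y⁻¹)) (cj y x) := by
  refine ext_coeff fun c => ?_
  rw [coeff_cj, coeff_br, coeff_br, coeff_cj, centralizer_zpowers, centralizer_zpowers]
  refine if_congr ?_ rfl rfl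
  simp only [Subgroup.mem_centralizer_singleton_iff]
  constructor
  · intro h
    have := congrArg (fun z => y * z * y⁻¹) h
    simpa [mul_assoc] using this
  · intro h
    have := congrArg (fun z => y⁻¹ * z * y) h
    simpa [mul_assoc] using this

theorem starFun_conj {η : BElem G → ℂ} (hη : ∀ y a, η (act y a) = η a) (χ : IrrCharacter G)
    (t : G) {j : KAlg hM G} (he : IsIdempotentElem j) {g : G}
    (hg : Commute (MonoidAlgebra.single g 1) j) :
    starFun hM η χ (cj t j) (t * g * t⁻¹) = starFun hM η χ j g := by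
  -- compare the two sums over Brauer elements
  let F : BElem G → ℂ := fun a => η a * tau hM χ (t * g * t⁻¹)
    (br (Subgroup.zpowers a.1) (cj t j) * iota hM _ a.2)
  let F' : BElem G → ℂ := fun a => η a * tau hM χ g (br (Subgroup.zpowers a.1) j * iota hM _ a.2)
  let S : G → Finset (BElem G) := fun x =>
    (blockSet M (Subgroup.centralizer ((Subgroup.zpowers x : Subgroup G) : Set G))).map
      ⟨Sigma.mk x, sigma_mk_injective⟩
  have h1 : starFun hM η χ (cj t j) (t * g * t⁻¹) = ∑ a ∈ S (t * pPart p g * t⁻¹), F a := by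
    rw [← pPart_conj hM.1, Finset.sum_map]; rfl
  have h2 : starFun hM η χ j g = ∑ a ∈ S (pPart p g), F' a := by
    rw [Finset.sum_map]; rfl
  rw [h1, h2]
  have hS : ∀ x a, a ∈ S x ↔ a.1 = x ∧ IsPBlock M a.2 := by
    intro x a
    simp only [S, Finset.mem_map, Function.Embedding.coeFn_mk, mem_blockSet]
    constructor
    · rintro ⟨e, he', rfl⟩; exact ⟨rfl, he'⟩
    · rintro ⟨rfl, h⟩; exact ⟨a.2, h, rfl⟩
  refine Finset.sum_nbij' (act t⁻¹) (act t) ?_ ?_ ?_ ?_ ?_
  · intro a ha
    obtain ⟨h1, h2⟩ := (hS _ _).1 ha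
    refine (hS _ _).2 ⟨?_, isPBlock_act _ h2⟩
    show t⁻¹ * a.1 * t⁻¹⁻¹ = _
    rw [h1]; simp [mul_assoc]
  · intro a ha
    obtain ⟨h1, h2⟩ := (hS _ _).1 ha
    refine (hS _ _).2 ⟨?_, isPBlock_act _ h2⟩
    show t * a.1 * t⁻¹ = _
    rw [h1]
  · intro a _
    rw [← act_mul, mul_inv_cancel, act_one]
  · intro a _
    exact act_inv_act t a
  · intro a ha
    obtain ⟨h1, h2⟩ := (hS _ _).1 ha
    have hb := isPBlock_act (M := M) t⁻¹ h2
    have hu : (act t⁻¹ a).1 = pPart p g := by
      show t⁻¹ * a.1 * t⁻¹⁻¹ = _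
      rw [h1]; simp [mul_assoc]
    show η a * _ = η (act t⁻¹ a) * _
    rw [hη]
    congr 1
    generalize hb' : act t⁻¹ a = b at hu hb
    have hab : act t b = a := by rw [← hb', ← act_mul, mul_inv_cancel, act_one]
    obtain ⟨bu, be⟩ := b
    simp only at hu
    subst hu
    obtain ⟨hi, hc⟩ := br_iota_props he hg hb
    rw [← hab, ← tau_cj χ t hi hc, map_mul, cj_br_zpowers, cj_iota t ⟨pPart p g, be⟩]
    rfl

/-! ### Subgroups generated by a `p`-group and commuting `p'`-elements -/

omit [Fintype G] in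
theorem exists_eq_mul {Q X : Subgroup G} (hQX : X ≤ Subgroup.centralizer (Q : Set G)) {g : G}
    (hg : g ∈ Q ⊔ X) : ∃ q ∈ Q, ∃ x ∈ X, g = q * x := by
  let H : Subgroup G :=
    { carrier := {g | ∃ q ∈ Q, ∃ x ∈ X, g = q * x}
      one_mem' := ⟨1, Q.one_mem, 1, X.one_mem, by simp⟩
      mul_mem' := by
        rintro a b ⟨q, hq, x, hx, rfl⟩ ⟨q', hq', x', hx', rfl⟩
        refine ⟨q * q', Q.mul_mem hq hq', x * x', X.mul_mem hx hx', ?_⟩
        have h : Commute q' x := Subgroup.mem_centralizer_iff.1 (hQX hx) q' hq'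
        rw [mul_assoc q x, ← mul_assoc x, ← h.eq]
        simp [mul_assoc]
      inv_mem' := by
        rintro a ⟨q, hq, x, hx, rfl⟩
        refine ⟨q⁻¹, Q.inv_mem hq, x⁻¹, X.inv_mem hx, ?_⟩
        have h : Commute q x := Subgroup.mem_centralizer_iff.1 (hQX hx) q hq
        rw [mul_inv_rev, h.inv_inv.eq] }
  exact (sup_le (fun q hq => ⟨q, hq, 1, X.one_mem, by simp⟩)
    (fun x hx => ⟨1, Q.one_mem, x, hx, by simp⟩) : Q ⊔ X ≤ H) hg

theorem pPart_mul (hp : p.Prime) {Q X : Subgroup G} (hQ : IsPGroup p Q)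
    (hQX : X ≤ Subgroup.centralizer (Q : Set G)) (hX : ∀ x ∈ X, ¬ p ∣ orderOf x) {q x : G}
    (hq : q ∈ Q) (hx : x ∈ X) : pPart p (q * x) = q := by
  haveI := Fact.mk hp
  obtain ⟨k, hk⟩ := (IsPGroup.iff_orderOf.1 hQ) ⟨q, hq⟩
  rw [Subgroup.orderOf_mk] at hk
  exact pPart_eq hp ⟨x, rfl, Subgroup.mem_centralizer_iff.1 (hQX hx) q hq, ⟨k, hk⟩, hX x hx⟩

theorem pPart_mem_left (hp : p.Prime) {Q X : Subgroup G} (hQ : IsPGroup p Q)
    (hQX : X ≤ Subgroup.centralizer (Q : Set G)) (hX : ∀ x ∈ X, ¬ p ∣ orderOf x) {g : G}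
    (hg : g ∈ Q ⊔ X) : pPart p g ∈ Q := by
  obtain ⟨q, hq, x, hx, rfl⟩ := exists_eq_mul hQX hg
  rw [pPart_mul hp hQ hQX hX hq hx]
  exact hq

theorem commute_of_mem_sup {Q X : Subgroup G} (hQX : X ≤ Subgroup.centralizer (Q : Set G))
    {j : KAlg hM G} (hj : FixBy ((Q : Set G) ∪ X) j) {g : G} (hg : g ∈ Q ⊔ X) :
    Commute (MonoidAlgebra.single g 1) j := by
  obtain ⟨q, hq, x, hx, rfl⟩ := exists_eq_mul hQX hg
  rw [← mul_one (1 : Residue hM), ← MonoidAlgebra.single_mul_single]
  exact (hj q (Or.inl hq)).mul_left (hj x (Or.inr hx))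

theorem finrank_mulRight_lt {j e : KAlg hM G} (he : IsIdempotentElem e) (hje : j * e = e)
    (hej : e * j = e) (hne : e ≠ j) :
    Module.finrank (Residue hM) (LinearMap.range (LinearMap.mulRight (Residue hM) e))
      < Module.finrank (Residue hM) (LinearMap.range (LinearMap.mulRight (Residue hM) j)) := by
  refine Submodule.finrank_lt_finrank_of_lt (lt_of_le_of_ne ?_ fun h => hne ?_)
  · rintro _ ⟨y, rfl⟩
    exact ⟨y * e, by simp [mul_assoc, hej]⟩
  · have hj : j ∈ LinearMap.range (LinearMap.mulRight (Residue hM) j) := ⟨1, by simp⟩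
    rw [← h] at hj
    obtain ⟨y, hy⟩ := hj
    simp only [LinearMap.mulRight_apply] at hy
    rw [← hje, ← hy, mul_assoc, he.eq]

/-- The primitive case with nonzero Brauer image. -/
theorem star_base [Fact p.Prime] {η : BElem G → ℂ} (hη : Compatible p M η) (χ : IrrCharacter G)
    {Q X : Subgroup G} (hQ : IsPGroup p Q) (hQX : X ≤ Subgroup.centralizer (Q : Set G))
    (hX : ∀ x ∈ X, ¬ p ∣ orderOf x) {j : KAlg hM G} (hj : PrimOn ((Q : Set G) ∪ X) j)
    (hne : br Q j ≠ 0) :
    IsGeneralizedCharacter ↥(Q ⊔ X) fun g : ↥(Q ⊔ X) => starFun hM η χ j g := by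
  have hp : p.Prime := Fact.out
  obtain ⟨f, hf, hjf⟩ := hj.exists_block hQ (fun x hx => hQX hx) hne
  obtain ⟨θ, hθ, hθη⟩ := hη.gen Q f ⟨hQ, hf⟩
  let π : ↥(Q ⊔ X) →* Q :=
    { toFun := fun g => ⟨pPart p (g : G), pPart_mem_left hp hQ hQX hX g.2⟩
      map_one' := Subtype.ext (by
        show pPart p (1 : G) = 1
        exact pPart_eq hp (isPPart_one_of_regular (by simp [hp.ne_one])))
      map_mul' := fun a b => Subtype.ext (by
        obtain ⟨q, hq, x, hx, ha⟩ := exists_eq_mul hQX a.2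
        obtain ⟨q', hq', x', hx', hb⟩ := exists_eq_mul hQX b.2
        show pPart p ((a : G) * (b : G)) = pPart p (a : G) * pPart p (b : G)
        rw [ha, hb, pPart_mul hp hQ hQX hX hq hx, pPart_mul hp hQ hQX hX hq' hx']
        have h : Commute q' x := Subgroup.mem_centralizer_iff.1 (hQX hx) q' hq'
        rw [show q * x * (q' * x') = q * q' * (x * x') by
          rw [mul_assoc q x, ← mul_assoc x, ← h.eq]; simp [mul_assoc]]
        exact pPart_mul hp hQ hQX hX (Q.mul_mem hq hq') (X.mul_mem hx hx')) }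
  have hfix : FixBy ((Q ⊔ X : Subgroup G) : Set G) j := fun g hg =>
    commute_of_mem_sup hQX hj.fix hg
  have hτ := (Char.IsCharacter.isGeneralizedCharacter (isCharacter_tau χ hj.idem (Q ⊔ X) hfix))
  refine (?_ : (fun g : ↥(Q ⊔ X) => starFun hM η χ j g)
    = fun g : ↥(Q ⊔ X) => θ (π g) * tau hM χ (g : G) j) ▸ gen_mul (gen_comp hθ π) hτ
  funext g
  set u := pPart p (g : G)
  have huQ : u ∈ Q := pPart_mem_left hp hQ hQX hX g.2
  have hle : Subgroup.zpowers u ≤ Q := Subgroup.zpowers_le.2 huQ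
  obtain ⟨e₀, he₀, -⟩ := existsUnique_below hM ⟨hQ, hf⟩ hle
  have heb := (isBrauerPair_of_subpairLE he₀ ⟨hQ, hf⟩).2
  have hbe := hj.br_mul_iota_below hQ (fun x hx => hQX hx) hne hf hjf he₀
  rw [starFun, Finset.sum_eq_single e₀]
  · rw [hbe, ← tau_br hp χ (pPart_spec hp (g : G)) hj.idem (hfix g g.2), hθη ⟨u, huQ⟩ e₀ he₀]
    rfl
  · intro e he hne'
    rw [← hbe, mul_assoc, iota_orth heb (mem_blockSet.1 he) (Ne.symm hne'), mul_zero, tau_zero,
      mul_zero]
  · exact fun h => absurd (mem_blockSet.2 heb) h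

omit [Fintype G] in
theorem exists_pow_coset {Q S : Subgroup G} {t q : G} [Fact p.Prime] (hI : IdxP p Q S t)
    (hQ : IsPGroup p Q) (hq : q ∈ Q) (hqS : q ∉ S) :
    ∀ c < p, ∃ k : ℕ, (t ^ c)⁻¹ * q ^ k ∈ S := by
  have hex : ∀ k : ℕ, ∃ c, c < p ∧ (t ^ c)⁻¹ * q ^ k ∈ S := fun k =>
    hI.cov _ (Q.pow_mem hq k)
  choose a ha haS using hex
  obtain ⟨n, hn⟩ := IsPGroup.iff_orderOf.1 hQ ⟨q, hq⟩
  rw [Subgroup.orderOf_mk] at hn
  have hsym : ∀ k l, k < l → l < p → a k ≠ a l := by
    intro k l hkl hl h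
    have h1 := S.mul_mem (S.inv_mem (haS k)) (h.symm ▸ haS l : (t ^ a k)⁻¹ * q ^ l ∈ S)
    have h2 : q ^ (l - k) ∈ S := by
      have e : q ^ l = q ^ k * q ^ (l - k) := by rw [← pow_add, Nat.add_sub_cancel' hkl.le]
      rw [e] at h1
      simpa [mul_assoc] using h1
    refine hqS ?_
    have hcop : Nat.Coprime (l - k) (orderOf q) := by
      rw [hn]
      exact (Nat.Coprime.pow_right n
        (((Fact.out : p.Prime).coprime_iff_not_dvd.2
          (Nat.not_dvd_of_pos_of_lt (by omega) (by omega))).symm))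
    obtain ⟨m, hm⟩ := exists_pow_eq_self_of_coprime hcop
    rw [← hm]
    exact S.pow_mem h2 m
  intro c hc
  obtain ⟨k, -, hk⟩ := Finset.surj_on_of_inj_on_of_card_le (s := Finset.range p) (t := Finset.range p)
    (fun k _ => a k) (fun k _ => Finset.mem_range.2 (ha k))
    (fun k l hk hl h => by
      rcases lt_trichotomy k l with hlt | heq | hlt
      · exact absurd h (hsym k l hlt (Finset.mem_range.1 hl))
      · exact heq
      · exact absurd h.symm (hsym l k hlt (Finset.mem_range.1 hk)))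
    le_rfl c (Finset.mem_range.2 hc)
  exact ⟨k, hk ▸ haS k⟩

theorem br_induced_eq_zero [Fact p.Prime] {Q S : Subgroup G} {t q : G} (hI : IdxP p Q S t)
    (hQ : IsPGroup p Q) (hq : q ∈ Q) (hqS : q ∉ S) {i : KAlg hM G} (hi : FixBy (S : Set G) i) :
    br (Subgroup.zpowers q) (∑ c ∈ Finset.range p, cj (t ^ c) i) = 0 := by
  refine ext_coeff fun y => ?_
  rw [coeff_br]
  by_cases hy : y ∈ Subgroup.centralizer ((Subgroup.zpowers q : Subgroup G) : Set G)
  · rw [if_pos hy, MonoidAlgebra.coeff_sum, Finsupp.finsetSum_apply]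
    have hc : ∀ c ∈ Finset.range p, (cj (t ^ c) i).coeff y = i.coeff y := by
      intro c hc
      obtain ⟨k, hk⟩ := exists_pow_coset hI hQ hq hqS c (Finset.mem_range.1 hc)
      have h1 : cj (q ^ k) i = cj (t ^ c) i := by
        conv_lhs => rw [← mul_inv_cancel_left (t ^ c) (q ^ k)]
        rw [cj_mul, (cj_eq_self_iff _ i).2 (hi _ hk)]
      rw [← h1, coeff_cj]
      congr 1
      have hc : Commute (q ^ k) y :=
        Subgroup.mem_centralizer_iff.1 hy _ (Subgroup.npow_mem_zpowers q k)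
      rw [mul_assoc, ← hc.eq, inv_mul_cancel_left]
    rw [Finset.sum_congr rfl hc, Finset.sum_const, Finset.card_range, nsmul_eq_mul]
    haveI := charP_residue hM
    rw [CharP.cast_eq_zero (Residue hM) p, zero_mul]
    rfl
  · rw [if_neg hy]; rfl

/-- The induced case. -/
theorem star_induced [Fact p.Prime] {η : BElem G → ℂ} (hη : ∀ y a, η (act y a) = η a)
    (χ : IrrCharacter G) {Q X S : Subgroup G} {t : G} (hQ : IsPGroup p Q)
    (hQX : X ≤ Subgroup.centralizer (Q : Set G)) (hX : ∀ x ∈ X, ¬ p ∣ orderOf x)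
    (hI : IdxP p Q S t) {i : KAlg hM G} (hi : IsIdempotentElem i)
    (hiS : FixBy ((S : Set G) ∪ X) i)
    (ho : ∀ c < p, ∀ d < p, c ≠ d → cj (t ^ c) i * cj (t ^ d) i = 0)
    (hF : IsGeneralizedCharacter ↥(S ⊔ X) fun g : ↥(S ⊔ X) => starFun hM η χ i g) :
    IsGeneralizedCharacter ↥(Q ⊔ X) fun g : ↥(Q ⊔ X) =>
      starFun hM η χ (∑ c ∈ Finset.range p, cj (t ^ c) i) g := by
  have hp : p.Prime := Fact.out
  have hS : IsPGroup p S := hQ.to_le hI.le
  have hSX : X ≤ Subgroup.centralizer (S : Set G) := hQX.trans (Subgroup.centralizer_le hI.le)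
  set E := Q ⊔ X
  set E' := S ⊔ X
  have hle : E' ≤ E := sup_le_sup_right hI.le X
  set H := E'.subgroupOf E
  let ψ : E → ℂ := fun g => starFun hM η χ i (g : G)
  have hψ : IsGeneralizedCharacter H (fun h : H => ψ (h : E)) :=
    gen_comp hF (Subgroup.subgroupOfEquivOfLe hle).toMonoidHom
  refine (?_ : (fun g : E => starFun hM η χ (∑ c ∈ Finset.range p, cj (t ^ c) i) (g : G))
    = Cfsg.indFun H (fun h : H => ψ (h : E))) ▸ Char.IsGeneralizedCharacter.indFun H hψ
  funext g
  obtain ⟨q, hq, x, hx, hgq⟩ := exists_eq_mul hQX g.2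
  have hqQ : pPart p (g : G) = q := by rw [hgq, pPart_mul hp hQ hQX hX hq hx]
  -- conjugates of `g` meet `E'` together with `g`
  have hmem' : ∀ z : G, z ∈ E → ((z ∈ E') ↔ pPart p z ∈ S) := by
    intro z hz
    refine ⟨fun h => pPart_mem_left hp hS hSX hX h, fun h => ?_⟩
    obtain ⟨a, ha, b, hb, rfl⟩ := exists_eq_mul hQX hz
    rw [pPart_mul hp hQ hQX hX ha hb] at h
    exact E'.mul_mem (Subgroup.mem_sup_left h) (Subgroup.mem_sup_right hb)
  have hconjS : ∀ y : E, pPart p (g : G) ∈ S ↔ pPart p ((y⁻¹ * g * y : E) : G) ∈ S := by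
    intro y
    obtain ⟨a, ha, b, hb, hy⟩ := exists_eq_mul hQX y.2
    have hb' : Commute b q := (Subgroup.mem_centralizer_iff.1 (hQX hb) q hq).symm
    have h1 : pPart p ((y⁻¹ * g * y : E) : G) = a⁻¹ * q * a := by
      have e : ((y⁻¹ * g * y : E) : G) = (y : G)⁻¹ * (g : G) * (y : G)⁻¹⁻¹ := by simp
      rw [e, pPart_conj hp, hqQ, hy, inv_inv, mul_inv_rev]
      have hba : Commute b (a⁻¹ * q * a) := by
        have h2 : a⁻¹ * q * a ∈ Q := Q.mul_mem (Q.mul_mem (Q.inv_mem ha) hq) ha
        exact (Subgroup.mem_centralizer_iff.1 (hQX hb) _ h2).symm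
      calc b⁻¹ * a⁻¹ * q * (a * b) = b⁻¹ * ((a⁻¹ * q * a) * b) := by simp [mul_assoc]
        _ = a⁻¹ * q * a := by rw [← hba.eq, inv_mul_cancel_left]
    rw [h1, hqQ]
    refine ⟨fun h => hI.norm' ha h, fun h => ?_⟩
    simpa [mul_assoc] using hI.norm a ha _ h
  by_cases hqS : q ∈ S
  · -- every conjugate of the idempotent is fixed by `g`
    have hgE' : (g : G) ∈ E' := (hmem' _ g.2).2 (hqQ ▸ hqS)
    have hyE' : ∀ y : E, y⁻¹ * g * y ∈ H := fun y =>
      Subgroup.mem_subgroupOf.2 ((hmem' _ (y⁻¹ * g * y).2).2 ((hconjS y).1 (hqQ ▸ hqS)))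
    have htE : t ∈ E := Subgroup.mem_sup_left hI.mem
    let y : ℕ → E := fun c => ⟨t, htE⟩ ^ c
    have hfixc : ∀ c, Commute (MonoidAlgebra.single (g : G) 1) (cj (t ^ c) i) := by
      intro c
      have h1 : (((y c)⁻¹ * g * (y c) : E) : G) ∈ E' := Subgroup.mem_subgroupOf.1 (hyE' (y c))
      have h2 := commute_of_mem_sup hSX hiS h1
      have h3 := h2.map (cj (t ^ c))
      rw [cj_single] at h3
      have e : t ^ c * (((y c)⁻¹ * g * (y c) : E) : G) * (t ^ c)⁻¹ = g := by
        simp [y, mul_assoc]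
      rwa [e] at h3
    rw [starFun_sum η χ (Finset.range p) _ (fun c _ => hi.map (cj (t ^ c)))
      (fun c hc d hd hne => ho c (Finset.mem_range.1 hc) d (Finset.mem_range.1 hd) hne)
      (fun c _ => hfixc c)]
    rw [Char.indFun_def]
    -- the transversal `t ^ c`
    have hval : ∀ (c : ℕ) (h : H), Cfsg.extendByZero H (fun h : H => ψ (h : E))
        ((y c * (h : E))⁻¹ * g * (y c * (h : E))) = starFun hM η χ (cj (t ^ c) i) (g : G) := by
      intro c h
      set k : H := ⟨(y c)⁻¹ * g * y c, hyE' (y c)⟩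
      have hcl := Char.IsGeneralizedCharacter.isClassFunction hψ k h⁻¹
      have e1 : (y c * (h : E))⁻¹ * g * (y c * (h : E)) = ((h⁻¹ * k * h⁻¹⁻¹ : H) : E) := by
        simp [k, mul_assoc]
      rw [e1, Char.extendByZero_coe, hcl]
      show starFun hM η χ i ((k : E) : G) = _
      have hg' : (g : G) = t ^ c * ((k : E) : G) * (t ^ c)⁻¹ := by simp [k, y, mul_assoc]
      conv_rhs => rw [hg']
      rw [starFun_conj hη χ (t ^ c) hi
        (commute_of_mem_sup hSX hiS (Subgroup.mem_subgroupOf.1 k.2))]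
    have hsum : ∑ z : E, Cfsg.extendByZero H (fun h : H => ψ (h : E)) (z⁻¹ * g * z)
        = (Nat.card H : ℂ) * ∑ c ∈ Finset.range p, starFun hM η χ (cj (t ^ c) i) (g : G) := by
      rw [← Finset.sum_bij (s := Finset.range p ×ˢ (Finset.univ : Finset H)) (t := Finset.univ)
        (f := fun ch => starFun hM η χ (cj (t ^ ch.1) i) (g : G))
        (fun ch _ => y ch.1 * (ch.2 : E)) (fun _ _ => Finset.mem_univ _) ?_ ?_
        (fun ch _ => (hval ch.1 ch.2).symm)]
      · rw [Finset.sum_product]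
        simp [Finset.mul_sum, Nat.card_eq_fintype_card]
      · rintro ⟨c, h⟩ hch ⟨d, k⟩ hdk he
        simp only [Finset.mem_product, Finset.mem_range, Finset.mem_univ, and_true] at hch hdk
        dsimp only at he
        have he' : t ^ c * ((h : E) : G) = t ^ d * ((k : E) : G) := by
          have := congrArg (fun z : E => (z : G)) he
          simpa [y] using this
        have hm : (t ^ c)⁻¹ * t ^ d ∈ E' := by
          have e : (t ^ c)⁻¹ * t ^ d = ((h : E) : G) * ((k : E) : G)⁻¹ := by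
            rw [eq_mul_inv_iff_mul_eq, mul_assoc, ← he', inv_mul_cancel_left]
          rw [e]
          exact E'.mul_mem (Subgroup.mem_subgroupOf.1 h.2) (E'.inv_mem (Subgroup.mem_subgroupOf.1 k.2))
        have hmS : (t ^ c)⁻¹ * t ^ d ∈ S := by
          have h1 := pPart_mem_left hp hS hSX hX hm
          have h2 : (t ^ c)⁻¹ * t ^ d ∈ Q :=
            Q.mul_mem (Q.inv_mem (Q.pow_mem hI.mem c)) (Q.pow_mem hI.mem d)
          rwa [← mul_one ((t ^ c)⁻¹ * t ^ d), pPart_mul hp hQ hQX hX h2 X.one_mem] at h1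
        obtain rfl := hI.uniq c hch d hdk hmS
        rw [mul_right_inj] at he
        rw [Subtype.ext he]
      · intro z _
        obtain ⟨a, ha, b, hb, hz⟩ := exists_eq_mul hQX z.2
        obtain ⟨c, hc, hca⟩ := hI.cov a ha
        have hm : (y c)⁻¹ * z ∈ H := by
          refine Subgroup.mem_subgroupOf.2 ?_
          have e : (((y c)⁻¹ * z : E) : G) = (t ^ c)⁻¹ * a * b := by simp [y, hz, mul_assoc]
          rw [e]
          exact E'.mul_mem (Subgroup.mem_sup_left hca) (Subgroup.mem_sup_right hb)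
        exact ⟨(c, ⟨_, hm⟩), Finset.mem_product.2 ⟨Finset.mem_range.2 hc, Finset.mem_univ _⟩,
          by simp⟩
    rw [hsum, inv_mul_cancel_left₀ Char.card_ne_zero]
  · -- the Brauer image vanishes, and no conjugate of `g` lies in `E'`
    have h0 : br (Subgroup.zpowers (pPart p (g : G))) (∑ c ∈ Finset.range p, cj (t ^ c) i) = 0 := by
      rw [hqQ]
      exact br_induced_eq_zero hI hQ hq hqS fun s hs => hiS s (Or.inl hs)
    have hz : starFun hM η χ (∑ c ∈ Finset.range p, cj (t ^ c) i) (g : G) = 0 := by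
      simp [starFun, h0, tau_zero]
    rw [hz, Char.indFun_def]
    refine (mul_eq_zero_of_right _ (Finset.sum_eq_zero fun z _ => ?_)).symm
    refine Char.extendByZero_apply_notMem H _ fun h => hqS ?_
    rw [← hqQ]
    exact (hconjS z).2 ((hmem' _ (z⁻¹ * g * z).2).1 (Subgroup.mem_subgroupOf.1 h))

/-- The product is a generalized character on every subgroup `Q ⊔ X`. -/
theorem star_isGen_sup [Fact p.Prime] {η : BElem G → ℂ} (hη : Compatible p M η)
    (χ : IrrCharacter G) : ∀ (n : ℕ) (Q X : Subgroup G), Nat.card Q = n → IsPGroup p Q →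
      X ≤ Subgroup.centralizer (Q : Set G) → (∀ x ∈ X, ¬ p ∣ orderOf x) →
      ∀ j : KAlg hM G, IsIdempotentElem j → FixBy ((Q : Set G) ∪ X) j →
      IsGeneralizedCharacter ↥(Q ⊔ X) fun g : ↥(Q ⊔ X) => starFun hM η χ j g := by
  intro n
  induction n using Nat.strong_induction_on with
  | _ n ih =>
  intro Q X hn hQ hQX hX j
  induction hd : Module.finrank (Residue hM) (LinearMap.range (LinearMap.mulRight (Residue hM) j))
    using Nat.strong_induction_on generalizing j with
  | _ d ihd =>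
  intro hj hfix
  by_cases hj0 : j = 0
  · subst hj0
    simpa [starFun_zero] using gen_zero ↥(Q ⊔ X)
  by_cases hprim : PrimOn ((Q : Set G) ∪ X) j
  · by_cases h0 : br Q j = 0
    · obtain ⟨S, t, i, hI, hi, hiS, hsum, ho⟩ := hprim.exists_induced hQ hQX hX h0
      rw [← hsum]
      exact star_induced hη.inv χ hQ hQX hX hI hi hiS ho
        (ih _ (hn ▸ hI.card_lt) S X rfl (hQ.to_le hI.le)
          (hQX.trans (Subgroup.centralizer_le hI.le)) hX i hi hiS)
    · exact star_base hη χ hQ hQX hX hprim h0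
  · obtain ⟨e, he, hef, hje, hej, hne0, hne⟩ : ∃ e : KAlg hM G, IsIdempotentElem e ∧
        FixBy ((Q : Set G) ∪ X) e ∧ j * e = e ∧ e * j = e ∧ e ≠ 0 ∧ e ≠ j := by
      by_contra hcon
      push Not at hcon
      exact hprim ⟨hj, hfix, hj0, fun e he hef h1 h2 =>
        or_iff_not_imp_left.2 fun h3 => hcon e he hef h1 h2 h3⟩
    have he' : IsIdempotentElem (j - e) := by
      show (j - e) * (j - e) = j - e
      rw [sub_mul, mul_sub, mul_sub, hj.eq, hje, hej, he.eq, sub_self, sub_zero]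
    have h12 : e * (j - e) = 0 := by rw [mul_sub, hej, he.eq, sub_self]
    have h21 : (j - e) * e = 0 := by rw [sub_mul, hje, he.eq, sub_self]
    have hje' : j * (j - e) = j - e := by rw [mul_sub, hj.eq, hje]
    have hej' : (j - e) * j = j - e := by rw [sub_mul, hj.eq, hej]
    have hf' : FixBy ((Q : Set G) ∪ X) (j - e) := fun s hs => (hfix s hs).sub_right (hef s hs)
    have h1 := ihd _ (hd ▸ finrank_mulRight_lt he hje hej hne) e rfl he hef
    have h2 := ihd _ (hd ▸ finrank_mulRight_lt he' hje' hej'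
      (fun h => hne0 (sub_eq_self.1 h))) (j - e) rfl he' hf'
    refine (?_ : (fun g : ↥(Q ⊔ X) => starFun hM η χ j g) = fun g : ↥(Q ⊔ X) =>
      starFun hM η χ e g + starFun hM η χ (j - e) g) ▸ gen_add h1 h2
    funext g
    rw [← starFun_add η χ he he' h12 h21 (commute_of_mem_sup hQX hef g.2)
      (commute_of_mem_sup hQX hf' g.2), add_sub_cancel]

/-! ### The product on the whole group -/

omit [Fintype G] in
theorem exists_sup_of_elementary [Finite G] (hp : p.Prime) {ℓ : ℕ} (hℓ : ℓ.Prime) {E : Subgroup G}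
    (hE : IsElementary ℓ E) :
    ∃ Q X : Subgroup G, IsPGroup p Q ∧ X ≤ Subgroup.centralizer (Q : Set G) ∧
      (∀ x ∈ X, ¬ p ∣ orderOf x) ∧ Q ⊔ X = E := by
  haveI := Fact.mk hp
  haveI := Fact.mk hℓ
  obtain ⟨x, hx, hcop, k, hk⟩ := hE
  obtain ⟨L⟩ : Nonempty (Sylow ℓ E) := inferInstance
  set Z := Subgroup.zpowers x
  have hZc : Z ≤ Subgroup.center E := Subgroup.zpowers_le.2 hx
  have htop : (L : Subgroup E) ⊔ Z = ⊤ := by
    refine Subgroup.eq_top_of_card_eq _ (Nat.dvd_antisymm (Subgroup.card_subgroup_dvd_card _) ?_)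
    have h1 := Subgroup.card_dvd_of_le (le_sup_left : (L : Subgroup E) ≤ (L : Subgroup E) ⊔ Z)
    have h2 := Subgroup.card_dvd_of_le (le_sup_right : Z ≤ (L : Subgroup E) ⊔ Z)
    rw [Nat.card_zpowers] at h2
    rw [← Z.card_mul_index, hk, Nat.card_zpowers]
    refine (hcop.pow_right k).mul_dvd_of_dvd_of_dvd h2 (dvd_trans ?_ h1)
    rw [L.card_eq_multiplicity]
    refine pow_dvd_pow ℓ ((hℓ.pow_dvd_iff_le_factorization Nat.card_pos.ne').1 ?_)
    rw [← hk]
    exact Subgroup.index_dvd_card Z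
  have hxc : ∀ z ∈ (⊤ : Subgroup E), Commute x z := fun z _ =>
    (Subgroup.mem_center_iff.1 hx z).symm
  suffices H : ∃ Q X : Subgroup E, IsPGroup p Q ∧ X ≤ Subgroup.centralizer (Q : Set E) ∧
      (∀ x ∈ X, ¬ p ∣ orderOf x) ∧ Q ⊔ X = ⊤ by
    obtain ⟨Q, X, h1, h2, h3, h4⟩ := H
    refine ⟨Q.map E.subtype, X.map E.subtype, h1.map _, ?_, ?_, ?_⟩
    · rintro _ ⟨a, ha, rfl⟩
      refine Subgroup.mem_centralizer_iff.2 ?_
      rintro _ ⟨b, hb, rfl⟩
      rw [← map_mul, ← map_mul, Subgroup.mem_centralizer_iff.1 (h2 ha) b hb]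
    · rintro _ ⟨a, ha, rfl⟩
      rw [Subgroup.coe_subtype, Subgroup.orderOf_coe]
      exact h3 a ha
    · rw [← Subgroup.map_sup, h4, ← MonoidHom.range_eq_map, Subgroup.range_subtype]
  by_cases hℓp : ℓ = p
  · subst hℓp
    refine ⟨L, Z, L.isPGroup', fun z hz => Subgroup.mem_centralizer_iff.2 fun y _ =>
      (Subgroup.mem_center_iff.1 (hZc hz) y), fun z hz => ?_, htop⟩
    exact fun h => (hℓ.coprime_iff_not_dvd.1 hcop.symm) (h.trans (orderOf_dvd_of_mem_zpowers hz))
  · haveI := Fintype.ofFinite E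
    set a := pPart p x
    obtain ⟨b, hab, hcab, ⟨m, hm⟩, hb⟩ := pPart_spec hp x
    have hapow : a ∈ Z := by
      have hcop' : (orderOf a).Coprime (orderOf b) := by
        rw [hm]; exact ((hp.coprime_iff_not_dvd.2 hb).pow_left m)
      obtain ⟨r, hr⟩ := Nat.chineseRemainder hcop' 1 0
      have : x ^ r = a := by
        conv_lhs => rw [← hab]
        rw [hcab.mul_pow, pow_eq_pow_iff_modEq.2 hr.1 |>.trans (pow_one _),
          (pow_eq_pow_iff_modEq.2 hr.2).trans (pow_zero b), mul_one]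
      exact this ▸ Subgroup.npow_mem_zpowers x r
    have hbZ : b ∈ Z := by
      have : b = a⁻¹ * x := by rw [← hab, inv_mul_cancel_left]
      rw [this]; exact Z.mul_mem (Z.inv_mem hapow) (Subgroup.mem_zpowers x)
    refine ⟨Subgroup.zpowers a, (L : Subgroup E) ⊔ Subgroup.zpowers b,
      IsPGroup.of_card (n := m) (by rw [Nat.card_zpowers, hm]), ?_, ?_, ?_⟩
    · intro z _
      refine Subgroup.mem_centralizer_iff.2 fun y hy => ?_
      exact (Subgroup.mem_center_iff.1 (hZc (Subgroup.zpowers_le.2 hapow hy)) z).symm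
    · intro z hz
      have hbc : Subgroup.zpowers b ≤ Subgroup.centralizer ((L : Subgroup E) : Set E) := fun y hy =>
        Subgroup.mem_centralizer_iff.2 fun w _ =>
          Subgroup.mem_center_iff.1 (hZc (Subgroup.zpowers_le.2 hbZ hy)) w
      obtain ⟨l, hl, y, hy, rfl⟩ := exists_eq_mul hbc hz
      obtain ⟨n', hn'⟩ := IsPGroup.iff_orderOf.1 L.isPGroup' ⟨l, hl⟩
      rw [Subgroup.orderOf_mk] at hn'
      intro hd
      have hc : Commute l y := Subgroup.mem_centralizer_iff.1 (hbc hy) l hl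
      rcases hp.dvd_mul.1 (hd.trans (hc.orderOf_mul_dvd_mul_orderOf)) with h | h
      · rw [hn'] at h
        exact hℓp ((Nat.prime_dvd_prime_iff_eq hp hℓ).1 (hp.dvd_of_dvd_pow h)).symm
      · exact hb (h.trans (orderOf_dvd_of_mem_zpowers hy))
    · refine top_le_iff.1 ?_
      rw [← htop]
      refine sup_le (le_sup_left.trans le_sup_right) (Subgroup.zpowers_le.2 ?_)
      rw [← hab]
      exact Subgroup.mul_mem _ (Subgroup.mem_sup_left (Subgroup.mem_zpowers a))
        (Subgroup.mem_sup_right (Subgroup.mem_sup_right (Subgroup.mem_zpowers b)))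

variable (hM) in
/-- The Broué–Puig product `χ * η`. -/
noncomputable def star (η : BElem G → ℂ) (χ : IrrCharacter G) (g : G) : ℂ :=
  starFun hM η χ 1 g

theorem star_isClassFunction {η : BElem G → ℂ} (hη : ∀ y a, η (act y a) = η a)
    (χ : IrrCharacter G) : IsClassFunction G (star hM η χ) := by
  intro g t
  have h := starFun_conj (hM := hM) hη χ t (j := 1) IsIdempotentElem.one (g := g)
    (Commute.one_right _)
  rw [map_one] at h
  exact h

theorem star_isGen [Fact p.Prime] {η : BElem G → ℂ} (hη : Compatible p M η) (χ : IrrCharacter G) :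
    IsGeneralizedCharacter G (star hM η χ) := by
  refine CharDeep.Brauer.isGeneralizedCharacter_of_elementary
    (star_isClassFunction hη.inv χ) fun ℓ hℓ E hE => ?_
  obtain ⟨Q, X, hQ, hQX, hX, rfl⟩ := exists_sup_of_elementary (p := p) Fact.out hℓ hE
  exact star_isGen_sup hη χ _ Q X rfl hQ hQX hX 1 IsIdempotentElem.one
    fun s _ => Commute.one_right _

theorem tau_iota (χ : IrrCharacter G) {u : G} {K : Subgroup G}
    (hK : K = Subgroup.centralizer ({u} : Set G)) (c : K) {e : Set (IrrCharacter K)}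
    (he : IsPBlock M e) :
    tau hM χ (u * (c : G)) (iota hM K e) = secPart u K e χ c := by
  let a : LAlg hM G := MonoidAlgebra.ofCoeff (Finsupp.equivFunOnFinite.symm fun g =>
    (⟨subgroupBlockCoeff K e g, bc_LR hM he g⟩ : localSubring hM))
  have hac : ∀ g, ((a.coeff g : localSubring hM) : ℂ) = subgroupBlockCoeff K e g := fun g => by
    simp [a]
  have hred : red hM a = iota hM K e := ext_coeff fun g => by
    rw [coeff_red_resid, hac, coeff_iota]
  have hai : IsIdempotentElem a := by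
    refine MonoidAlgebra.coeff_injective (Finsupp.ext fun g => Subtype.ext ?_)
    rw [coeff_mul_eq, hac, AddSubmonoidClass.coe_finsetSum]
    simp only [MulMemClass.coe_mul, hac]
    have h := congrFun (gconv_bc K e e) g
    rw [Set.inter_self] at h
    exact h
  have hucK : u * (c : G) ∈ K := by
    refine K.mul_mem ?_ c.2
    rw [hK, Subgroup.mem_centralizer_singleton_iff]
  have hca : Commute (MonoidAlgebra.single (u * (c : G)) 1) a :=
    (commute_single_iff _ a).2 fun g => Subtype.ext (by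
      rw [hac, hac]; exact bc_fixes_of_mem hucK e g)
  rw [← hred, tau_eq χ hai hca, val_single_mul, secPart,
    blockPart_eq_conv e (mul_left_isClassFunction hK χ) c]
  rw [← Finset.sum_subset (Finset.subset_univ ((Finset.univ : Finset K).map
    ⟨Subtype.val, Subtype.val_injective⟩)) fun g _ hg => by
      rw [hac, bc_of_notMem (fun h => hg (Finset.mem_map.2 ⟨⟨g, h⟩, Finset.mem_univ _, rfl⟩)),
        zero_mul], Finset.sum_map]
  refine Finset.sum_congr rfl fun k _ => ?_
  simp only [Function.Embedding.coeFn_mk, hac, Subgroup.coe_mul, mul_assoc]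
  rw [bc_of_mem k.2]

/-- The product in terms of the contributions. -/
theorem star_eq (η : BElem G → ℂ) (χ : IrrCharacter G) {u : G} (hu : ∃ k : ℕ, orderOf u = p ^ k)
    (c : Subgroup.centralizer ((Subgroup.zpowers u : Subgroup G) : Set G))
    (hc : ¬ p ∣ orderOf c) :
    star hM η χ (u * (c : G)) = ∑ e ∈ blockSet M
        (Subgroup.centralizer ((Subgroup.zpowers u : Subgroup G) : Set G)),
      η ⟨u, e⟩ * secPart u _ e χ c := by
  have hcu : Commute u (c : G) :=
    Subgroup.mem_centralizer_iff.1 c.2 u (Subgroup.mem_zpowers u)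
  obtain ⟨k, hk⟩ := hu
  have hpp : pPart p (u * (c : G)) = u :=
    pPart_eq hM.1 ⟨c, rfl, hcu, ⟨k, hk⟩, by rwa [Subgroup.orderOf_coe]⟩
  rw [star, starFun]
  rw [hpp]
  refine Finset.sum_congr rfl fun e he => ?_
  rw [br_one, one_mul, tau_iota χ (centralizer_zpowers u) c (mem_blockSet.1 he)]

/-- The trivial family gives `χ` back. -/
theorem star_one (χ : IrrCharacter G) (g : G) :
    star hM (fun _ => (1 : ℂ)) χ g = (χ : G → ℂ) g := by
  have hg : ∀ K : Subgroup G, g ∈ K → ∀ e : Set (IrrCharacter K),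
      Commute (MonoidAlgebra.single g 1) (iota hM K e) := fun K hK e =>
    commute_iota (bc_fixes_of_mem hK e)
  have hgc := mem_centralizer_pPart (p := p) hM.1 g
  simp only [star, starFun, one_mul, br_one]
  rw [← (tau_sum χ _ _ (fun e he => iota_idem (mem_blockSet.1 he))
    (fun e he e' he' hne => iota_orth (mem_blockSet.1 he) (mem_blockSet.1 he') hne)
    (fun e _ => hg _ hgc e)).2, sum_iota, ← map_one (red hM),
    tau_eq χ IsIdempotentElem.one (Commute.one_right _), val_single_mul]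
  rw [Finset.sum_eq_single 1]
  · simp [MonoidAlgebra.one_def]
  · intro b _ hb
    simp [MonoidAlgebra.one_def, Finsupp.single_apply, Ne.symm hb]
  · exact fun h => absurd (Finset.mem_univ _) h

end CfsgLib.BrouePuig
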