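import Cfsg.Agent.Lib.BrouePuig.Brauer
import Cfsg.Agent.Lib.Char.Basic
import Mathlib.RepresentationTheory.Subrepresentation
import Mathlib.LinearAlgebra.PID

/-!
# The value of a character at `g * ε` for an idempotent `ε` of the residue algebra
-/

set_option autoImplicit false

namespace CfsgLib.BrouePuig

open Cfsg CfsgLib.Blocks CfsgLib.Blocks.ResidueAlgebra CfsgLib.BrauerPairs
open scoped Classical

variable {p : ℕ} {M : Ideal AlgInt} {G : Type*} [Group G] [Fintype G] {hM : IsPModular p M}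

/-- The automorphism given by conjugation. -/
noncomputable def cj {R : Type*} [CommSemiring R] (t : G) :
    MonoidAlgebra R G →ₐ[R] MonoidAlgebra R G :=
  (MonoidAlgebra.domCongr R R (MulAut.conj t)).toAlgHom

theorem coeff_cj {R : Type*} [CommSemiring R] (t : G) (x : MonoidAlgebra R G) (g : G) :
    (cj t x).coeff g = x.coeff (t⁻¹ * g * t) := by
  show (MonoidAlgebra.domCongr R R (MulAut.conj t) x).coeff g = _
  rw [MonoidAlgebra.coeff_domCongr]
  congr 1

theorem cj_mul {R : Type*} [CommSemiring R] (t s : G) (x : MonoidAlgebra R G) :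
    cj (t * s) x = cj t (cj s x) :=
  MonoidAlgebra.coeff_injective (Finsupp.ext fun g => by
    rw [coeff_cj, coeff_cj, coeff_cj]; simp [mul_assoc])

theorem cj_one {R : Type*} [CommSemiring R] (x : MonoidAlgebra R G) : cj (1 : G) x = x :=
  MonoidAlgebra.coeff_injective (Finsupp.ext fun g => by rw [coeff_cj]; simp)

theorem cj_iterate {R : Type*} [CommSemiring R] (t : G) (c : ℕ) (x : MonoidAlgebra R G) :
    (cj t)^[c] x = cj (t ^ c) x := by
  induction c with
  | zero => rw [pow_zero, cj_one]; rfl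
  | succ c ih => rw [Function.iterate_succ_apply', ih, ← cj_mul, ← pow_succ']

theorem cj_single {R : Type*} [CommSemiring R] (t g : G) (r : R) :
    cj t (MonoidAlgebra.single g r) = MonoidAlgebra.single (t * g * t⁻¹) r := by
  show MonoidAlgebra.domCongr R R (MulAut.conj t) _ = _
  rw [MonoidAlgebra.domCongr_single]; rfl

theorem cj_eq_self_iff {R : Type*} [CommSemiring R] (t : G) (x : MonoidAlgebra R G) :
    cj t x = x ↔ Commute (MonoidAlgebra.single t 1) x := by
  rw [commute_single_iff]
  constructor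
  · intro h g
    conv_lhs => rw [← h, coeff_cj]
    congr 1
    simp [mul_assoc]
  · intro h
    refine MonoidAlgebra.coeff_injective (Finsupp.ext fun g => ?_)
    rw [coeff_cj, ← h (t⁻¹ * g * t)]
    congr 1
    simp [mul_assoc]

theorem red_cj (t : G) (a : LAlg hM G) : red hM (cj t a) = cj t (red hM a) := by
  refine ext_coeff fun g => ?_
  rw [coeff_red, coeff_cj, coeff_cj, coeff_red]

theorem val_cj (χ : IrrCharacter G) (t : G) (a : LAlg hM G) : val hM χ (cj t a) = val hM χ a := by
  simp only [val, coeff_cj]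
  refine Fintype.sum_equiv (MulAut.conj t⁻¹).toEquiv _ _ fun g => ?_
  have h : (χ : G → ℂ) (t⁻¹ * g * t) = (χ : G → ℂ) g := by
    have := irr_conj_apply χ g t⁻¹
    simpa using this
  simp only [MulEquiv.toEquiv_eq_coe, EquivLike.coe_coe, MulAut.conj_apply, inv_inv, h]

/-! ### The value -/

variable (hM) in
/-- `χ (g * ε)`, computed with an idempotent lift commuting with `g`. -/
noncomputable def tau (χ : IrrCharacter G) (g : G) (ε : KAlg hM G) : ℂ :=
  if h : ∃ a : LAlg hM G, IsIdempotentElem a ∧ Commute (MonoidAlgebra.single g 1) a ∧ red hM a = ε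
  then val hM χ (MonoidAlgebra.single g 1 * h.choose) else 0

theorem tau_eq (χ : IrrCharacter G) {g : G} {a : LAlg hM G} (ha : IsIdempotentElem a)
    (hga : Commute (MonoidAlgebra.single g 1) a) :
    tau hM χ g (red hM a) = val hM χ (MonoidAlgebra.single g 1 * a) := by
  have h : ∃ a' : LAlg hM G, IsIdempotentElem a' ∧ Commute (MonoidAlgebra.single g 1) a' ∧
      red hM a' = red hM a := ⟨a, ha, hga, rfl⟩
  rw [tau, dif_pos h]
  obtain ⟨h1, h2, h3⟩ := h.choose_spec
  have hi : red hM a * red hM a = red hM a := by rw [← map_mul, ha.eq]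
  exact val_eq_of_equiv hM χ h1 ha h2 hga (P := red hM a) (Q := red hM a) (Fix_red hM hga)
    (Fix_red hM hga) (by rw [h3, hi]) hi

theorem exists_lift (χ : IrrCharacter G) {g : G} {ε : KAlg hM G} (he : IsIdempotentElem ε)
    (hg : Commute (MonoidAlgebra.single g 1) ε) :
    ∃ a : LAlg hM G, IsIdempotentElem a ∧ Commute (MonoidAlgebra.single g 1) a ∧ red hM a = ε ∧
      tau hM χ g ε = val hM χ (MonoidAlgebra.single g 1 * a) := by
  obtain ⟨a, ha, hr, hc⟩ := exists_lift_idem hM he
  exact ⟨a, ha, hc g hg, hr, hr ▸ tau_eq χ ha (hc g hg)⟩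

theorem tau_zero (χ : IrrCharacter G) (g : G) : tau hM χ g 0 = 0 := by
  have := tau_eq (hM := hM) χ (g := g) IsIdempotentElem.zero (Commute.zero_right _)
  rwa [map_zero, mul_zero, val_zero] at this

theorem tau_add (χ : IrrCharacter G) {g : G} {ε ε' : KAlg hM G} (he : IsIdempotentElem ε)
    (he' : IsIdempotentElem ε') (h12 : ε * ε' = 0) (h21 : ε' * ε = 0)
    (hg : Commute (MonoidAlgebra.single g 1) ε) (hg' : Commute (MonoidAlgebra.single g 1) ε') :
    tau hM χ g (ε + ε') = tau hM χ g ε + tau hM χ g ε' := by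
  have hs : IsIdempotentElem (ε + ε') := by
    show (ε + ε') * (ε + ε') = ε + ε'
    rw [add_mul, mul_add, mul_add, he.eq, he'.eq, h12, h21, add_zero, zero_add]
  obtain ⟨a, ha, hga, hra, hta⟩ := exists_lift χ hs (hg.add_right hg')
  obtain ⟨b, hb, hrb, hab, hba, hgb⟩ := exists_lift_idem_corner hM ha he
    (by rw [hra, add_mul, he.eq, h21, add_zero]) (by rw [hra, mul_add, he.eq, h12, add_zero])
  have hgb' := hgb g hg hga
  have hd : IsIdempotentElem (a - b) := by
    show (a - b) * (a - b) = a - b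
    rw [sub_mul, mul_sub, mul_sub, ha.eq, hb.eq, hab, hba, sub_self, sub_zero]
  have h2 := tau_eq (hM := hM) χ hd (hga.sub_right hgb')
  rw [map_sub, hra, hrb, add_sub_cancel_left] at h2
  rw [hta, h2, ← hrb, tau_eq χ hb hgb', ← val_add, ← mul_add, add_sub_cancel]

theorem tau_sum (χ : IrrCharacter G) {g : G} {ι : Type*} (s : Finset ι) (ε : ι → KAlg hM G)
    (he : ∀ i ∈ s, IsIdempotentElem (ε i)) (ho : ∀ i ∈ s, ∀ i' ∈ s, i ≠ i' → ε i * ε i' = 0)
    (hg : ∀ i ∈ s, Commute (MonoidAlgebra.single g 1) (ε i)) :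
    IsIdempotentElem (∑ i ∈ s, ε i) ∧
      tau hM χ g (∑ i ∈ s, ε i) = ∑ i ∈ s, tau hM χ g (ε i) := by
  induction s using Finset.induction_on with
  | empty => exact ⟨by simpa using IsIdempotentElem.zero, by simpa using tau_zero χ g⟩
  | insert a s ha ih =>
    obtain ⟨h1, h2⟩ := ih (fun i hi => he i (Finset.mem_insert_of_mem hi))
      (fun i hi i' hi' => ho i (Finset.mem_insert_of_mem hi) i' (Finset.mem_insert_of_mem hi'))
      fun i hi => hg i (Finset.mem_insert_of_mem hi)
    have haa := Finset.mem_insert_self a s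
    have h12 : ε a * ∑ i ∈ s, ε i = 0 := by
      rw [Finset.mul_sum]
      exact Finset.sum_eq_zero fun i hi =>
        ho a haa i (Finset.mem_insert_of_mem hi) fun h => ha (h ▸ hi)
    have h21 : (∑ i ∈ s, ε i) * ε a = 0 := by
      rw [Finset.sum_mul]
      exact Finset.sum_eq_zero fun i hi =>
        ho i (Finset.mem_insert_of_mem hi) a haa fun h => ha (h ▸ hi)
    rw [Finset.sum_insert ha]
    refine ⟨?_, ?_⟩
    · show _ * _ = _
      rw [add_mul, mul_add, mul_add, (he a haa).eq, h1.eq, h12, h21, add_zero, zero_add]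
    · rw [Finset.sum_insert ha, tau_add χ (he a haa) h1 h12 h21 (hg a haa)
        (Commute.sum_right _ _ _ fun i hi => hg i (Finset.mem_insert_of_mem hi)), h2]

theorem tau_equiv (χ : IrrCharacter G) {g : G} {ε ε' P Q : KAlg hM G} (he : IsIdempotentElem ε)
    (he' : IsIdempotentElem ε') (hg : Commute (MonoidAlgebra.single g 1) ε)
    (hg' : Commute (MonoidAlgebra.single g 1) ε') (hP : Commute (MonoidAlgebra.single g 1) P)
    (hQ : Commute (MonoidAlgebra.single g 1) Q) (hPQ : P * Q = ε) (hQP : Q * P = ε') :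
    tau hM χ g ε = tau hM χ g ε' := by
  obtain ⟨a, ha, hga, hra, hta⟩ := exists_lift χ he hg
  obtain ⟨b, hb, hgb, hrb, htb⟩ := exists_lift χ he' hg'
  rw [hta, htb]
  exact val_eq_of_equiv hM χ ha hb hga hgb hP hQ (hPQ.trans hra.symm) (hQP.trans hrb.symm)

theorem tau_cj (χ : IrrCharacter G) (t : G) {g : G} {ε : KAlg hM G} (he : IsIdempotentElem ε)
    (hg : Commute (MonoidAlgebra.single g 1) ε) :
    tau hM χ (t * g * t⁻¹) (cj t ε) = tau hM χ g ε := by
  obtain ⟨a, ha, hga, hra, hta⟩ := exists_lift χ he hg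
  have hca : Commute (MonoidAlgebra.single (t * g * t⁻¹) 1) (cj t a) := by
    rw [← cj_single]; exact hga.map (cj t)
  rw [hta, ← hra, ← red_cj, tau_eq χ (ha.map (cj t)) hca, ← cj_single, ← map_mul, val_cj]

theorem tau_eq_zero_of_br (hp : p.Prime) (χ : IrrCharacter G) {g u : G} (hu : IsPPart p g u)
    {ε : KAlg hM G} (he : IsIdempotentElem ε) (hg : Commute (MonoidAlgebra.single g 1) ε)
    (h0 : br (Subgroup.zpowers u) ε = 0) : tau hM χ g ε = 0 := by
  obtain ⟨y, hgy, huy, ⟨k, hk⟩, hy⟩ := hu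
  obtain ⟨a, ha, hga, hra, hta⟩ := exists_lift χ he hg
  have hpow : ∀ (m : ℕ), Commute (MonoidAlgebra.single (g ^ m) 1) a := by
    intro m
    have := hga.pow_left m
    rwa [MonoidAlgebra.single_pow, one_pow] at this
  have hmem : ∀ h : G, h ∈ Subgroup.zpowers g → Commute (MonoidAlgebra.single h 1) a := by
    intro h hh
    obtain ⟨m, rfl⟩ := (isOfFinOrder_of_finite g).mem_zpowers_iff_mem_range_orderOf.1 hh |>
      Finset.mem_image.1 |> fun ⟨m, _, hm⟩ => (⟨m, hm⟩ : ∃ m : ℕ, g ^ m = h)
    exact hpow m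
  have hu_mem : u ∈ Subgroup.zpowers g ∧ y ∈ Subgroup.zpowers g := by
    have hcop : (orderOf u).Coprime (orderOf y) := by
      rw [hk]; exact ((hp.coprime_iff_not_dvd.2 hy).pow_left k)
    obtain ⟨m, hm⟩ := Nat.chineseRemainder hcop 1 0
    have hu' : g ^ m = u := by
      rw [← hgy, huy.mul_pow, pow_eq_pow_iff_modEq.2 hm.1 |>.trans (pow_one u),
        (pow_eq_pow_iff_modEq.2 hm.2).trans (pow_zero y), mul_one]
    have h1 : u ∈ Subgroup.zpowers g := hu' ▸ Subgroup.npow_mem_zpowers g m
    refine ⟨h1, ?_⟩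
    have : y = u⁻¹ * g := by rw [← hgy, inv_mul_cancel_left]
    rw [this]
    exact Subgroup.mul_mem _ (Subgroup.inv_mem _ h1) (Subgroup.mem_zpowers g)
  rw [hta, ← hgy]
  refine val_eq_zero_of_vanish hM χ hk hy huy ha (hmem u hu_mem.1) (hmem y hu_mem.2) fun c hc => ?_
  have h1 := congrArg (fun z : KAlg hM G => z.coeff c) h0
  simp only [coeff_br] at h1
  rw [if_pos (by rw [centralizer_zpowers]; exact Subgroup.mem_centralizer_singleton_iff.2 hc.eq.symm),
    ← hra] at h1
  simpa using h1

/-- An idempotent and its Brauer image at the `p`-part of `g` have the same value at `g`. -/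
theorem tau_br (hp : p.Prime) (χ : IrrCharacter G) {g u : G} (hu : IsPPart p g u) {ε : KAlg hM G}
    (he : IsIdempotentElem ε) (hg : Commute (MonoidAlgebra.single g 1) ε) :
    tau hM χ g ε = tau hM χ g (br (Subgroup.zpowers u) ε) := by
  obtain ⟨y, hgy, huy, ⟨k, hk⟩, hy⟩ := id hu
  set U := Subgroup.zpowers u
  have hU : IsPGroup p U := IsPGroup.of_card (n := k) (by rw [Nat.card_zpowers, hk])
  set G1 : KAlg hM G := MonoidAlgebra.single g 1
  have hgu : g ∈ Subgroup.normalizer (U : Set G) := by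
    refine Subgroup.centralizer_le_normalizer _ ?_
    rw [centralizer_zpowers]
    refine Subgroup.mem_centralizer_singleton_iff.2 ?_
    rw [← hgy, mul_assoc, ← huy.eq]
  -- powers of `g` commute with `ε`
  have hfixU : FixBy (U : Set G) ε := by
    have hcop : (orderOf u).Coprime (orderOf y) := by
      rw [hk]; exact ((hp.coprime_iff_not_dvd.2 hy).pow_left k)
    obtain ⟨m, hm⟩ := Nat.chineseRemainder hcop 1 0
    have hu' : g ^ m = u := by
      rw [← hgy, huy.mul_pow, pow_eq_pow_iff_modEq.2 hm.1 |>.trans (pow_one u),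
        (pow_eq_pow_iff_modEq.2 hm.2).trans (pow_zero y), mul_one]
    intro s hs
    obtain ⟨l, -, rfl⟩ := Finset.mem_image.1
      ((isOfFinOrder_of_finite u).mem_zpowers_iff_mem_range_orderOf.1 hs)
    have := hg.pow_left (m * l)
    rwa [MonoidAlgebra.single_pow, one_pow, pow_mul, hu'] at this
  set ε0 := br U ε with hε0
  have he0 : IsIdempotentElem ε0 := br_idempotent hU hfixU he
  have hg0 : Commute G1 ε0 := commute_br hgu hg
  have hfix0 : FixBy (U : Set G) ε0 := fun s hs =>
    commute_br (Subgroup.le_normalizer hs) (hfixU s hs)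
  set x := ε * ε0 * ε
  have hgx : Commute G1 x := (hg.mul_right hg0).mul_right hg
  have hfixx : FixBy (U : Set G) x := fun s hs =>
    ((hfixU s hs).mul_right (hfix0 s hs)).mul_right (hfixU s hs)
  have hbrx : br U x = ε0 := by
    rw [br_mul hU (fun s hs => (hfixU s hs).mul_right (hfix0 s hs)) hfixU,
      br_mul hU hfixU hfix0, br_idem, ← hε0, he0.eq, he0.eq]
  obtain ⟨n, h, hn, hei, hnil⟩ := exists_spectral (k := Residue hM) x
  obtain ⟨m, rfl⟩ : ∃ m, n = m + 1 := ⟨n - 1, by omega⟩
  set e := x ^ (m + 1) * Polynomial.aeval x h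
  set W := x ^ m * Polynomial.aeval x h
  have hcW : ∀ z, Commute z x → Commute z W := fun z hz =>
    (hz.pow_right m).mul_right (commute_aeval hz h)
  have hgW : Commute G1 W := hcW _ hgx
  have hfixW : FixBy (U : Set G) W := fun s hs => hcW _ (hfixx s hs)
  have hexW : e = x * W := by simp only [e, W, pow_succ']; rw [mul_assoc]
  have heWx : e = W * x := by rw [hexW, (hcW x (Commute.refl x)).eq]
  have hge : Commute G1 e := hexW ▸ hgx.mul_right hgW
  have hfixe : FixBy (U : Set G) e := fun s hs => hexW ▸ (hfixx s hs).mul_right (hfixW s hs)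
  have hεe : ε * e = e := by rw [hexW, ← mul_assoc]; simp only [x, ← mul_assoc, he.eq]
  have heε : e * ε = e := by rw [heWx, mul_assoc]; simp only [x, mul_assoc, he.eq]
  have hbxn : br U (x ^ (m + 1)) = ε0 := by
    have : ∀ l : ℕ, br U (x ^ (l + 1)) = ε0 := by
      intro l
      induction l with
      | zero => simpa using hbrx
      | succ l ih =>
        rw [pow_succ, br_mul hU (fun s hs => (hfixx s hs).pow_right _) hfixx, ih, hbrx, he0.eq]
    exact this m
  have hfixe' : FixBy (U : Set G) (1 - e) := fun s hs =>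
    (Commute.one_right _).sub_right (hfixe s hs)
  have h0e : ε0 * br U e = ε0 := by
    have h1 := congrArg (br U) hnil
    rw [br_mul hU (fun s hs => (hfixx s hs).pow_right _) hfixe', hbxn, br_zero, br_sub, br_one,
      mul_sub, mul_one, sub_eq_zero] at h1
    exact h1.symm
  have hbre : br U e = ε0 * br U W := by rw [hexW, br_mul hU hfixx hfixW, hbrx]
  have hbre' : br U e = br U W * ε0 := by rw [heWx, br_mul hU hfixW hfixx, hbrx]
  have he00 : br U e = ε0 := by
    rw [← h0e, hbre, ← mul_assoc, he0.eq]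
  -- the part killed by the Brauer map
  have hrest : IsIdempotentElem (ε - e) := by
    show (ε - e) * (ε - e) = ε - e
    rw [sub_mul, mul_sub, mul_sub, he.eq, hεe, heε, hei.eq, sub_self, sub_zero]
  have hsplit : tau hM χ g ε = tau hM χ g e + tau hM χ g (ε - e) := by
    conv_lhs => rw [← add_sub_cancel e ε]
    exact tau_add χ hei hrest (by rw [mul_sub, heε, hei.eq, sub_self])
      (by rw [sub_mul, hεe, hei.eq, sub_self]) hge (hg.sub_right hge)
  rw [tau_eq_zero_of_br hp χ hu hrest (hg.sub_right hge) (by rw [br_sub, he00, ← hε0, sub_self]),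
    add_zero] at hsplit
  rw [hsplit]
  set P := e * ε * ε0
  set Q := ε0 * (ε * W) * e
  have hPQ : P * Q = e := by
    calc P * Q = e * (ε * (ε0 * ε0) * ε) * W * e := by simp only [P, Q, mul_assoc]
      _ = e * (x * W) * e := by rw [he0.eq]; simp only [x, mul_assoc]
      _ = e := by rw [← hexW, hei.eq, hei.eq]
  have hgP : Commute G1 P := (hge.mul_right hg).mul_right hg0
  have hgQ : Commute G1 Q := (hg0.mul_right (hg.mul_right hgW)).mul_right hge
  have hfixP : FixBy (U : Set G) P := fun s hs =>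
    ((hfixe s hs).mul_right (hfixU s hs)).mul_right (hfix0 s hs)
  have hfixQ : FixBy (U : Set G) Q := fun s hs =>
    ((hfix0 s hs).mul_right ((hfixU s hs).mul_right (hfixW s hs))).mul_right (hfixe s hs)
  have hPe : e * P = P := by simp only [P, ← mul_assoc, hei.eq]
  have hf : IsIdempotentElem (Q * P) := by
    show Q * P * (Q * P) = Q * P
    rw [show Q * P * (Q * P) = Q * (P * Q) * P by simp only [mul_assoc], hPQ, mul_assoc, hPe]
  have hQP0 : ε0 * (Q * P) = Q * P := by simp only [Q, ← mul_assoc, he0.eq]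
  have hQP0' : Q * P * ε0 = Q * P := by simp only [P, mul_assoc, he0.eq]
  have hbrP : br U P = ε0 := by
    rw [br_mul hU (fun s hs => (hfixe s hs).mul_right (hfixU s hs)) hfix0,
      br_mul hU hfixe hfixU, br_idem, he00, ← hε0, he0.eq, he0.eq]
  have hbrQ : br U Q = ε0 := by
    rw [br_mul hU (fun s hs => (hfix0 s hs).mul_right ((hfixU s hs).mul_right (hfixW s hs))) hfixe,
      br_mul hU hfix0 (fun s hs => (hfixU s hs).mul_right (hfixW s hs)), br_mul hU hfixU hfixW,
      br_idem, ← hε0, ← mul_assoc, he0.eq, ← hbre, he00, he0.eq]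
  have hrest2 : IsIdempotentElem (ε0 - Q * P) := by
    show (ε0 - Q * P) * (ε0 - Q * P) = _
    rw [sub_mul, mul_sub, mul_sub, he0.eq, hQP0, hQP0', hf.eq, sub_self, sub_zero]
  have h0 : tau hM χ g ε0 = tau hM χ g (Q * P) + tau hM χ g (ε0 - Q * P) := by
    conv_lhs => rw [← add_sub_cancel (Q * P) ε0]
    exact tau_add χ hf hrest2 (by rw [mul_sub, hQP0', hf.eq, sub_self])
      (by rw [sub_mul, hQP0, hf.eq, sub_self]) (hgQ.mul_right hgP)
      (hg0.sub_right (hgQ.mul_right hgP))
  rw [tau_eq_zero_of_br hp χ hu hrest2 (hg0.sub_right (hgQ.mul_right hgP))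
    (by rw [br_sub, br_idem, ← hε0, br_mul hU hfixQ hfixP, hbrP, hbrQ, he0.eq, sub_self]),
    add_zero] at h0
  rw [h0]
  exact tau_equiv χ hei hf hge (hgQ.mul_right hgP) hgP hgQ hPQ rfl

/-- On a subgroup fixing `ε` the value is a character. -/
theorem isCharacter_tau (χ : IrrCharacter G) {ε : KAlg hM G} (he : IsIdempotentElem ε)
    (E : Subgroup G) (hfix : FixBy (E : Set G) ε) :
    Cfsg.IsCharacter E fun g : E => tau hM χ (g : G) ε := by
  obtain ⟨a, ha, hra, hca⟩ := exists_lift_idem hM he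
  obtain ⟨n, ρ, hρ, hχ⟩ := χ.2
  set Af := ∑ g : G, ((a.coeff g : localSubring hM) : ℂ) • ρ g with hAf
  have hmul : Af * Af = Af := by
    rw [hAf, Finset.mul_sum]
    simp only [Finset.sum_mul, smul_mul_smul_comm, ← map_mul]
    have hc : ∀ k : G, ((a.coeff k : localSubring hM) : ℂ)
        = ∑ h, ((a.coeff h : localSubring hM) : ℂ) * ((a.coeff (h⁻¹ * k) : localSubring hM) : ℂ) := by
      intro k
      have h := congrArg (fun z : LAlg hM G => ((z.coeff k : localSubring hM) : ℂ)) ha.eq
      simp only [coeff_mul_eq, AddSubmonoidClass.coe_finsetSum, MulMemClass.coe_mul] at h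
      exact h.symm
    rw [Finset.sum_comm]
    conv_rhs => enter [2, k]; rw [hc k, Finset.sum_smul]
    conv_rhs => rw [Finset.sum_comm]
    refine Finset.sum_congr rfl fun h _ => Fintype.sum_equiv (Equiv.mulLeft h) _ _ fun g => ?_
    simp
  have hcomm : ∀ e ∈ E, Commute (ρ e) Af := by
    intro e he'
    show ρ e * Af = Af * ρ e
    rw [hAf, Finset.mul_sum, Finset.sum_mul]
    refine Fintype.sum_equiv (MulAut.conj e).toEquiv _ _ fun g => ?_
    simp only [MulEquiv.toEquiv_eq_coe, EquivLike.coe_coe, MulAut.conj_apply]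
    rw [(commute_single_iff e a).1 (hca e (hfix e he')) g]
    simp only [mul_smul_comm, smul_mul_assoc, ← map_mul]
    congr 2
    simp [mul_assoc]
  set W : Submodule ℂ (Fin n → ℂ) := LinearMap.range Af
  have hW : ∀ e : E, W ≤ W.comap (ρ.comp E.subtype e) := by
    rintro e _ ⟨v, rfl⟩
    exact ⟨ρ (e : G) v, congrArg (fun f => f v) (hcomm e e.2).eq.symm⟩
  refine (?_ : (fun g : E => tau hM χ (g : G) ε)
      = (Representation.subrepresentation (ρ.comp E.subtype) W hW).character) ▸
    CfsgLib.Char.isCharacter_of_rep _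
  funext g
  rw [← hra, tau_eq χ ha (hca g (hfix g g.2)), val_single_mul]
  have hfix' : ∀ v ∈ W, Af v = v := by
    rintro _ ⟨v, rfl⟩
    exact congrArg (fun f => f v) hmul
  have hr : (Representation.subrepresentation (ρ.comp E.subtype) W hW) g
      = (ρ (g : G) * Af).restrict fun v hv => by
          show ρ (g : G) (Af v) ∈ W
          rw [hfix' v hv]; exact hW g hv := by
    ext v
    exact congrArg (fun w => (ρ (g : G) w) _) (hfix' (v : Fin n → ℂ) v.2).symm
  show _ = LinearMap.trace ℂ W _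
  rw [hr, LinearMap.trace_restrict_eq_of_forall_mem W (ρ (g : G) * Af) fun v => by
    show ρ (g : G) (Af v) ∈ W
    exact hW g ⟨v, rfl⟩]
  rw [hAf, Finset.mul_sum, map_sum]
  refine Finset.sum_congr rfl fun h _ => ?_
  rw [mul_smul_comm, map_smul, ← map_mul, smul_eq_mul]
  congr 1
  exact congrFun hχ.symm _

end CfsgLib.BrouePuig
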